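import Groth.Agent.L22.IntMult.Stalk
import Groth.Agent.L05.Kosz.Samuel

/-!
Intersection multiplicities against regular sequences.
-/

set_option autoImplicit false
set_option linter.style.haveILetI false
set_option backward.isDefEq.respectTransparency false

universe u

open CategoryTheory AlgebraicGeometry IsLocalRing RingTheory.Sequence Filter Topology

namespace Groth.L22.IntMult

variable {A : Type u} [CommRing A]

theorem dim_zero_of_forall [IsLocalRing A] [IsNoetherianRing A] (I : Ideal A) (hI : I ≤ maximalIdeal A)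
    (h : ∀ p : Ideal A, p.IsPrime → I ≤ p → p = maximalIdeal A) : ringKrullDim (A ⧸ I) = 0 := by
  haveI : Nontrivial (A ⧸ I) :=
    Ideal.Quotient.nontrivial_iff.2 (ne_top_of_le_ne_top (maximalIdeal.isMaximal A).ne_top hI)
  haveI : Ring.KrullDimLE 0 (A ⧸ I) := Ring.krullDimLE_zero_iff.2 fun p hp => by
    haveI := hp
    have h1 := h (p.comap (Ideal.Quotient.mk I)) inferInstance
      (fun z hz => Ideal.mem_comap.2 (by rw [Ideal.Quotient.eq_zero_iff_mem.2 hz]; exact zero_mem _))
    rw [← Ideal.map_comap_of_surjective (Ideal.Quotient.mk I) Ideal.Quotient.mk_surjective p, h1]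
    refine (Ideal.map_eq_top_or_isMaximal_of_surjective _ Ideal.Quotient.mk_surjective
      (maximalIdeal.isMaximal A)).resolve_left fun ht => hp.ne_top ?_
    rw [← Ideal.map_comap_of_surjective (Ideal.Quotient.mk I) Ideal.Quotient.mk_surjective p, h1, ht]
  exact le_antisymm (Ring.krullDimLE_iff.1 inferInstance) ringKrullDim_nonneg_of_nontrivial

/-- A regular sequence generating the first ideal has the dimension of the second quotient as length. -/
theorem length_eq [IsLocalRing A] [IsNoetherianRing A] (P : Ideal A) (fs : List A) (hP : P = Ideal.ofList fs)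
    (hreg : IsRegular A fs) (a b : ℕ) (ha : ringKrullDim (A ⧸ P) = a)
    (hab : ringKrullDim A = ((a + b : ℕ) : WithBot ℕ∞)) : fs.length = b := by
  have h := ringKrullDim_add_length_eq_ringKrullDim_of_isRegular fs hreg
  rw [← hP, ha, hab] at h
  have : a + fs.length = a + b := by exact_mod_cast h
  omega

theorem mem_of_ofList [IsLocalRing A] (fs : List A) (hreg : IsRegular A fs) :
    ∀ x ∈ fs, x ∈ maximalIdeal A := by
  intro x hx
  by_contra hxm
  refine hreg.top_ne_smul ?_
  have hu : IsUnit x := by simpa using hxm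
  rw [smul_eq_mul, Ideal.mul_top]
  exact (Ideal.eq_top_of_isUnit_mem (Ideal.ofList fs) (Ideal.subset_span (show x ∈ {r | r ∈ fs} from hx)) hu).symm

/-- The Samuel limit and positivity. -/
theorem tendsto_and_pos [IsRegularLocalRing A] (P Q : Ideal A) [Q.IsPrime] (fs : List A)
    (hP : P = Ideal.ofList fs) (hreg : IsRegular A fs) (a b : ℕ) (ha : ringKrullDim (A ⧸ P) = a)
    (hb : ringKrullDim (A ⧸ Q) = b) (hab : ringKrullDim A = ((a + b : ℕ) : WithBot ℕ∞))
    (hmax : ∀ p : Ideal A, p.IsPrime → P ⊔ Q ≤ p → p = maximalIdeal A) :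
    Tendsto (fun t : ℕ => (fs.length.factorial : ℝ) * ((Module.length A (A ⧸ (Q ⊔ P ^ t))).toNat : ℝ) /
      (t : ℝ) ^ fs.length) atTop (𝓝 (_root_.IntMult.chi A (A ⧸ Q) (A ⧸ P) : ℝ)) ∧
      0 < _root_.IntMult.chi A (A ⧸ Q) (A ⧸ P) := by
  subst hP
  have hgood : Groth.L05.Kosz.Good fs (A ⧸ Q) := fun p hp h1 h2 => by
    rw [Ideal.annihilator_quotient] at h1
    rw [hmax p hp (sup_le h2 h1)]
    exact maximalIdeal.isMaximal A
  have hchi := chi_eq_kosz fs hreg.toIsWeaklyRegular (A ⧸ Q)
  rw [hchi]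
  refine ⟨?_, Groth.L05.Kosz.chi_pos_of_eq fs (mem_of_ofList fs hreg) _ hgood ?_⟩
  · convert Groth.L05.Kosz.tendsto_samuel fs hgood using 6 with t
    refine LinearEquiv.length_eq ?_
    refine ((Submodule.quotEquivOfEq _ (Submodule.map (Submodule.mkQ Q) (Q ⊔ Ideal.ofList fs ^ t)) ?_).trans
      (Submodule.quotientQuotientEquivQuotient Q (Q ⊔ Ideal.ofList fs ^ t) le_sup_left)).symm
    rw [Ideal.smul_top_eq_map, Submodule.map_sup, Submodule.mkQ_map_self, bot_sup_eq]
    ext x
    rw [Submodule.restrictScalars_mem, Ideal.mem_map_iff_of_surjective (algebraMap A (A ⧸ Q)) Ideal.Quotient.mk_surjective]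
    exact Iff.rfl
  · rw [Module.supportDim_quotient_eq_ringKrullDim, hb, length_eq _ fs rfl hreg a b ha hab]

variable (k : Type u) [Field k] {X : Scheme.{u}} (f : X ⟶ Spec (CommRingCat.of k)) [Smooth f] [IsIntegral X]
  (IV IW : X.IdealSheafData) [IsIntegral IV.subscheme] [IsIntegral IW.subscheme] (n r s : ℕ)

include f in
theorem mult_eq_length_cm (hn : topologicalKrullDim X = n) (hr : topologicalKrullDim IV.support = r)
    (hs : topologicalKrullDim IW.support = s)
    (hprop : _root_.IntMult.ProperInt (IV.support : Set X) (IW.support : Set X) n r s) (ξ : X)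
    (hξV : ξ ∈ IV.support) (hξW : ξ ∈ IW.support)
    (hmax : ∀ ξ' : X, ξ' ∈ IV.support → ξ' ∈ IW.support → ξ' ⤳ ξ → ξ' = ξ)
    (fs : List (X.presheaf.stalk ξ)) (hfs : _root_.IntMult.stalkIdeal IV ξ = Ideal.ofList fs)
    (hreg : IsRegular (X.presheaf.stalk ξ) fs)
    (hW : LocCoh.IsCohenMacaulayLocalRing (↑(X.presheaf.stalk ξ) ⧸ _root_.IntMult.stalkIdeal IW ξ)) :
    (_root_.IntMult.mult IV IW ξ : ℤ) = (Module.length (X.presheaf.stalk ξ)
      (↑(X.presheaf.stalk ξ) ⧸ (_root_.IntMult.stalkIdeal IW ξ ⊔ _root_.IntMult.stalkIdeal IV ξ))).toNat := by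
  obtain ⟨hA, hP, hQ, hmm, a, b, ha, hb, hab⟩ :=
    proper_facts k f IV IW n r s hn hr hs hprop ξ hξV hξW hmax
  haveI := hA
  have hlen := length_eq _ fs hfs hreg a b ha hab
  rw [_root_.IntMult.mult, hfs]
  refine chi_eq_length_of_cm _ fs hreg.toIsWeaklyRegular (mem_of_ofList fs hreg) hW (by rw [hb, hlen]) ?_
  refine dim_zero_of_forall _ (sup_le (le_maximalIdeal hQ.ne_top) (hfs ▸ le_maximalIdeal hP.ne_top)) ?_
  intro p hp hle
  exact hmm p hp (by rw [sup_comm, hfs]; exact hle)

end Groth.L22.IntMult
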