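import Groth.Agent.S1919
import Groth.Agent.S1873
import Groth.Agent.L07.CMInterScheme
import Groth.Agent.L08.Cube.NoCurve
import Groth.Agent.L22.IntMult.Main
import Groth.Agent.L22.Cyc.OrdGen
import Mathlib.RingTheory.HopkinsLevitzki

/-!
Intersection products with multiplicity one.
-/

set_option autoImplicit false
set_option linter.style.haveILetI false
set_option backward.isDefEq.respectTransparency false

universe u

open CategoryTheory CategoryTheory.Limits AlgebraicGeometry TopologicalSpace IsLocalRing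

namespace Groth.L22.IntMult

/-- Two ideals inside complementary primes which span the maximal ideal are those primes. -/
theorem eq_of_le_primes {A : Type u} [CommRing A] [IsRegularLocalRing A] (I J P Q : Ideal A) [P.IsPrime]
    [Q.IsPrime] (hIP : I ≤ P) (hJQ : J ≤ Q) (hIJ : I ⊔ J = maximalIdeal A) (a b : ℕ)
    (ha : ringKrullDim (A ⧸ P) = a) (hb : ringKrullDim (A ⧸ Q) = b)
    (hab : ringKrullDim A = ((a + b : ℕ) : WithBot ℕ∞)) :
    I = P ∧ J = Q ∧ IsRegularLocalRing (A ⧸ I) ∧ IsRegularLocalRing (A ⧸ J) := by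
  classical
  obtain ⟨T, hTc, hTs, hTIJ⟩ := exists_generators I J hIJ (a + b) hab
  let T₁ := T.filter (· ∈ I)
  let T₂ := T.filter (fun x => ¬ x ∈ I)
  have hc : T₁.card + T₂.card ≤ a + b := by
    rw [Finset.card_filter_add_card_filter_not]
    exact hTc
  have hsplit : maximalIdeal A = Ideal.span (T₁ : Set A) ⊔ Ideal.span (T₂ : Set A) := by
    rw [← Ideal.span_union, ← Finset.coe_union, Finset.filter_union_filter_not_eq, hTs]
  have h1 : (T₁ : Set A) ⊆ I := fun x hx => (Finset.mem_filter.1 hx).2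
  have h2 : (T₂ : Set A) ⊆ J := fun x hx => by
    obtain ⟨hxT, hxP⟩ := Finset.mem_filter.1 hx
    exact (hTIJ x hxT).resolve_left hxP
  obtain ⟨hage, hPk⟩ := eq_span_and_regular P T₁ T₂ (a + b) a hab hsplit (h1.trans hIP) hc ha
  obtain ⟨hbge, hQk⟩ := eq_span_and_regular Q T₂ T₁ (a + b) b hab (hsplit.trans (sup_comm _ _)) (h2.trans hJQ)
    (by omega) hb
  obtain ⟨hP, hPreg, -⟩ := hPk (by omega)
  obtain ⟨hQ, hQreg, -⟩ := hQk (by omega)
  have hI : Ideal.span (T₁ : Set A) = I := le_antisymm (Ideal.span_le.2 h1) (hIP.trans hP.ge)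
  have hJ : Ideal.span (T₂ : Set A) = J := le_antisymm (Ideal.span_le.2 h2) (hJQ.trans hQ.ge)
  exact ⟨hI.symm.trans hP, hJ.symm.trans hQ, hI ▸ hPreg, hJ ▸ hQreg⟩

variable {X : Scheme.{u}}

theorem stalkIdeal_mono {I J : X.IdealSheafData} (h : I ≤ J) (x : X) :
    _root_.IntMult.stalkIdeal I x ≤ _root_.IntMult.stalkIdeal J x :=
  iSup₂_mono fun U _ => Ideal.map_mono (h U)

/-- Generisations in the support come from primes over the stalk of the ideal. -/
theorem exists_prime_of_mem_support (I : X.IdealSheafData) {x ξ : X} (h : ξ ⤳ x) (hξ : ξ ∈ I.support) :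
    ∃ p : PrimeSpectrum (X.presheaf.stalk x),
      X.fromSpecStalk x p = ξ ∧ _root_.IntMult.stalkIdeal I x ≤ p.asIdeal := by
  obtain ⟨p, hp⟩ : ξ ∈ Set.range (X.fromSpecStalk x) := by rw [X.range_fromSpecStalk]; exact h
  refine ⟨p, hp, ?_⟩
  obtain ⟨U, hU, hxU, -⟩ := exists_isAffineOpen_mem_and_subset (x := x) (U := (⊤ : X.Opens)) trivial
  rw [stalkIdeal_eq, Groth.L20.SeeNormal.sI_eq I ⟨U, hU⟩ hxU, Ideal.map_le_iff_le_comap]
  rw [← hU.fromSpecStalk_eq_fromSpecStalk hxU] at hp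
  have hmem : ξ ∈ (I.support : Set X) ∩ U := ⟨hξ, h.mem_open U.2 hxU⟩
  rw [I.coe_support_inter ⟨U, hU⟩, ← hU.fromSpec_image_zeroLocus] at hmem
  obtain ⟨q, hq, hqe⟩ := hmem
  have hpq : (PrimeSpectrum.comap (X.presheaf.germ U x hxU).hom p) = q :=
    hU.fromSpec.isOpenEmbedding.injective (Eq.trans hp hqe.symm)
  intro a ha
  rw [← hpq] at hq
  exact hq ha

/-- The stalk of the intersection. -/
theorem ker_stalkMap_inter {Y Z : Scheme.{u}} (iY : Y ⟶ X) (iZ : Z ⟶ X) [IsClosedImmersion iY]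
    [IsClosedImmersion iZ] (w : ↥(pullback iY iZ)) :
    RingHom.ker ((pullback.fst iY iZ ≫ iY).stalkMap w).hom =
      _root_.IntMult.stalkIdeal iY.ker ((pullback.fst iY iZ ≫ iY) w) ⊔
        _root_.IntMult.stalkIdeal iZ.ker ((pullback.fst iY iZ ≫ iY) w) := by
  obtain ⟨V, hV, hwV, -⟩ := exists_isAffineOpen_mem_and_subset (x := (pullback.fst iY iZ ≫ iY) w)
    (U := (⊤ : X.Opens)) trivial
  rw [Groth.L20.Infinitesimal.ker_stalkMap, stalkIdeal_eq, stalkIdeal_eq,
    Groth.L20.SeeNormal.sI_eq _ ⟨V, hV⟩ hwV, Groth.L20.SeeNormal.sI_eq _ ⟨V, hV⟩ hwV,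
    Groth.L20.SeeNormal.sI_eq _ ⟨V, hV⟩ hwV, ← Ideal.map_sup]
  congr 1
  rw [Scheme.Hom.ker_apply, Scheme.Hom.ker_apply, Scheme.Hom.ker_apply]
  exact Groth.L07.CMInterScheme.ker_inter iY iZ hV

theorem finsum_fibre {Y : Scheme.{u}} (i : Y ⟶ X) [IsClosedImmersion i] (y : Y) (g : Y → ℤ) :
    ∑ᶠ z ∈ {z : Y | i z = i y}, g z = g y := by
  have : {z : Y | i z = i y} = {y} :=
    Set.ext fun z => ⟨fun h => i.isClosedEmbedding.injective h, fun h => by rw [h]; rfl⟩
  rw [this, finsum_mem_singleton]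

theorem exists_of_subschemeFun_ne_zero {Y : Scheme.{u}} {δ : X → ℤ} {r : ℤ} (i : Y ⟶ X) [IsClosedImmersion i]
    {x : X} (h : Cyc.subschemeFun δ r i x ≠ 0) :
    δ x = r ∧ ∃ y : Y, i y = x ∧
      Cyc.subschemeFun δ r i x = ((Module.length (Y.presheaf.stalk y) (Y.presheaf.stalk y)).toNat : ℤ) ∧
      (Module.length (Y.presheaf.stalk y) (Y.presheaf.stalk y)).toNat ≠ 0 := by
  unfold Cyc.subschemeFun at h ⊢
  split_ifs at h ⊢ with hx
  · refine ⟨hx, ?_⟩
    obtain ⟨y, hy, -⟩ := exists_ne_zero_of_finsum_mem_ne_zero h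
    have hy' : i y = x := hy
    subst hy'
    rw [finsum_fibre] at h ⊢
    exact ⟨y, rfl, rfl, fun h0 => h (by rw [h0]; rfl)⟩
  · exact absurd rfl h

/-- A localisation of a domain with finite nonzero length is a field. -/
theorem length_eq_one_of_specializes {Y : Scheme.{u}} {y y₀ : Y} (h : y ⤳ y₀)
    (hd : IsDomain (Y.presheaf.stalk y₀))
    (hl : (Module.length (Y.presheaf.stalk y) (Y.presheaf.stalk y)).toNat ≠ 0) :
    Module.length (Y.presheaf.stalk y) (Y.presheaf.stalk y) = 1 := by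
  letI := (Y.presheaf.stalkSpecializes h).hom.toAlgebra
  haveI : (RingHom.ker (Cyc.specMap y₀ y h)).IsPrime := RingHom.ker_isPrime _
  haveI hloc := Groth.L22.Cyc.isLocalization_stalkSpecializes h
  haveI : IsDomain (Y.presheaf.stalk y) :=
    IsLocalization.isDomain_of_le_nonZeroDivisors (M := (RingHom.ker (Cyc.specMap y₀ y h)).primeCompl) _
      (Ideal.primeCompl_le_nonZeroDivisors _)
  haveI : IsFiniteLength (Y.presheaf.stalk y) (Y.presheaf.stalk y) := Module.length_ne_top_iff.1 fun ht =>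
    hl (by rw [ht]; rfl)
  haveI : IsArtinianRing (Y.presheaf.stalk y) :=
    (isFiniteLength_iff_isNoetherian_isArtinian.1 ‹IsFiniteLength _ _›).2
  have hf : IsField (Y.presheaf.stalk y) := IsArtinianRing.isField_of_isDomain _
  haveI : IsSimpleModule (Y.presheaf.stalk y) (Y.presheaf.stalk y) :=
    (isSimpleModule_iff ..).2 (Ring.isField_iff_isSimpleOrder_ideal.1 hf)
  exact Module.length_eq_one _ _

variable {K : Type u} [Field K] [IsAlgClosed K] (f : X ⟶ Spec (CommRingCat.of K)) [Smooth f] [IsSeparated f]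
  [QuasiCompact f] [IsIntegral X] (δ : X → ℤ) (hX : Cyc.IsSetup X δ) (hδ : Cyc.DeltaCompat f δ (fun _ => 0))
  (n : ℤ) (hn : δ (genericPoint X) = n)

include f hδ hn in
theorem exists_dim (x : X) :
    ∃ N : ℕ, topologicalKrullDim X = N ∧ n = N ∧ ∃ d : ℕ, topologicalKrullDim (closure ({x} : Set X)) = d ∧ δ x = d := by
  obtain ⟨N, hN, hN'⟩ := Groth.Agent.S1919.delta_eq_dim K X f δ hδ (genericPoint X)
  refine ⟨N, ?_, hn.symm.trans hN', Groth.Agent.S1919.delta_eq_dim K X f δ hδ x⟩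
  rw [show closure ({genericPoint X} : Set X) = Set.univ from genericPoint_spec X,
    IsHomeomorph.topologicalKrullDim_eq _ (Homeomorph.Set.univ X).isHomeomorph] at hN
  exact hN

include hX in
theorem eq_of_delta {x y : X} (h : x ⤳ y) (hle : δ x ≤ δ y) : x = y := by
  by_contra hne
  exact absurd (hX.2.2 x y h hne).1 hle.not_gt

theorem mem_support_ptIdeal {ξ x : X} : x ∈ (_root_.IntMult.ptIdeal ξ).support ↔ ξ ⤳ x := by
  rw [_root_.IntMult.ptIdeal, ← SetLike.mem_coe, Scheme.IdealSheafData.coe_support_vanishingIdeal,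
    specializes_iff_mem_closure]
  rfl

theorem isIntegral_ptIdeal (ξ : X) : IsIntegral (_root_.IntMult.ptIdeal ξ).subscheme :=
  Groth.L08.Cube.isIntegral_vanishingIdeal _ isIrreducible_singleton.closure

include f hX hδ hn in
/-- The local facts at a pair of components. -/
theorem pair_facts (r s : ℤ) (α β : X → ℤ) (hprop : _root_.IntMult.IntersectProperly δ n α β) (τ : X)
    (hτ : δ τ = r + s - n) (ξ η : X) (hα : α ξ ≠ 0) (hβ : β η ≠ 0) (hξr : δ ξ = r) (hηs : δ η = s)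
    (hξ : ξ ⤳ τ) (hη : η ⤳ τ) :
    IsRegularLocalRing (X.presheaf.stalk τ) ∧
      (_root_.IntMult.stalkIdeal (_root_.IntMult.ptIdeal ξ) τ).IsPrime ∧
      (_root_.IntMult.stalkIdeal (_root_.IntMult.ptIdeal η) τ).IsPrime ∧
      (∃ a b : ℕ, ringKrullDim (↑(X.presheaf.stalk τ) ⧸ _root_.IntMult.stalkIdeal (_root_.IntMult.ptIdeal ξ) τ) = a ∧
        ringKrullDim (↑(X.presheaf.stalk τ) ⧸ _root_.IntMult.stalkIdeal (_root_.IntMult.ptIdeal η) τ) = b ∧
        ringKrullDim (X.presheaf.stalk τ) = ((a + b : ℕ) : WithBot ℕ∞)) ∧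
      (_root_.IntMult.stalkIdeal (_root_.IntMult.ptIdeal ξ) τ ⊔
          _root_.IntMult.stalkIdeal (_root_.IntMult.ptIdeal η) τ = maximalIdeal _ →
        _root_.IntMult.mult (_root_.IntMult.ptIdeal ξ) (_root_.IntMult.ptIdeal η) τ = 1) ∧
      ∀ p, _root_.IntMult.stalkIdeal (_root_.IntMult.ptIdeal ξ) τ ≤ p.asIdeal → ξ ⤳ X.fromSpecStalk τ p := by
  haveI := isIntegral_ptIdeal ξ
  haveI := isIntegral_ptIdeal η
  obtain ⟨N, hN, hnN, r', hr', hξr'⟩ := exists_dim f δ hδ n hn ξ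
  obtain ⟨s', hs', hηs'⟩ := Groth.Agent.S1919.delta_eq_dim K X f δ hδ η
  obtain ⟨t, -, hτt⟩ := Groth.Agent.S1919.delta_eq_dim K X f δ hδ τ
  have hr : topologicalKrullDim (_root_.IntMult.ptIdeal ξ).support = r' := by
    rw [← hr']
    show topologicalKrullDim ((_root_.IntMult.ptIdeal ξ).support : Set X) = _
    rw [_root_.IntMult.ptIdeal, Scheme.IdealSheafData.coe_support_vanishingIdeal]
    rfl
  have hs : topologicalKrullDim (_root_.IntMult.ptIdeal η).support = s' := by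
    rw [← hs']
    show topologicalKrullDim ((_root_.IntMult.ptIdeal η).support : Set X) = _
    rw [_root_.IntMult.ptIdeal, Scheme.IdealSheafData.coe_support_vanishingIdeal]
    rfl
  have hle : r' + s' - N = t ∧ N ≤ r' + s' := by omega
  have hP : _root_.IntMult.ProperInt ((_root_.IntMult.ptIdeal ξ).support : Set X)
      ((_root_.IntMult.ptIdeal η).support : Set X) N r' s' := by
    intro hne
    refine ⟨hle.2, ?_⟩
    haveI : QuasiSober ↥(((_root_.IntMult.ptIdeal ξ).support : Set X) ∩ (_root_.IntMult.ptIdeal η).support) :=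
      ((_root_.IntMult.ptIdeal ξ).support.isClosed.inter
        (_root_.IntMult.ptIdeal η).support.isClosed).isClosedEmbedding_subtypeVal.quasiSober
    rw [Groth.L22.FibreDim.topologicalKrullDim_eq_iSup_closure]
    refine iSup_le fun ζ => ?_
    obtain ⟨z, hz, hζz⟩ := Groth.Agent.S1919.delta_eq_dim K X f δ hδ ζ.1
    have hζ := hprop ξ η ζ.1 hα hβ (mem_support_ptIdeal.1 ζ.2.1) (mem_support_ptIdeal.1 ζ.2.2)
    have hzt : z ≤ r' + s' - N := by omega
    refine le_trans ?_ (show (z : WithBot ℕ∞) ≤ _ by exact_mod_cast hzt)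
    rw [← hz, ← Groth.L22.SchemeDim.topologicalKrullDim_eq_of_isEmbedding
      (Topology.IsEmbedding.subtypeVal.comp (Topology.IsEmbedding.subtypeVal (p := fun w => w ∈ closure {ζ})))
      (Set.range_comp _ _)]
    refine Groth.L22.SchemeDim.topologicalKrullDim_mono ?_
    rw [Subtype.range_coe]
    exact (image_closure_subset_closure_image continuous_subtype_val).trans (by rw [Set.image_singleton])
  have hmax : ∀ x, x ∈ (_root_.IntMult.ptIdeal ξ).support → x ∈ (_root_.IntMult.ptIdeal η).support → x ⤳ τ → x = τ := by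
    intro x hx hy hxτ
    have h := hprop ξ η x hα hβ (mem_support_ptIdeal.1 hx) (mem_support_ptIdeal.1 hy)
    exact eq_of_delta δ hX hxτ (by omega)
  obtain ⟨hA, hPp, hQp, -, a, b, ha, hb, hab⟩ := proper_facts K f (_root_.IntMult.ptIdeal ξ)
    (_root_.IntMult.ptIdeal η) N r' s' hN hr hs hP τ (mem_support_ptIdeal.2 hξ) (mem_support_ptIdeal.2 hη) hmax
  refine ⟨hA, hPp, hQp, ⟨a, b, ha, hb, hab⟩, fun hsup => ?_, fun p hp => ?_⟩
  · refine (Groth.Agent.S1873.result K X f _ _ N r' s' hN hr hs hP τ (mem_support_ptIdeal.2 hξ)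
      (mem_support_ptIdeal.2 hη) hmax ?_).1
    rw [hsup]
    haveI : IsSimpleModule (X.presheaf.stalk τ) (↑(X.presheaf.stalk τ) ⧸ maximalIdeal (X.presheaf.stalk τ)) :=
      isSimpleModule_iff_isCoatom.2 (Ideal.isMaximal_def.1 inferInstance)
    exact Module.length_eq_one _ _
  · exact mem_support_ptIdeal.1
      ((quotient_facts K f (_root_.IntMult.ptIdeal ξ) (mem_support_ptIdeal.2 hξ) r' hr).2.1 p hp)

theorem stalkIdeal_ker_le_ptIdeal {Y : Scheme.{u}} (i : Y ⟶ X) [IsClosedImmersion i] {ξ : X} (y : Y) (hy : i y = ξ)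
    (τ : X) : _root_.IntMult.stalkIdeal i.ker τ ≤ _root_.IntMult.stalkIdeal (_root_.IntMult.ptIdeal ξ) τ := by
  refine stalkIdeal_mono (Scheme.IdealSheafData.le_support_iff_le_vanishingIdeal.1 ?_) τ
  rw [← SetLike.coe_subset_coe, Scheme.Hom.support_ker]
  exact closure_mono (Set.singleton_subset_iff.2 ⟨y, hy⟩)

include f hX hδ hn in
theorem interProd_one {Y Z : Scheme.{u}} (ιY : Y ⟶ X) (ιZ : Z ⟶ X) [IsClosedImmersion ιY] [IsClosedImmersion ιZ]
    (r s : ℤ)
    (hprop : _root_.IntMult.IntersectProperly δ n (Cyc.subschemeFun δ r ιY) (Cyc.subschemeFun δ s ιZ)) (τ : X)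
    (hτ : δ τ = r + s - n)
    (hξ : ∃ ξ η : X, Cyc.subschemeFun δ r ιY ξ ≠ 0 ∧ Cyc.subschemeFun δ s ιZ η ≠ 0 ∧ ξ ⤳ τ ∧ η ⤳ τ)
    (hmult : Cyc.subschemeFun δ (r + s - n) (pullback.fst ιY ιZ ≫ ιY) τ = 1) :
    _root_.IntMult.interProd δ n (Cyc.subschemeFun δ r ιY) (Cyc.subschemeFun δ s ιZ) τ = 1 ∧
      (∀ y : Y, ιY y = τ → IsRegularLocalRing (Y.presheaf.stalk y)) ∧
      (∀ z : Z, ιZ z = τ → IsRegularLocalRing (Z.presheaf.stalk z)) := by
  obtain ⟨-, w, hwτ, hwl, hw0⟩ := exists_of_subschemeFun_ne_zero (pullback.fst ιY ιZ ≫ ιY) (x := τ)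
    (r := r + s - n) (δ := δ) (by rw [hmult]; exact one_ne_zero)
  rw [hmult] at hwl
  have hl1 : Module.length ((pullback ιY ιZ).presheaf.stalk w) ((pullback ιY ιZ).presheaf.stalk w) = 1 := by
    have h : (Module.length ((pullback ιY ιZ).presheaf.stalk w) ((pullback ιY ιZ).presheaf.stalk w)).toNat = 1 := by
      exact_mod_cast hwl.symm
    exact (ENat.toNat_eq_iff one_ne_zero).1 h
  subst hwτ
  set τ := (pullback.fst ιY ιZ ≫ ιY) w with hτdef
  have hIJ : _root_.IntMult.stalkIdeal ιY.ker τ ⊔ _root_.IntMult.stalkIdeal ιZ.ker τ = maximalIdeal _ := by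
    rw [← ker_stalkMap_inter]
    haveI := Module.length_eq_one_iff.1 hl1
    haveI : (RingHom.ker ((pullback.fst ιY ιZ ≫ ιY).stalkMap w).hom).IsMaximal :=
      Ideal.Quotient.maximal_of_isField (RingHom.ker ((pullback.fst ιY ιZ ≫ ιY).stalkMap w).hom) ((RingHom.quotientKerEquivOfSurjective
        (f := ((pullback.fst ιY ιZ ≫ ιY).stalkMap w).hom)
        ((pullback.fst ιY ιZ ≫ ιY).stalkMap_surjective w)).toMulEquiv.isField
          (Ring.isField_iff_isSimpleOrder_ideal.2 ((isSimpleModule_iff ..).1 this)))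
    exact IsLocalRing.eq_maximalIdeal inferInstance
  obtain ⟨ξ, η, hξ0, hη0, hξτ, hητ⟩ := hξ
  obtain ⟨hξr, y, hy, hyl, hy0⟩ := exists_of_subschemeFun_ne_zero ιY hξ0
  obtain ⟨hηs, z, hz, hzl, hz0⟩ := exists_of_subschemeFun_ne_zero ιZ hη0
  have key : ∀ ξ' η', Cyc.subschemeFun δ r ιY ξ' ≠ 0 → Cyc.subschemeFun δ s ιZ η' ≠ 0 → ξ' ⤳ τ → η' ⤳ τ →
      _root_.IntMult.stalkIdeal ιY.ker τ = _root_.IntMult.stalkIdeal (_root_.IntMult.ptIdeal ξ') τ ∧
      _root_.IntMult.stalkIdeal ιZ.ker τ = _root_.IntMult.stalkIdeal (_root_.IntMult.ptIdeal η') τ ∧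
      IsRegularLocalRing (↑(X.presheaf.stalk τ) ⧸ _root_.IntMult.stalkIdeal ιY.ker τ) ∧
      IsRegularLocalRing (↑(X.presheaf.stalk τ) ⧸ _root_.IntMult.stalkIdeal ιZ.ker τ) := by
    intro ξ' η' h1 h2 h3 h4
    obtain ⟨hd1, y', hy', -, -⟩ := exists_of_subschemeFun_ne_zero ιY h1
    obtain ⟨hd2, z', hz', -, -⟩ := exists_of_subschemeFun_ne_zero ιZ h2
    obtain ⟨hA, hPp, hQp, ⟨a, b, ha, hb, hab⟩, -, -⟩ :=
      pair_facts f δ hX hδ n hn r s _ _ hprop τ hτ ξ' η' h1 h2 hd1 hd2 h3 h4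
    haveI := hA
    haveI := hPp
    haveI := hQp
    exact eq_of_le_primes _ _ _ _ (stalkIdeal_ker_le_ptIdeal ιY y' hy' τ) (stalkIdeal_ker_le_ptIdeal ιZ z' hz' τ)
      hIJ a b ha hb hab
  obtain ⟨hI, hJ, hIreg, hJreg⟩ := key ξ η hξ0 hη0 hξτ hητ
  obtain ⟨hA, hPp, hQp, -, hm1, hspec⟩ :=
    pair_facts f δ hX hδ n hn r s _ _ hprop τ hτ ξ η hξ0 hη0 hξr hηs hξτ hητ
  obtain ⟨-, -, -, -, -, hspec'⟩ := pair_facts f δ hX hδ n hn s r _ _
    (fun a b c ha hb hac hbc => by have := hprop b a c hb ha hbc hac; omega) τ (by omega) η ξ hη0 hξ0 hηs hξr hητ hξτ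
  have hregY : ∀ y₀ : Y, ιY y₀ = τ → IsRegularLocalRing (Y.presheaf.stalk y₀) := by
    intro y₀ hy₀
    rw [← hy₀] at hIreg
    haveI := hIreg
    refine IsRegularLocalRing.of_ringEquiv ((Ideal.quotEquivOfEq
      (I := _root_.IntMult.stalkIdeal ιY.ker (ιY y₀)) (J := RingHom.ker (ιY.stalkMap y₀).hom) ?_).trans
      (RingHom.quotientKerEquivOfSurjective (f := (ιY.stalkMap y₀).hom) (ιY.stalkMap_surjective y₀)))
    rw [Groth.L20.Infinitesimal.ker_stalkMap, stalkIdeal_eq]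
  have hregZ : ∀ z₀ : Z, ιZ z₀ = τ → IsRegularLocalRing (Z.presheaf.stalk z₀) := by
    intro z₀ hz₀
    rw [← hz₀] at hJreg
    haveI := hJreg
    refine IsRegularLocalRing.of_ringEquiv ((Ideal.quotEquivOfEq
      (I := _root_.IntMult.stalkIdeal ιZ.ker (ιZ z₀)) (J := RingHom.ker (ιZ.stalkMap z₀).hom) ?_).trans
      (RingHom.quotientKerEquivOfSurjective (f := (ιZ.stalkMap z₀).hom) (ιZ.stalkMap_surjective z₀)))
    rw [Groth.L20.Infinitesimal.ker_stalkMap, stalkIdeal_eq]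
  refine ⟨?_, hregY, hregZ⟩
  have hyz : ιZ (pullback.snd ιY ιZ w) = τ := by
    rw [hτdef, ← Scheme.Hom.comp_apply, ← pullback.condition]
  have hyy : ιY (pullback.fst ιY ιZ w) = τ := rfl
  have hy1 : Cyc.subschemeFun δ r ιY ξ = 1 := by
    haveI := hregY _ hyy
    rw [hyl, length_eq_one_of_specializes (y₀ := pullback.fst ιY ιZ w)
      (ιY.isEmbedding.toIsInducing.specializes_iff.1 (by rw [hy, hyy]; exact hξτ))
      (Groth.L01.isDomain_of_regular _) hy0]
    rfl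
  have hz1 : Cyc.subschemeFun δ s ιZ η = 1 := by
    haveI := hregZ _ hyz
    rw [hzl, length_eq_one_of_specializes (y₀ := pullback.snd ιY ιZ w)
      (ιZ.isEmbedding.toIsInducing.specializes_iff.1 (by rw [hz, hyz]; exact hητ))
      (Groth.L01.isDomain_of_regular _) hz0]
    rfl
  rw [_root_.IntMult.interProd, finsum_eq_single _ ⟨(ξ, η), hξτ, hητ, show δ ξ + δ η - n = δ τ by omega⟩ ?_]
  · show Cyc.subschemeFun δ r ιY ξ * Cyc.subschemeFun δ s ιZ η * _ = 1
    rw [hy1, hz1, one_mul, one_mul]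
    exact hm1 (by rw [← hI, ← hJ]; exact hIJ)
  · rintro ⟨⟨ξ', η'⟩, h3, h4, h5⟩ hne
    by_contra h0
    obtain ⟨h01, h02⟩ := mul_ne_zero_iff.1 (left_ne_zero_of_mul h0)
    obtain ⟨hI', hJ', -, -⟩ := key ξ' η' h01 h02 h3 h4
    obtain ⟨p, hp, hpI⟩ := exists_prime_of_mem_support (_root_.IntMult.ptIdeal ξ') h3
      (mem_support_ptIdeal.2 (specializes_rfl))
    obtain ⟨q, hq, hqI⟩ := exists_prime_of_mem_support (_root_.IntMult.ptIdeal η') h4
      (mem_support_ptIdeal.2 (specializes_rfl))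
    have g1 := hspec p ((hI.symm.trans hI').le.trans hpI)
    have g2 := hspec' q ((hJ.symm.trans hJ').le.trans hqI)
    rw [hp] at g1
    rw [hq] at g2
    have e1 : ξ = ξ' := eq_of_delta δ hX g1 (by rw [hξr, (exists_of_subschemeFun_ne_zero ιY h01).1])
    have e2 : η = η' := eq_of_delta δ hX g2 (by rw [hηs, (exists_of_subschemeFun_ne_zero ιZ h02).1])
    subst e1 e2
    exact hne rfl

end Groth.L22.IntMult
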