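import Groth.Agent.L22.IntMult.DiagDim

/-!
Intersection multiplicities on smooth varieties are positive.
-/

set_option autoImplicit false
set_option linter.style.haveILetI false
set_option backward.isDefEq.respectTransparency false

universe u

open CategoryTheory AlgebraicGeometry IsLocalRing

namespace Groth.L22.IntMult

theorem chi_pos_stalk (k : Type u) [Field k] {X : Scheme.{u}} (f : X ⟶ Spec (CommRingCat.of k)) [Smooth f] (x : X)
    (P Q : Ideal (X.presheaf.stalk x)) [IsRegularLocalRing (X.presheaf.stalk x)]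
    (hP : P ≤ maximalIdeal _) (hQ : Q ≤ maximalIdeal _) (a b : ℕ)
    (ha : ringKrullDim (↑(X.presheaf.stalk x) ⧸ P) = a) (hb : ringKrullDim (↑(X.presheaf.stalk x) ⧸ Q) = b)
    (hab : ringKrullDim (X.presheaf.stalk x) = ((a + b : ℕ) : WithBot ℕ∞))
    (hmax : ∀ W : Ideal (X.presheaf.stalk x), W.IsPrime → P ⊔ Q ≤ W → W = maximalIdeal _) :
    0 < _root_.IntMult.chi (X.presheaf.stalk x) (↑(X.presheaf.stalk x) ⧸ P) (↑(X.presheaf.stalk x) ⧸ Q) := by
  obtain ⟨U, hU, V, hV, hx, e, h⟩ := Smooth.exists_isStandardSmooth f x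
  have hUtop : U = ⊤ := by
    ext y
    simp only [TopologicalSpace.Opens.coe_top, Set.mem_univ, iff_true]
    obtain rfl : y = f x := Subsingleton.elim (α := PrimeSpectrum k) _ _
    exact e hx
  subst hUtop
  have h' : ((f.appLE ⊤ V e).hom.comp (Scheme.ΓSpecIso (CommRingCat.of k)).inv.hom).IsStandardSmooth :=
    RingHom.isStandardSmooth_respectsIso.2 _
      (Scheme.ΓSpecIso (CommRingCat.of k)).symm.commRingCatIsoToRingEquiv h
  letI : Algebra k Γ(X, V) :=
    ((f.appLE ⊤ V e).hom.comp (Scheme.ΓSpecIso (CommRingCat.of k)).inv.hom).toAlgebra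
  haveI : Algebra.IsStandardSmooth k Γ(X, V) := h'
  haveI : Algebra.Smooth k Γ(X, V) := inferInstance
  letI := X.presheaf.algebra_section_stalk ⟨x, hx⟩
  haveI := hV.isLocalization_stalk ⟨x, hx⟩
  exact chi_pos k (hV.primeIdealOf ⟨x, hx⟩).asIdeal (X.presheaf.stalk x) P Q hP hQ a b ha hb hab hmax

theorem chi_zero_stalk (k : Type u) [Field k] {X : Scheme.{u}} (f : X ⟶ Spec (CommRingCat.of k)) [Smooth f] (x : X)
    (P Q : Ideal (X.presheaf.stalk x)) [IsRegularLocalRing (X.presheaf.stalk x)]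
    (hP : P ≤ maximalIdeal _) (hQ : Q ≤ maximalIdeal _) (a b d : ℕ)
    (ha : ringKrullDim (↑(X.presheaf.stalk x) ⧸ P) = a) (hb : ringKrullDim (↑(X.presheaf.stalk x) ⧸ Q) = b)
    (hd : ringKrullDim (X.presheaf.stalk x) = (d : WithBot ℕ∞)) (hlt : a + b < d)
    (hmax : ∀ W : Ideal (X.presheaf.stalk x), W.IsPrime → P ⊔ Q ≤ W → W = maximalIdeal _) :
    _root_.IntMult.chi (X.presheaf.stalk x) (↑(X.presheaf.stalk x) ⧸ P) (↑(X.presheaf.stalk x) ⧸ Q) = 0 := by
  obtain ⟨U, hU, V, hV, hx, e, h⟩ := Smooth.exists_isStandardSmooth f x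
  have hUtop : U = ⊤ := by
    ext y
    simp only [TopologicalSpace.Opens.coe_top, Set.mem_univ, iff_true]
    obtain rfl : y = f x := Subsingleton.elim (α := PrimeSpectrum k) _ _
    exact e hx
  subst hUtop
  have h' : ((f.appLE ⊤ V e).hom.comp (Scheme.ΓSpecIso (CommRingCat.of k)).inv.hom).IsStandardSmooth :=
    RingHom.isStandardSmooth_respectsIso.2 _
      (Scheme.ΓSpecIso (CommRingCat.of k)).symm.commRingCatIsoToRingEquiv h
  letI : Algebra k Γ(X, V) :=
    ((f.appLE ⊤ V e).hom.comp (Scheme.ΓSpecIso (CommRingCat.of k)).inv.hom).toAlgebra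
  haveI : Algebra.IsStandardSmooth k Γ(X, V) := h'
  haveI : Algebra.Smooth k Γ(X, V) := inferInstance
  letI := X.presheaf.algebra_section_stalk ⟨x, hx⟩
  haveI := hV.isLocalization_stalk ⟨x, hx⟩
  exact chi_eq_zero k (hV.primeIdealOf ⟨x, hx⟩).asIdeal (X.presheaf.stalk x) P Q hP hQ a b d ha hb hd hlt hmax

end Groth.L22.IntMult
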