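import Groth.Agent.L22.IntMult.ChiExpand
import Groth.Agent.L22.IntMult.Positive
import Groth.Agent.L22.IntMult.CycleOne
import Groth.Agent.L15.Ref.Reflexive
import Groth.Agent.L11.LenSpec.Alg

/-!
The Tor formula for the intersection of the cycles of two coherent sheaves.
-/

set_option autoImplicit false
set_option linter.style.haveILetI false
set_option backward.isDefEq.respectTransparency false

universe u

open CategoryTheory CategoryTheory.Limits AlgebraicGeometry IsLocalRing Groth.L22.QuotLength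

noncomputable section

namespace Groth.L22.IntMult

variable {X : Scheme.{u}}

/-- The prime of a generization. -/
def ptPrime {ξ x : X} (h : ξ ⤳ x) : PrimeSpectrum (X.presheaf.stalk x) :=
  PrimeSpectrum.comap (X.presheaf.stalkSpecializes h).hom (closedPoint (X.presheaf.stalk ξ))

theorem fromSpecStalk_ptPrime {ξ x : X} (h : ξ ⤳ x) : X.fromSpecStalk x (ptPrime h) = ξ := by
  have e := congrArg (fun φ : Spec (X.presheaf.stalk ξ) ⟶ X => φ (closedPoint (X.presheaf.stalk ξ)))
    (Scheme.SpecMap_stalkSpecializes_fromSpecStalk (X := X) h)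
  exact e.trans Scheme.fromSpecStalk_closedPoint

theorem eq_ptPrime {ξ x : X} {p : PrimeSpectrum (X.presheaf.stalk x)} (hp : X.fromSpecStalk x p = ξ) (h : ξ ⤳ x) :
    p = ptPrime h :=
  (X.fromSpecStalk x).isEmbedding.injective (hp.trans (fromSpecStalk_ptPrime h).symm)

theorem specializes_fromSpecStalk {x : X} (p : PrimeSpectrum (X.presheaf.stalk x)) :
    X.fromSpecStalk x p ⤳ x := by
  rw [← Set.mem_ofPred_eq (p := fun z => z ⤳ x), ← X.range_fromSpecStalk]
  exact ⟨p, rfl⟩

theorem ptPrime_asIdeal {ξ x : X} (h : ξ ⤳ x) :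
    (ptPrime h).asIdeal = RingHom.ker (Cyc.specMap x ξ h) := by
  ext a
  rw [RingHom.mem_ker, Groth.L22.Cyc.specMap_eq_residue]
  exact (IsLocalRing.residue_eq_zero_iff _).symm

section Stalk

variable [IsLocallyNoetherian X]

/-- Stalks at generizations are localizations. -/
theorem locLen_stalk {F : X.Modules} (hF : Coh.IsCoh F) {x z : X} (h : z ⤳ x) :
    locLen (F.presheaf.stalk x) (ptPrime h) = Module.length (X.presheaf.stalk z) (F.presheaf.stalk z) := by
  haveI : Coh.IsQCoh F := hF.1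
  obtain ⟨V, hV, hxV, -⟩ := exists_isAffineOpen_mem_and_subset (x := x) (U := ⊤) trivial
  have hzV : z ∈ V := h.mem_open V.2 hxV
  letI := (X.presheaf.stalkSpecializes h).hom.toAlgebra
  letI := X.presheaf.algebra_section_stalk (⟨x, hxV⟩ : V)
  letI : Algebra Γ(X, V) (X.presheaf.stalk z) := X.presheaf.algebra_section_stalk (⟨z, hzV⟩ : V)
  haveI : IsScalarTower Γ(X, V) (X.presheaf.stalk x) (X.presheaf.stalk z) :=
    IsScalarTower.of_algebraMap_eq' (congrArg CommRingCat.Hom.hom
      (X.presheaf.germ_stalkSpecializes (hy := hxV) h)).symm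
  letI := Groth.L20.ModStalk.stalkModule F hxV
  letI : Module Γ(X, V) (F.presheaf.stalk z) := Groth.L20.ModStalk.stalkModule F hzV
  letI : Module (X.presheaf.stalk x) (F.presheaf.stalk z) :=
    Module.compHom _ (X.presheaf.stalkSpecializes h).hom
  haveI : IsScalarTower (X.presheaf.stalk x) (X.presheaf.stalk z) (F.presheaf.stalk z) :=
    .of_algebraMap_smul fun _ _ => rfl
  haveI : IsScalarTower Γ(X, V) (X.presheaf.stalk x) (F.presheaf.stalk x) := .of_algebraMap_smul fun _ _ => rfl
  haveI : IsScalarTower Γ(X, V) (X.presheaf.stalk z) (F.presheaf.stalk z) := .of_algebraMap_smul fun _ _ => rfl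
  haveI : IsScalarTower Γ(X, V) (X.presheaf.stalk x) (F.presheaf.stalk z) := .of_algebraMap_smul fun r v => by
    show X.presheaf.stalkSpecializes h (X.presheaf.germ V x hxV r) • v = X.presheaf.germ V z hzV r • v
    rw [TopCat.Presheaf.germ_stalkSpecializes_apply]
  haveI := hV.isLocalization_stalk ⟨x, hxV⟩
  haveI : IsLocalization.AtPrime (X.presheaf.stalk z) (hV.primeIdealOf ⟨z, hzV⟩).asIdeal :=
    hV.isLocalization_stalk ⟨z, hzV⟩
  haveI := Groth.L20.ModStalk.isLocalizedModule_germ F hV hxV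
  haveI := Groth.L20.ModStalk.isLocalizedModule_germ F hV hzV
  have bx : IsBaseChange (X.presheaf.stalk x) (Groth.L20.ModStalk.germₗ F hxV) :=
    IsLocalizedModule.isBaseChange (hV.primeIdealOf ⟨x, hxV⟩).asIdeal.primeCompl _ _
  have bz : IsBaseChange (X.presheaf.stalk z) (Groth.L20.ModStalk.germₗ F hzV) :=
    IsLocalizedModule.isBaseChange (hV.primeIdealOf ⟨z, hzV⟩).asIdeal.primeCompl _ _
  let sp : F.presheaf.stalk x →ₗ[X.presheaf.stalk x] F.presheaf.stalk z :=
    { toFun := fun v => F.presheaf.stalkSpecializes h v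
      map_add' := map_add _
      map_smul' := fun r v => Groth.L15.SecOrd.stalkSpecializes_smul F h r v }
  have hsp : IsBaseChange (X.presheaf.stalk z) sp := by
    refine IsBaseChange.of_comp bx ?_
    rw [show (sp : F.presheaf.stalk x →ₗ[Γ(X, V)] F.presheaf.stalk z) ∘ₗ Groth.L20.ModStalk.germₗ F hxV =
      Groth.L20.ModStalk.germₗ F hzV from LinearMap.ext fun m => TopCat.Presheaf.germ_stalkSpecializes_apply _ hxV h m]
    exact bz
  haveI : IsLocalization (ptPrime h).asIdeal.primeCompl (X.presheaf.stalk z) := by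
    haveI : (RingHom.ker (Cyc.specMap x z h)).IsPrime := RingHom.ker_isPrime _
    have h1 := Groth.L22.Cyc.isLocalization_stalkSpecializes h
    have hS : (ptPrime h).asIdeal.primeCompl = (RingHom.ker (Cyc.specMap x z h)).primeCompl :=
      Submonoid.ext fun a => by
        show a ∉ (ptPrime h).asIdeal ↔ a ∉ RingHom.ker (Cyc.specMap x z h)
        rw [ptPrime_asIdeal]
    rw [hS]
    exact h1
  haveI : IsLocalizedModule (ptPrime h).asIdeal.primeCompl sp :=
    (isLocalizedModule_iff_isBaseChange (ptPrime h).asIdeal.primeCompl (X.presheaf.stalk z) sp).2 hsp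
  exact Groth.L11.LenSpec.length_eq_of_isLocalizedModule (ptPrime h).asIdeal.primeCompl
    (Localization.AtPrime (ptPrime h).asIdeal) (X.presheaf.stalk z)
    (LocalizedModule.mkLinearMap (ptPrime h).asIdeal.primeCompl (F.presheaf.stalk x)) sp

theorem mem_support_iff_nontrivial {F : X.Modules} (hF : Coh.IsCoh F) {x : X}
    (p : PrimeSpectrum (X.presheaf.stalk x)) :
    p ∈ Module.support (X.presheaf.stalk x) (F.presheaf.stalk x) ↔
      Nontrivial (F.presheaf.stalk (X.fromSpecStalk x p)) := by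
  have h := specializes_fromSpecStalk p
  conv_lhs => rw [eq_ptPrime rfl h]
  have e := locLen_stalk hF h
  rw [← not_subsingleton_iff_nontrivial, ← Module.length_eq_zero_iff (R := X.presheaf.stalk (X.fromSpecStalk x p)), ← e,
    locLen, Module.length_eq_zero_iff, ← Module.notMem_support_iff, not_not]

theorem nontrivial_of_specializes {F : X.Modules} (hF : Coh.IsCoh F) {x z : X} (h : z ⤳ x)
    (hz : Nontrivial (F.presheaf.stalk z)) : Nontrivial (F.presheaf.stalk x) := by
  have h1 := (mem_support_iff_nontrivial hF (ptPrime h)).2 (by rw [fromSpecStalk_ptPrime]; exact hz)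
  exact not_subsingleton_iff_nontrivial.1 fun hs => by
    rw [Module.support_eq_empty_iff.2 hs] at h1
    exact h1

theorem exists_nontrivial_generization {F : X.Modules} {x : X} (hx : Nontrivial (F.presheaf.stalk x)) :
    (Module.support (X.presheaf.stalk x) (F.presheaf.stalk x)).Nonempty :=
  Set.nonempty_iff_ne_empty.2 fun h => not_subsingleton_iff_nontrivial.2 hx (Module.support_eq_empty_iff.1 h)

end Stalk

theorem sheafFun_ne_zero {δ : X → ℤ} {r : ℤ} {F : X.Modules} {ξ : X} (h : Cyc.sheafFun δ r F ξ ≠ 0) :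
    δ ξ = r ∧ Nontrivial (F.presheaf.stalk ξ) := by
  unfold Cyc.sheafFun at h
  split_ifs at h with hr
  · refine ⟨hr, not_subsingleton_iff_nontrivial.1 fun hs => h ?_⟩
    rw [Module.length_eq_zero]
    rfl
  · exact absurd rfl h

variable {K : Type u} [Field K] (f : X ⟶ Spec (CommRingCat.of K)) [Smooth f] [IsSeparated f]
  [QuasiCompact f] [IsIntegral X] (δ : X → ℤ) (hδ : Cyc.DeltaCompat f δ (fun _ => 0))

include f hδ in
/-- The prime of a generization and the ideal of its closure. -/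
theorem ptPrime_facts {ξ x : X} (h : ξ ⤳ x) :
    _root_.IntMult.stalkIdeal (_root_.IntMult.ptIdeal ξ) x = (ptPrime h).asIdeal ∧
      ∃ c : ℕ, ringKrullDim (↑(X.presheaf.stalk x) ⧸ (ptPrime h).asIdeal) = c ∧ (c : ℤ) = δ ξ - δ x := by
  haveI := isIntegral_ptIdeal ξ
  obtain ⟨r, hr, hξr⟩ := Groth.Agent.S1919.delta_eq_dim K X f δ hδ ξ
  obtain ⟨z, hz, hxz⟩ := Groth.Agent.S1919.delta_eq_dim K X f δ hδ x
  have hr' : topologicalKrullDim (_root_.IntMult.ptIdeal ξ).support = r := by
    rw [← hr]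
    show topologicalKrullDim ((_root_.IntMult.ptIdeal ξ).support : Set X) = _
    rw [_root_.IntMult.ptIdeal, Scheme.IdealSheafData.coe_support_vanishingIdeal]
    rfl
  obtain ⟨hp, hspec, c, z', hc, hz', hcz⟩ := quotient_facts K f (_root_.IntMult.ptIdeal ξ) (mem_support_ptIdeal.2 h) r hr'
  obtain ⟨q, hq, hqI⟩ := exists_prime_of_mem_support (_root_.IntMult.ptIdeal ξ) h (mem_support_ptIdeal.2 specializes_rfl)
  rw [eq_ptPrime hq h] at hqI
  have h1 := mem_support_ptIdeal.1 (hspec ⟨_, hp⟩ le_rfl)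
  replace h1 := (specializes_of_eq (fromSpecStalk_ptPrime h)).trans h1
  rw [(X.fromSpecStalk x).isEmbedding.toIsInducing.specializes_iff, ← PrimeSpectrum.le_iff_specializes] at h1
  have he : _root_.IntMult.stalkIdeal (_root_.IntMult.ptIdeal ξ) x = (ptPrime h).asIdeal := le_antisymm hqI h1
  refine ⟨he, c, he ▸ hc, ?_⟩
  have : z' = z := by exact_mod_cast hz'.symm.trans hz
  omega

include f hδ in
theorem sheaf_formula (hX : Cyc.IsSetup X δ) (n : ℤ) (hn : δ (genericPoint X) = n) (F G : X.Modules) (hF : Coh.IsCoh F)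
    (hG : Coh.IsCoh G) (r s : ℤ) (hr : ∀ x : X, Nontrivial (F.presheaf.stalk x) → δ x ≤ r)
    (hs : ∀ x : X, Nontrivial (G.presheaf.stalk x) → δ x ≤ s)
    (hrs : ∀ x : X, Nontrivial (F.presheaf.stalk x) → Nontrivial (G.presheaf.stalk x) → δ x ≤ r + s - n) :
    _root_.IntMult.IntersectProperly δ n (Cyc.sheafFun δ r F) (Cyc.sheafFun δ s G) ∧
      ∀ ζ : X, _root_.IntMult.interProd δ n (Cyc.sheafFun δ r F) (Cyc.sheafFun δ s G) ζ =
        if δ ζ = r + s - n then _root_.IntMult.chi (X.presheaf.stalk ζ) (F.presheaf.stalk ζ) (G.presheaf.stalk ζ)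
        else 0 := by
  haveI := hX.1
  refine ⟨fun ξ η x hξ hη h1 h2 => ?_, fun x => ?_⟩
  · obtain ⟨e1, n1⟩ := sheafFun_ne_zero hξ
    obtain ⟨e2, n2⟩ := sheafFun_ne_zero hη
    rw [e1, e2]
    exact hrs x (nontrivial_of_specializes hF h1 n1) (nontrivial_of_specializes hG h2 n2)
  let J := {p : X × X // p.1 ⤳ x ∧ p.2 ⤳ x ∧ δ p.1 + δ p.2 - n = δ x}
  let T : J → ℤ := fun p => Cyc.sheafFun δ r F p.1.1 * Cyc.sheafFun δ s G p.1.2 *
    _root_.IntMult.mult (_root_.IntMult.ptIdeal p.1.1) (_root_.IntMult.ptIdeal p.1.2) x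
  have hT : ∀ p : J, T p ≠ 0 → δ p.1.1 = r ∧ Nontrivial (F.presheaf.stalk p.1.1) ∧ δ p.1.2 = s ∧
      Nontrivial (G.presheaf.stalk p.1.2) := fun p hp => by
    obtain ⟨h1, h2⟩ := mul_ne_zero_iff.1 (left_ne_zero_of_mul hp)
    exact ⟨(sheafFun_ne_zero h1).1, (sheafFun_ne_zero h1).2, (sheafFun_ne_zero h2).1, (sheafFun_ne_zero h2).2⟩
  show ∑ᶠ p : J, T p = _
  split_ifs with hx
  swap
  · refine finsum_eq_zero_of_forall_eq_zero fun p => ?_
    by_contra hp
    obtain ⟨e1, -, e2, -⟩ := hT p hp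
    exact hx (by have := p.2.2.2; omega)
  set A := X.presheaf.stalk x
  haveI hA : IsRegularLocalRing A := Groth.L21.Smooth.regular_stalk f x
  haveI : Module.Finite A (F.presheaf.stalk x) := Groth.L15.Ref.finite_stalk hF x
  haveI : Module.Finite A (G.presheaf.stalk x) := Groth.L15.Ref.finite_stalk hG x
  -- degenerate cases
  by_cases hFG : ¬ (Nontrivial (F.presheaf.stalk x) ∧ Nontrivial (G.presheaf.stalk x))
  · rw [finsum_eq_zero_of_forall_eq_zero fun p => ?_]
    · symm
      refine finsum_eq_zero_of_forall_eq_zero fun i => ?_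
      haveI : Subsingleton (DRing.Tor A i (F.presheaf.stalk x) (G.presheaf.stalk x)) := subsingleton_of_forall_eq 0 fun z => by
        rw [← one_smul A z]
        rcases not_and_or.1 hFG with h | h <;> haveI := not_nontrivial_iff_subsingleton.1 h
        · exact smul_tor_eq_zero i _ _ (fun m => Subsingleton.elim _ _) z
        · exact smul_tor_eq_zero' i _ _ (fun m => Subsingleton.elim _ _) z
      rw [Module.length_eq_zero]
      simp
    · by_contra hp
      obtain ⟨-, n1, -, n2⟩ := hT p hp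
      exact hFG ⟨nontrivial_of_specializes hF p.2.1 n1, nontrivial_of_specializes hG p.2.2.1 n2⟩
  rw [not_not] at hFG
  obtain ⟨hFn, hGn⟩ := hFG
  obtain ⟨a, ha⟩ : ∃ a : ℕ, (a : ℤ) = r - δ x := ⟨(r - δ x).toNat, Int.toNat_of_nonneg (by linarith [hr x hFn])⟩
  obtain ⟨b, hb⟩ : ∃ b : ℕ, (b : ℤ) = s - δ x := ⟨(s - δ x).toNat, Int.toNat_of_nonneg (by linarith [hs x hGn])⟩
  have hdimA : ringKrullDim A = ((a + b : ℕ) : WithBot ℕ∞) := by
    obtain ⟨N, c, z, hN, hc, hz, hcz⟩ := dim_stalk_add_closure K f x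
    obtain ⟨t, ht, hxt⟩ := Groth.Agent.S1919.delta_eq_dim K X f δ hδ x
    obtain ⟨N', hN', hnN⟩ := Groth.Agent.S1919.delta_eq_dim K X f δ hδ (genericPoint X)
    rw [show closure ({genericPoint X} : Set X) = Set.univ from genericPoint_spec X,
      IsHomeomorph.topologicalKrullDim_eq _ (Homeomorph.Set.univ X).isHomeomorph] at hN'
    have : N' = N := by exact_mod_cast hN'.symm.trans hN
    have : t = z := by exact_mod_cast ht.symm.trans hz
    rw [hc]
    exact congrArg (fun t : ℕ => (t : WithBot ℕ∞)) (by omega)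
  have hdimq : ∀ q : PrimeSpectrum A, ∃ c : ℕ, ringKrullDim (A ⧸ q.asIdeal) = c ∧
      (c : ℤ) = δ (X.fromSpecStalk x q) - δ x := fun q => by
    have h := (ptPrime_facts f δ hδ (specializes_fromSpecStalk q)).2
    rwa [← eq_ptPrime rfl (specializes_fromSpecStalk q)] at h
  have hbound : ∀ (H : X.Modules), Coh.IsCoh H → ∀ (t : ℤ) (c : ℕ), (c : ℤ) = t - δ x →
      (∀ y : X, Nontrivial (H.presheaf.stalk y) → δ y ≤ t) →
      ∀ q ∈ Module.support A (H.presheaf.stalk x), ringKrullDim (A ⧸ q.asIdeal) ≤ c := by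
    intro H hH t c hc hb' q hq
    obtain ⟨d, hd, hdz⟩ := hdimq q
    have := hb' _ ((mem_support_iff_nontrivial hH q).1 hq)
    rw [hd]
    exact_mod_cast (show d ≤ c by omega)
  have hmeet : Meet (A := A) (F.presheaf.stalk x) (G.presheaf.stalk x) := by
    intro q hq hq'
    have hle := hrs _ ((mem_support_iff_nontrivial hF q).1 hq) ((mem_support_iff_nontrivial hG q).1 hq')
    have heq := eq_of_delta δ hX (specializes_fromSpecStalk q) (by omega)
    exact congrArg PrimeSpectrum.asIdeal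
      ((X.fromSpecStalk x).isEmbedding.injective (heq.trans Scheme.fromSpecStalk_closedPoint.symm) :
        q = closedPoint A)
  rw [chi_eq_double_sum _ _ hmeet a b hdimA (hbound F hF r a ha hr) (hbound G hG s b hb hs) fun p q hpq hlt => ?_]
  rotate_left
  · obtain ⟨c, hc, -⟩ := hdimq p
    obtain ⟨c', hc', -⟩ := hdimq q
    refine chi_zero_stalk K f x p.asIdeal q.asIdeal (le_maximalIdeal p.2.ne_top) (le_maximalIdeal q.2.ne_top)
      c c' (a + b) hc hc' hdimA ?_ fun W hW hle => hpq ⟨W, hW⟩ ?_ ?_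
    · rw [hc, hc', hdimA] at hlt
      exact_mod_cast hlt
    · exact mem_support_quotient.2 (show p.asIdeal ≤ W from le_trans le_sup_left hle)
    · exact mem_support_quotient.2 (show q.asIdeal ≤ W from le_trans le_sup_right hle)
  let U : Top A a × Top A b → ℤ := fun pq => lc (F.presheaf.stalk x) pq.1.1 *
    (lc (G.presheaf.stalk x) pq.2.1 * _root_.IntMult.chi A (A ⧸ pq.2.1.asIdeal) (A ⧸ pq.1.1.asIdeal))
  have hUfin : (Function.support U).Finite := by
    refine ((hasFiniteSupport_lc (F.presheaf.stalk x) (hbound F hF r a ha hr) fun _ => 1).prod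
      (hasFiniteSupport_lc (G.presheaf.stalk x) (hbound G hG s b hb hs) fun _ => 1)).subset ?_
    intro pq hpq
    have h : lc (F.presheaf.stalk x) pq.1.1 * (lc (G.presheaf.stalk x) pq.2.1 *
      _root_.IntMult.chi A (A ⧸ pq.2.1.asIdeal) (A ⧸ pq.1.1.asIdeal)) ≠ 0 := hpq
    exact ⟨by simpa using left_ne_zero_of_mul h, by simpa using left_ne_zero_of_mul (right_ne_zero_of_mul h)⟩
  have hδq : ∀ {c : ℕ} (p : Top A c), δ (X.fromSpecStalk x p.1) = c + δ x := fun {c} p => by
    obtain ⟨d, hd, hdz⟩ := hdimq p.1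
    have : d = c := by exact_mod_cast hd.symm.trans p.2
    omega
  let e : Top A a × Top A b → J := fun pq => ⟨(X.fromSpecStalk x pq.1.1, X.fromSpecStalk x pq.2.1),
    specializes_fromSpecStalk _, specializes_fromSpecStalk _,
    show δ (X.fromSpecStalk x pq.1.1) + δ (X.fromSpecStalk x pq.2.1) - n = δ x by rw [hδq, hδq]; omega⟩
  have he : Function.Injective e := fun pq pq' h => by
    have h' := congrArg Subtype.val h
    exact Prod.ext (Subtype.ext ((X.fromSpecStalk x).isEmbedding.injective (congrArg Prod.fst h')))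
      (Subtype.ext ((X.fromSpecStalk x).isEmbedding.injective (congrArg Prod.snd h')))
  have hTU : ∀ pq, T (e pq) = U pq := fun pq => by
    have h1 := specializes_fromSpecStalk pq.1.1
    have h2 := specializes_fromSpecStalk pq.2.1
    have d1 : δ (X.fromSpecStalk x pq.1.1) = r := by rw [hδq]; omega
    have d2 : δ (X.fromSpecStalk x pq.2.1) = s := by rw [hδq]; omega
    show Cyc.sheafFun δ r F (X.fromSpecStalk x pq.1.1) * Cyc.sheafFun δ s G (X.fromSpecStalk x pq.2.1) *
      _root_.IntMult.mult _ _ x = _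
    rw [Cyc.sheafFun, Cyc.sheafFun, if_pos d1, if_pos d2, ← locLen_stalk hF h1, ← locLen_stalk hG h2,
      _root_.IntMult.mult, (ptPrime_facts f δ hδ h1).1, (ptPrime_facts f δ hδ h2).1,
      ← eq_ptPrime rfl h1, ← eq_ptPrime rfl h2, mul_assoc]
    rfl
  calc ∑ᶠ p : J, T p = ∑ᶠ p ∈ Set.range e, T p := by
        rw [← finsum_mem_univ]
        refine finsum_mem_inter_support_eq' _ _ _ fun p hp => ⟨fun _ => ?_, fun _ => trivial⟩
        obtain ⟨e1, -, e2, -⟩ := hT p hp
        obtain ⟨c, hc, hcz⟩ := (ptPrime_facts f δ hδ p.2.1).2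
        obtain ⟨c', hc', hcz'⟩ := (ptPrime_facts f δ hδ p.2.2.1).2
        have hca : c = a := by omega
        have hcb : c' = b := by omega
        refine ⟨(⟨ptPrime p.2.1, hca ▸ hc⟩, ⟨ptPrime p.2.2.1, hcb ▸ hc'⟩), Subtype.ext ?_⟩
        exact Prod.ext (fromSpecStalk_ptPrime p.2.1) (fromSpecStalk_ptPrime p.2.2.1)
    _ = ∑ᶠ pq, T (e pq) := finsum_mem_range he
    _ = ∑ᶠ pq, U pq := finsum_congr hTU
    _ = _ := by
        rw [finsum_curry U hUfin]
        refine finsum_congr fun p => ?_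
        rw [mul_finsum']
        exact hasFiniteSupport_lc (G.presheaf.stalk x) (hbound G hG s b hb hs)
          fun q => _root_.IntMult.chi A (A ⧸ q.asIdeal) (A ⧸ p.1.asIdeal)

end Groth.L22.IntMult
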