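import Groth.Agent.L22.IntMult.SheafPull
import Groth.Agent.L16.CohClosedPush

/-!
Flat pullback of the intersection of two cycles: reduction to cycles of integral closed subschemes.
-/

set_option autoImplicit false
set_option linter.style.haveILetI false
set_option backward.isDefEq.respectTransparency false

universe u

open CategoryTheory CategoryTheory.Limits AlgebraicGeometry IsLocalRing

noncomputable section

namespace Groth.L22.IntMult

section Finite

variable {X : Scheme.{u}} [IsLocallyNoetherian X]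

theorem finite_sheafFun_gen (δ : X → ℤ) (hδ : Cyc.IsDimFun X δ) (r : ℤ) (F : X.Modules) (hF : Coh.IsCoh F)
    (hb : ∀ z : X, Nontrivial (F.presheaf.stalk z) → δ z ≤ r) (x : X) :
    {z : X | z ⤳ x ∧ Cyc.sheafFun δ r F z ≠ 0}.Finite := by
  set A := X.presheaf.stalk x
  haveI : Module.Finite A (F.presheaf.stalk x) := Groth.L15.Ref.finite_stalk hF x
  have hfin : (Module.annihilator A (F.presheaf.stalk x)).minimalPrimes.Finite :=
    Ideal.finite_minimalPrimes_of_isNoetherianRing A _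
  refine ((hfin.preimage (fun p _ q _ h => PrimeSpectrum.ext h)).image (X.fromSpecStalk x)).subset ?_
  rintro z ⟨hzx, hz⟩
  obtain ⟨hr, hn⟩ := sheafFun_ne_zero hz
  refine ⟨ptPrime hzx, ?_, fromSpecStalk_ptPrime hzx⟩
  have hp : ptPrime hzx ∈ Module.support A (F.presheaf.stalk x) :=
    (mem_support_iff_nontrivial hF _).2 (by rw [fromSpecStalk_ptPrime]; exact hn)
  rw [Module.support_eq_zeroLocus, PrimeSpectrum.mem_zeroLocus] at hp
  refine ⟨⟨(ptPrime hzx).2, hp⟩, fun q hq hle => ?_⟩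
  let Q : PrimeSpectrum A := ⟨q, hq.1⟩
  have hQ : Q ∈ Module.support A (F.presheaf.stalk x) := by
    rw [Module.support_eq_zeroLocus, PrimeSpectrum.mem_zeroLocus]
    exact hq.2
  have h1 := hb _ ((mem_support_iff_nontrivial hF Q).1 hQ)
  have h2 : X.fromSpecStalk x Q ⤳ z :=
    ((PrimeSpectrum.le_iff_specializes Q (ptPrime hzx)).1 hle).map (X.fromSpecStalk x).continuous |>.trans
      (specializes_of_eq (fromSpecStalk_ptPrime hzx))
  by_contra hne
  have h3 := (hδ _ _ h2 fun he => hne ?_).1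
  · omega
  · have : Q = ptPrime hzx := eq_ptPrime he hzx
    rw [← this]

end Finite

section Bilin

variable {X : Scheme.{u}} (δ : X → ℤ) (n : ℤ) (ζ : X)

open Classical in
/-- The contribution of a pair of points. -/
def pairMult (ξ η : X) : ℤ :=
  if ξ ⤳ ζ ∧ η ⤳ ζ ∧ δ ξ + δ η - n = δ ζ then
    _root_.IntMult.mult (_root_.IntMult.ptIdeal ξ) (_root_.IntMult.ptIdeal η) ζ
  else 0

theorem interProd_expand (α β : X → ℤ) (S T : Finset X) (hS : ∀ ξ, ξ ⤳ ζ → α ξ ≠ 0 → ξ ∈ S)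
    (hT : ∀ η, η ⤳ ζ → β η ≠ 0 → η ∈ T) :
    _root_.IntMult.interProd δ n α β ζ = ∑ ξ ∈ S, ∑ η ∈ T, α ξ * β η * pairMult δ n ζ ξ η := by
  classical
  rw [← Finset.sum_product']
  have h0 : _root_.IntMult.interProd δ n α β ζ = ∑ᶠ (p : X × X) (_ : p ∈ {p : X × X | p.1 ⤳ ζ ∧ p.2 ⤳ ζ ∧
      δ p.1 + δ p.2 - n = δ ζ}), α p.1 * β p.2 *
        _root_.IntMult.mult (_root_.IntMult.ptIdeal p.1) (_root_.IntMult.ptIdeal p.2) ζ :=
    finsum_set_coe_eq_finsum_mem (f := fun p : X × X => α p.1 * β p.2 *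
      _root_.IntMult.mult (_root_.IntMult.ptIdeal p.1) (_root_.IntMult.ptIdeal p.2) ζ)
      {p : X × X | p.1 ⤳ ζ ∧ p.2 ⤳ ζ ∧ δ p.1 + δ p.2 - n = δ ζ}
  rw [h0]
  refine (finsum_congr fun p => ?_).trans
    (finsum_eq_sum_of_support_subset (fun p : X × X => α p.1 * β p.2 * pairMult δ n ζ p.1 p.2) fun p hp => ?_)
  · rw [finsum_eq_if, pairMult]
    split_ifs <;> simp_all
  · simp only [Function.mem_support, mul_ne_zero_iff, pairMult] at hp
    obtain ⟨⟨ha, hb⟩, hk⟩ := hp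
    split_ifs at hk with hc
    · exact Finset.mem_coe.2 (Finset.mem_product.2 ⟨hS _ hc.1 ha, hT _ hc.2.1 hb⟩)
    · exact absurd rfl hk

theorem interProd_bilin {ι κ : Type*} (I : Finset ι) (J : Finset κ) (c : ι → ℤ) (d : κ → ℤ)
    (a : ι → X → ℤ) (b : κ → X → ℤ) (α β : X → ℤ) (hα : ∀ z, z ⤳ ζ → α z = ∑ i ∈ I, c i * a i z)
    (hβ : ∀ z, z ⤳ ζ → β z = ∑ j ∈ J, d j * b j z)
    (ha : ∀ i ∈ I, {z | z ⤳ ζ ∧ a i z ≠ 0}.Finite) (hb : ∀ j ∈ J, {z | z ⤳ ζ ∧ b j z ≠ 0}.Finite) :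
    _root_.IntMult.interProd δ n α β ζ =
      ∑ i ∈ I, ∑ j ∈ J, c i * d j * _root_.IntMult.interProd δ n (a i) (b j) ζ := by
  classical
  have hS := I.finite_toSet.biUnion ha
  have hT := J.finite_toSet.biUnion hb
  set S := hS.toFinset with hSd
  set T := hT.toFinset with hTd
  have mS : ∀ i ∈ I, ∀ z, z ⤳ ζ → a i z ≠ 0 → z ∈ S := fun i hi z h1 h2 => by
    rw [hSd, Set.Finite.mem_toFinset]
    exact Set.mem_biUnion hi ⟨h1, h2⟩
  have mT : ∀ j ∈ J, ∀ z, z ⤳ ζ → b j z ≠ 0 → z ∈ T := fun j hj z h1 h2 => by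
    rw [hTd, Set.Finite.mem_toFinset]
    exact Set.mem_biUnion hj ⟨h1, h2⟩
  have gS : ∀ z ∈ S, z ⤳ ζ := fun z hz => by
    rw [hSd, Set.Finite.mem_toFinset, Set.mem_iUnion₂] at hz
    obtain ⟨_, _, h, _⟩ := hz
    exact h
  have gT : ∀ z ∈ T, z ⤳ ζ := fun z hz => by
    rw [hTd, Set.Finite.mem_toFinset, Set.mem_iUnion₂] at hz
    obtain ⟨_, _, h, _⟩ := hz
    exact h
  rw [interProd_expand δ n ζ α β S T (fun z h1 h2 => ?_) fun z h1 h2 => ?_]
  · calc ∑ x ∈ S, ∑ y ∈ T, α x * β y * pairMult δ n ζ x y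
        = ∑ x ∈ S, ∑ y ∈ T, ∑ i ∈ I, ∑ j ∈ J, c i * d j * (a i x * b j y * pairMult δ n ζ x y) := by
          refine Finset.sum_congr rfl fun x hx => Finset.sum_congr rfl fun y hy => ?_
          rw [hα x (gS x hx), hβ y (gT y hy), Finset.sum_mul_sum, Finset.sum_mul]
          refine Finset.sum_congr rfl fun i _ => ?_
          rw [Finset.sum_mul]
          exact Finset.sum_congr rfl fun j _ => by ring
      _ = ∑ i ∈ I, ∑ j ∈ J, ∑ x ∈ S, ∑ y ∈ T, c i * d j * (a i x * b j y * pairMult δ n ζ x y) := by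
          calc _ = ∑ x ∈ S, ∑ i ∈ I, ∑ y ∈ T, ∑ j ∈ J, c i * d j * (a i x * b j y * pairMult δ n ζ x y) :=
                Finset.sum_congr rfl fun x _ => Finset.sum_comm
            _ = ∑ i ∈ I, ∑ x ∈ S, ∑ j ∈ J, ∑ y ∈ T, c i * d j * (a i x * b j y * pairMult δ n ζ x y) := by
                rw [Finset.sum_comm]
                exact Finset.sum_congr rfl fun i _ => Finset.sum_congr rfl fun x _ => Finset.sum_comm
            _ = _ := Finset.sum_congr rfl fun i _ => Finset.sum_comm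
      _ = _ := by
          refine Finset.sum_congr rfl fun i hi => Finset.sum_congr rfl fun j hj => ?_
          rw [interProd_expand δ n ζ (a i) (b j) S T (mS i hi) (mT j hj), Finset.mul_sum]
          exact Finset.sum_congr rfl fun x _ => (Finset.mul_sum _ _ _).symm
  · rw [hα z h1] at h2
    obtain ⟨i, hi, hne⟩ := Finset.exists_ne_zero_of_sum_ne_zero h2
    exact mS i hi z h1 (right_ne_zero_of_mul hne)
  · rw [hβ z h1] at h2
    obtain ⟨j, hj, hne⟩ := Finset.exists_ne_zero_of_sum_ne_zero h2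
    exact mT j hj z h1 (right_ne_zero_of_mul hne)

end Bilin

section Indicator

open Classical in
/-- The coefficient function of a point. -/
def ind {X : Scheme.{u}} (ξ : X) : X → ℤ := fun z => if z = ξ then 1 else 0

theorem sum_ind {X : Scheme.{u}} (α : X → ℤ) (S : Finset X) (z : X) (h : α z ≠ 0 → z ∈ S) :
    α z = ∑ ξ ∈ S, α ξ * ind ξ z := by
  classical
  simp only [ind, mul_ite, mul_one, mul_zero, Finset.sum_ite_eq]
  split_ifs with hz
  · rfl
  · by_contra h0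
    exact hz (h h0)

variable {X : Scheme.{u}} [IsLocallyNoetherian X]

/-- A coherent module whose cycle is a given point. -/
theorem exists_module (δ : X → ℤ) (hδ : Cyc.IsDimFun X δ) (ξ : X) :
    ∃ F : X.Modules, Coh.IsCoh F ∧ (∀ y : X, Nontrivial (F.presheaf.stalk y) → ξ ⤳ y) ∧
      Cyc.sheafFun δ (δ ξ) F = ind ξ := by
  obtain ⟨Z, i, hi, hZ, hgen, hrange⟩ := Groth.L16.CohClosedPush.exists_integral ξ
  haveI : IsLocallyNoetherian Z := LocallyOfFiniteType.isLocallyNoetherian i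
  have hsup : ∀ y : X, Nontrivial (((Coh.push i).obj (Coh.structureModule Z)).presheaf.stalk y) → ξ ⤳ y := by
    intro y hy
    have h1 := Groth.L16.CohClosedPush.support_push_subset i (Coh.structureModule Z)
      (show y ∈ CohB1.support _ from not_subsingleton_iff_nontrivial.2 hy)
    rw [hrange] at h1
    exact specializes_iff_mem_closure.2 h1
  refine ⟨_, Groth.L16.CohClosedPush.isCoh_push i Groth.L16.CohClosedPush.isCoh_structure, hsup, ?_⟩
  funext y
  unfold Cyc.sheafFun ind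
  by_cases hy : y = ξ
  · subst hy
    rw [if_pos rfl, if_pos rfl]
    have h1 := Groth.L16.CohClosedPush.len_push_structure i
    rw [hgen] at h1
    show ((Groth.L16.CohSupport.len _ _).toNat : ℤ) = 1
    rw [h1]
    rfl
  · rw [if_neg hy]
    split_ifs with hd
    · rw [Module.length_eq_zero_iff.2 (not_nontrivial_iff_subsingleton.1 fun hn => ?_)]
      · rfl
      · have := (hδ ξ y (hsup y hn) (Ne.symm hy)).1
        omega
    · rfl

end Indicator

section Main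

variable {K : Type u} [Field K] {X Y : Scheme.{u}} (f : X ⟶ Y) [Flat f] [LocallyOfFiniteType f]
  (gX : X ⟶ Spec (CommRingCat.of K)) (gY : Y ⟶ Spec (CommRingCat.of K))
  [Smooth gX] [IsSeparated gX] [QuasiCompact gX] [IsIntegral X]
  [Smooth gY] [IsSeparated gY] [QuasiCompact gY] [IsIntegral Y] (δX : X → ℤ) (δY : Y → ℤ)

theorem finite_gen_cycle (α : AlgebraicCycle Y ℤ) (y : Y) : {ξ : Y | ξ ⤳ y ∧ α ξ ≠ 0}.Finite := by
  obtain ⟨t, ht, hfin⟩ := α.supportLocallyFiniteWithinDomain y trivial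
  exact hfin.subset fun ξ h => ⟨mem_of_mem_nhds (h.1 ht), h.2⟩

theorem pull_cycle (hX : Cyc.IsSetup X δX) (hY : Cyc.IsSetup Y δY)
    (hδX : Cyc.DeltaCompat gX δX (fun _ => 0)) (hδY : Cyc.DeltaCompat gY δY (fun _ => 0))
    (hδ : Cyc.DeltaCompat f δX δY) (n m : ℤ) (hn : δX (genericPoint X) = n) (hm : δY (genericPoint Y) = m)
    (e : ℕ) (he : (e : ℤ) = n - m) (hrel : Cyc.HasRelDim f e) (α β : AlgebraicCycle Y ℤ)
    (hprop : _root_.IntMult.IntersectProperly δY m ⇑α ⇑β) :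
    _root_.IntMult.IntersectProperly δX n (Cyc.pullFun f δX δY e ⇑α) (Cyc.pullFun f δX δY e ⇑β) ∧
      Cyc.pullFun f δX δY e (_root_.IntMult.interProd δY m ⇑α ⇑β) =
        _root_.IntMult.interProd δX n (Cyc.pullFun f δX δY e ⇑α) (Cyc.pullFun f δX δY e ⇑β) := by
  classical
  haveI := hX.1
  haveI := hY.1
  have hc : ∀ x, Groth.L22.Cyc.FibGen f x → δX x = δY (f x) + (e : ℤ) :=
    fun x h => Groth.L22.Cyc.shift_of_deltaCompat f hrel hδ x h
  have hle : ∀ x, δX x ≤ δY (f x) + (e : ℤ) := fun x => Groth.L22.Cyc.le_shift (p := f) hX.2.2 hc x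
  have hne : ∀ (g : Y → ℤ) (x : X), Cyc.pullFun f δX δY e g x ≠ 0 → δX x = δY (f x) + e ∧ g (f x) ≠ 0 := by
    intro g x h
    unfold Cyc.pullFun at h
    split_ifs at h with h1
    · exact ⟨h1, left_ne_zero_of_mul h⟩
    · exact absurd rfl h
  refine ⟨fun ξ η ζ h1 h2 h3 h4 => ?_, ?_⟩
  · obtain ⟨e1, a1⟩ := hne _ _ h1
    obtain ⟨e2, a2⟩ := hne _ _ h2
    have := hprop _ _ _ a1 a2 (h3.map f.continuous) (h4.map f.continuous)
    have := hle ζ
    omega
  funext ζ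
  choose F hF hsup hfun using fun ξ : Y => exists_module δY hY.2.2 ξ
  have hbd : ∀ ξ y : Y, Nontrivial ((F ξ).presheaf.stalk y) → δY y ≤ δY ξ := fun ξ y h => by
    by_cases hh : ξ = y
    · rw [hh]
    · exact (hY.2.2 ξ y (hsup ξ y h) hh).1.le
  have hpull : ∀ ξ : Y, Cyc.pullFun f δX δY e (ind ξ) =
      Cyc.sheafFun δX (δY ξ + e) ((Scheme.Modules.pullback f).obj (F ξ)) := fun ξ => by
    rw [← hfun ξ]
    exact (Groth.Agent.S1897.result X Y δX δY hX hY f e hrel hδ (δY ξ) (F ξ) (hF ξ) (hbd ξ)).2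
  have hfinX : ∀ ξ : Y, {z : X | z ⤳ ζ ∧ Cyc.pullFun f δX δY e (ind ξ) z ≠ 0}.Finite := fun ξ => by
    rw [hpull ξ]
    haveI : Coh.IsQCoh (F ξ) := (hF ξ).1
    exact finite_sheafFun_gen δX hX.2.2 _ _ (Groth.L16.AffineBC.isCoh_pullback f (hF ξ))
      (Groth.Agent.S1897.result X Y δX δY hX hY f e hrel hδ (δY ξ) (F ξ) (hF ξ) (hbd ξ)).1 ζ
  have hfinY : ∀ ξ : Y, {z : Y | z ⤳ f ζ ∧ ind ξ z ≠ 0}.Finite := fun ξ =>
    (Set.finite_singleton ξ).subset fun z h => by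
      by_contra hz
      exact h.2 (if_neg hz)
  set S := (finite_gen_cycle α (f ζ)).toFinset with hSd
  set T := (finite_gen_cycle β (f ζ)).toFinset with hTd
  have mem : ∀ (γ : AlgebraicCycle Y ℤ) (z : Y), z ⤳ f ζ → γ z ≠ 0 → z ∈ (finite_gen_cycle γ (f ζ)).toFinset :=
    fun γ z h1 h2 => (Set.Finite.mem_toFinset _).2 ⟨h1, h2⟩
  have hlin : ∀ (γ : AlgebraicCycle Y ℤ) (z : X), z ⤳ ζ → Cyc.pullFun f δX δY e (⇑γ) z =
      ∑ ξ ∈ (finite_gen_cycle γ (f ζ)).toFinset, γ ξ * Cyc.pullFun f δX δY e (ind ξ) z := by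
    intro γ z hz
    unfold Cyc.pullFun
    split_ifs
    · rw [sum_ind (⇑γ) _ (f z) (mem γ _ (hz.map f.continuous)), Finset.sum_mul]
      exact Finset.sum_congr rfl fun ξ _ => mul_assoc _ _ _
    · simp
  rw [interProd_bilin δX n ζ S T (⇑α) (⇑β) (fun ξ => Cyc.pullFun f δX δY e (ind ξ))
    (fun ξ => Cyc.pullFun f δX δY e (ind ξ)) _ _ (hlin α) (hlin β) (fun ξ _ => hfinX ξ) (fun ξ _ => hfinX ξ)]
  have hY' := interProd_bilin δY m (f ζ) S T (⇑α) (⇑β) ind ind (⇑α) (⇑β)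
    (fun z h => sum_ind _ _ z (mem α z h)) (fun z h => sum_ind _ _ z (mem β z h))
    (fun ξ _ => hfinY ξ) (fun ξ _ => hfinY ξ)
  have hterm : ∀ ξ ∈ S, ∀ η ∈ T, _root_.IntMult.interProd δX n (Cyc.pullFun f δX δY e (ind ξ))
      (Cyc.pullFun f δX δY e (ind η)) ζ =
        Cyc.pullFun f δX δY e (_root_.IntMult.interProd δY m (ind ξ) (ind η)) ζ := by
    intro ξ hξ η hη
    rw [hSd, Set.Finite.mem_toFinset] at hξ
    rw [hTd, Set.Finite.mem_toFinset] at hη
    rw [hpull ξ, hpull η, ← (pull_formula f gX gY δX δY hX hY hδX hδY hδ n m hn hm e he hrel (F ξ) (F η)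
      (hF ξ) (hF η) (δY ξ) (δY η) (hbd ξ) (hbd η)
      (fun y h1 h2 => hprop ξ η y hξ.2 hη.2 (hsup ξ y h1) (hsup η y h2))).2, hfun, hfun]
  rw [Finset.sum_congr rfl fun ξ hξ => Finset.sum_congr rfl fun η hη => by rw [hterm ξ hξ η hη]]
  unfold Cyc.pullFun
  split_ifs
  · rw [hY', Finset.sum_mul]
    refine Finset.sum_congr rfl fun ξ _ => ?_
    rw [Finset.sum_mul]
    exact Finset.sum_congr rfl fun η _ => by ring
  · simp

end Main

end Groth.L22.IntMult
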