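import Groth.Agent.L05.Kosz.Tor
import Groth.Agent.L05.Kosz.Reduce
import Groth.Agent.L28.TorFacts
import Groth.Agent.L12.RegLift
import Groth.Agent.L12.CotTCI
import Groth.Agent.L01.Regular
import Groth.Prelude.Def_IntMult

/-!
Tor formula multiplicities against a regular sequence.
-/

set_option autoImplicit false
set_option linter.style.haveILetI false

universe u

open CategoryTheory MonoidalCategory IsLocalRing RingTheory.Sequence

namespace Groth.L22.IntMult

variable {A : Type u} [CommRing A]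

/-- `Tor` may be computed with the two arguments exchanged. -/
theorem length_tor_comm (i : ℕ) (M N : Type u) [AddCommGroup M] [Module A M] [AddCommGroup N] [Module A N] :
    Module.length A (DRing.Tor A i M N) = Module.length A (DRing.Tor A i N M) := by
  let P := projectiveResolution (ModuleCat.of A N)
  have hP := Groth.L28.Balance.isRes_projectiveResolution P
  obtain ⟨e₁⟩ := Groth.L28.TorFacts.nonempty_iso_right (M := ModuleCat.of A M) P.complex (P.π.f 0) hP i
  obtain ⟨e₂⟩ := Groth.L28.TorFacts.nonempty_iso_left (N := ModuleCat.of A M) P.complex (P.π.f 0) hP i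
  let ν : tensorLeft (ModuleCat.of A M) ≅ tensorRight (ModuleCat.of A M) :=
    BraidedCategory.tensorLeftIsoTensorRight _
  exact (e₁ ≪≫ (HomologicalComplex.homologyFunctor _ _ i).mapIso
    ((NatIso.mapHomologicalComplex ν (ComplexShape.down ℕ)).app P.complex) ≪≫ e₂.symm).toLinearEquiv.length_eq

theorem chi_comm (M N : Type u) [AddCommGroup M] [Module A M] [AddCommGroup N] [Module A N] :
    IntMult.chi A M N = IntMult.chi A N M := by
  show (∑ᶠ i : ℕ, _) = ∑ᶠ i : ℕ, _
  simp_rw [length_tor_comm _ M N]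

/-- The Tor formula against a regular sequence is the Koszul Euler characteristic. -/
theorem chi_eq_kosz (fs : List A) (hreg : IsWeaklyRegular A fs) (M : Type u) [AddCommGroup M] [Module A M] :
    IntMult.chi A M (A ⧸ Ideal.ofList fs) = Groth.L05.Kosz.chi fs M := by
  rw [chi_comm]
  show (∑ᶠ i : ℕ, (-1 : ℤ) ^ i * ((Module.length A (DRing.Tor A i (A ⧸ Ideal.ofList fs) M)).toNat : ℤ)) = _
  simp_rw [Groth.L05.Kosz.length_tor_koszul M fs hreg]
  refine finsum_eq_sum_of_support_subset _ fun i hi => ?_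
  rw [Finset.coe_range, Set.mem_Iio]
  by_contra h
  refine hi ?_
  show (-1 : ℤ) ^ i * _ = 0
  rw [Groth.L05.Kosz.length_H_eq_zero _ _ (Or.inr (by omega))]
  simp

/-- The Koszul Euler characteristic of a regular sequence is the length of the quotient. -/
theorem kosz_eq_length [IsNoetherianRing A] : ∀ (fs : List A) (M : Type u) [AddCommGroup M] [Module A M],
    IsWeaklyRegular M fs →
      Groth.L05.Kosz.chi fs M = ((Module.length A (M ⧸ Ideal.ofList fs • (⊤ : Submodule A M))).toNat : ℤ)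
  | [], M, _, _, _ => by
    rw [Groth.L05.Kosz.chi_nil]
    congr 2
    exact (Submodule.quotEquivOfEqBot _ (by simp)).length_eq.symm
  | f :: fs, M, _, _, h => by
    rw [isWeaklyRegular_cons_iff] at h
    obtain ⟨e⟩ := Groth.L05.Kosz.quotSMulTop_equiv f M
    rw [Groth.L05.Kosz.chi_cons_regular f h.1, Groth.L05.Kosz.chi_congr e, kosz_eq_length fs _ h.2]
    congr 2
    exact (Submodule.quotOfListConsSMulTopEquivQuotSMulTopInner M f fs).length_eq.symm

section Local

variable [IsLocalRing A] [IsNoetherianRing A]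

/-- Against a regular sequence, a Cohen–Macaulay partner gives the length of the intersection. -/
theorem chi_eq_length_of_cm (Q : Ideal A) (fs : List A) (hreg : IsWeaklyRegular A fs)
    (hfs : ∀ f ∈ fs, f ∈ maximalIdeal A) (hQ : LocCoh.IsCohenMacaulayLocalRing (A ⧸ Q))
    (hd : ringKrullDim (A ⧸ Q) = fs.length)
    (h0 : ringKrullDim (A ⧸ (Q ⊔ Ideal.ofList fs)) = 0) :
    IntMult.chi A (A ⧸ Q) (A ⧸ Ideal.ofList fs) = ((Module.length A (A ⧸ (Q ⊔ Ideal.ofList fs))).toNat : ℤ) := by
  have hw : IsWeaklyRegular (A ⧸ Q) (fs.map (algebraMap A (A ⧸ Q))) := by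
    haveI := hQ.toIsLocalRing
    refine Groth.L12.RegLift.isWeaklyRegular_of_dim _ ?_ ?_
    · intro x hx
      obtain ⟨f, hf, rfl⟩ := List.mem_map.1 hx
      haveI : IsLocalHom (algebraMap A (A ⧸ Q)) := IsLocalHom.of_surjective _ Ideal.Quotient.mk_surjective
      exact map_nonunit _ f (hfs f hf)
    · rw [List.length_map, hd, ← Ideal.map_ofList, Ideal.Quotient.algebraMap_eq]
      rw [ringKrullDim_eq_of_ringEquiv (DoubleQuot.quotQuotEquivQuotSup Q (Ideal.ofList fs)), h0, zero_add]
  rw [isWeaklyRegular_map_algebraMap_iff] at hw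
  rw [chi_eq_kosz fs hreg, kosz_eq_length fs _ hw]
  congr 2
  refine LinearEquiv.length_eq ?_
  refine (Submodule.quotEquivOfEq _ (Submodule.map (Submodule.mkQ Q) (Q ⊔ Ideal.ofList fs)) ?_).trans
    (Submodule.quotientQuotientEquivQuotient Q (Q ⊔ Ideal.ofList fs) le_sup_left)
  rw [Ideal.smul_top_eq_map, Submodule.map_sup, Submodule.mkQ_map_self, bot_sup_eq]
  ext x
  rw [Submodule.restrictScalars_mem, Ideal.mem_map_iff_of_surjective (algebraMap A (A ⧸ Q)) Ideal.Quotient.mk_surjective]
  exact Iff.rfl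

end Local

section Regular

variable [IsRegularLocalRing A]

/-- Generators of the maximal ideal taken from two ideals spanning it. -/
theorem exists_generators (P Q : Ideal A) (hPQ : P ⊔ Q = maximalIdeal A) (n : ℕ) (hn : ringKrullDim A = n) :
    ∃ T : Finset A, T.card ≤ n ∧ Ideal.span (T : Set A) = maximalIdeal A ∧ ∀ x ∈ T, x ∈ P ∨ x ∈ Q := by
  classical
  let π : maximalIdeal A →ₗ[A] CotangentSpace A := (maximalIdeal A).toCotangent
  let s : Set (CotangentSpace A) := π '' {x | (x : A) ∈ P ∨ (x : A) ∈ Q}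
  have hs : Submodule.span (ResidueField A) s = ⊤ := by
    refine eq_top_iff.2 fun v _ => ?_
    obtain ⟨⟨x, hx⟩, rfl⟩ := (maximalIdeal A).toCotangent_surjective v
    obtain ⟨p, hp, q, hq, hpq⟩ := Submodule.mem_sup.1 (hPQ.ge hx)
    have hpm : p ∈ maximalIdeal A := hPQ.le (Submodule.mem_sup_left hp)
    have hqm : q ∈ maximalIdeal A := hPQ.le (Submodule.mem_sup_right hq)
    rw [show (⟨x, hx⟩ : maximalIdeal A) = ⟨p, hpm⟩ + ⟨q, hqm⟩ from Subtype.ext hpq.symm, map_add]
    exact add_mem (Submodule.subset_span ⟨_, Or.inl hp, rfl⟩) (Submodule.subset_span ⟨_, Or.inr hq, rfl⟩)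
  obtain ⟨t, hts, htspan, hti⟩ := exists_linearIndependent (ResidueField A) s
  rw [hs] at htspan
  haveI : Fintype t := hti.setFinite.fintype
  have htc : Fintype.card t = n := by
    have h1 := Module.finrank_eq_card_basis (Module.Basis.mk hti (by rw [Subtype.range_coe]; exact htspan.ge))
    have h2 : ((maximalIdeal A).spanFinrank : WithBot ℕ∞) = (n : WithBot ℕ∞) :=
      (IsRegularLocalRing.spanFinrank_maximalIdeal (R := A)).trans hn
    rw [IsLocalRing.spanFinrank_maximalIdeal_eq_finrank_cotangentSpace_of_fg (IsNoetherian.noetherian _), h1] at h2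
    exact_mod_cast h2
  choose l hl hlπ using fun v : t => hts v.2
  refine ⟨Finset.univ.image fun v => (l v : A), Finset.card_image_le.trans (by rw [Finset.card_univ, htc]),
    le_antisymm (Ideal.span_le.2 fun x hx => ?_) ?_, fun x hx => ?_⟩
  · obtain ⟨v, -, rfl⟩ := Finset.mem_image.1 hx
    exact (l v).2
  · have h1 : Submodule.span A (Set.range l) = ⊤ := by
      refine IsLocalRing.CotangentSpace.span_image_eq_top_iff.1 ?_
      rw [← htspan]
      congr 1
      rw [← Set.range_comp]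
      exact (congrArg Set.range (funext hlπ)).trans Subtype.range_coe
    have h2 := congrArg (Submodule.map (maximalIdeal A).subtype) h1
    rw [Submodule.map_span, Submodule.map_subtype_top] at h2
    refine h2.symm.le.trans (Submodule.span_mono ?_)
    rintro _ ⟨_, ⟨v, rfl⟩, rfl⟩
    exact Finset.mem_image.2 ⟨v, Finset.mem_univ v, rfl⟩
  · obtain ⟨v, -, rfl⟩ := Finset.mem_image.1 hx
    exact hl v

theorem spanFinrank_quotient_le (J : Ideal A) (hJ : J ≠ ⊤) (S S' : Finset A) (hS : (S : Set A) ⊆ J)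
    (hT : maximalIdeal A = Ideal.span (S : Set A) ⊔ Ideal.span (S' : Set A)) :
    haveI : Nontrivial (A ⧸ J) := Ideal.Quotient.nontrivial_iff.2 hJ
    haveI : IsLocalRing (A ⧸ J) := IsLocalRing.of_surjective' _ Ideal.Quotient.mk_surjective
    (maximalIdeal (A ⧸ J)).spanFinrank ≤ S'.card := by
  haveI : Nontrivial (A ⧸ J) := Ideal.Quotient.nontrivial_iff.2 hJ
  haveI : IsLocalRing (A ⧸ J) := IsLocalRing.of_surjective' _ Ideal.Quotient.mk_surjective
  have h1 : (Ideal.span (S : Set A)).map (Ideal.Quotient.mk J) = ⊥ := by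
    rw [Ideal.map_eq_bot_iff_le_ker, Ideal.mk_ker]
    exact Ideal.span_le.2 hS
  have h2 : maximalIdeal (A ⧸ J) = Ideal.span ((Ideal.Quotient.mk J) '' (S' : Set A)) := by
    rw [← IsLocalRing.map_maximalIdeal_of_surjective (Ideal.Quotient.mk J) Ideal.Quotient.mk_surjective, hT,
      Ideal.map_sup, h1, bot_sup_eq, Ideal.map_span]
  rw [h2]
  refine (Submodule.spanFinrank_span_le_ncard_of_finite (S'.finite_toSet.image _)).trans ?_
  exact (Set.ncard_image_le S'.finite_toSet).trans (by rw [Set.ncard_coe_finset])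

theorem eq_span_and_regular (R : Ideal A) [R.IsPrime] (S S' : Finset A) (n c : ℕ)
    (hn : ringKrullDim A = n) (hT : maximalIdeal A = Ideal.span (S : Set A) ⊔ Ideal.span (S' : Set A))
    (hSR : (S : Set A) ⊆ R) (hcard : S.card + S'.card ≤ n) (hR : ringKrullDim (A ⧸ R) = c) :
    c ≤ S'.card ∧ (S'.card ≤ c → Ideal.span (S : Set A) = R ∧
      IsRegularLocalRing (A ⧸ Ideal.span (S : Set A)) ∧ S.card + c = n) := by
  haveI : IsLocalRing (A ⧸ R) := IsLocalRing.of_surjective' _ Ideal.Quotient.mk_surjective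
  have h0 := (ringKrullDim_le_spanFinrank_maximalIdeal (A ⧸ R)).trans
    (WithBot.coe_le_coe.2 (Nat.cast_le.2 (spanFinrank_quotient_le R Ideal.IsPrime.ne_top' S S' hSR hT)))
  rw [hR] at h0
  have hc' : c ≤ S'.card := by exact_mod_cast h0
  refine ⟨hc', fun hS'c => ?_⟩
  set J := Ideal.span (S : Set A) with hJ
  have hJR : J ≤ R := Ideal.span_le.2 hSR
  have hJm : J ≤ maximalIdeal A := hT ▸ le_sup_left
  have hJne : J ≠ ⊤ := ne_top_of_le_ne_top (maximalIdeal.isMaximal A).ne_top hJm
  haveI : Nontrivial (A ⧸ J) := Ideal.Quotient.nontrivial_iff.2 hJne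
  haveI : IsLocalRing (A ⧸ J) := IsLocalRing.of_surjective' _ Ideal.Quotient.mk_surjective
  have hup : (maximalIdeal (A ⧸ J)).spanFinrank ≤ c :=
    (spanFinrank_quotient_le J hJne S S' Ideal.subset_span hT).trans hS'c
  have hlow : (n : WithBot ℕ∞) ≤ ringKrullDim (A ⧸ J) + (S.card : ℕ) := by
    rw [← hn]
    refine ringKrullDim_le_ringKrullDim_quotient_add_card S ?_
    rw [IsLocalRing.ringJacobson_eq_maximalIdeal]
    exact fun x hx => hJm (Ideal.subset_span hx)
  have hdim := ringKrullDim_le_spanFinrank_maximalIdeal (A ⧸ J)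
  obtain ⟨D, hD⟩ : ∃ D : ℕ, ringKrullDim (A ⧸ J) = D := by
    obtain ⟨d, hd⟩ := WithBot.ne_bot_iff_exists.1 (ringKrullDim_ne_bot (R := A ⧸ J))
    cases d using ENat.recTopCoe with
    | top => exact absurd hd.symm ringKrullDim_ne_top
    | coe d => exact ⟨d, hd.symm⟩
  rw [hD] at hlow hdim
  have hlow' : n ≤ D + S.card := by exact_mod_cast hlow
  have hdim' : D ≤ (maximalIdeal (A ⧸ J)).spanFinrank := by exact_mod_cast hdim
  have hDc : D = c := by omega
  haveI hreg : IsRegularLocalRing (A ⧸ J) :=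
    IsRegularLocalRing.of_spanFinrank_maximalIdeal_le (R := A ⧸ J) (by rw [hD, hDc]; exact_mod_cast hup)
  refine ⟨le_antisymm hJR fun x hx => ?_, hreg, by omega⟩
  haveI := Groth.L01.isDomain_of_regular (A ⧸ J)
  by_contra hxJ
  have h1 := ringKrullDim_succ_le_of_surjective (Ideal.Quotient.factor hJR)
    (Ideal.Quotient.factor_surjective hJR) (r := Ideal.Quotient.mk J x)
    (mem_nonZeroDivisors_of_ne_zero fun h => hxJ (Ideal.Quotient.eq_zero_iff_mem.1 h))
    (by rw [Ideal.Quotient.factor_mk]; exact Ideal.Quotient.eq_zero_iff_mem.2 hx)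
  rw [hR, hD, hDc] at h1
  have : c + 1 ≤ c := by exact_mod_cast h1
  omega

/-- The intersection of two prime quotients of complementary dimension meeting in a reduced point is transversal. -/
theorem regular_of_sup_eq_maximal (P Q : Ideal A) [P.IsPrime] [Q.IsPrime]
    (hPQ : P ⊔ Q = maximalIdeal A) (a b : ℕ) (ha : ringKrullDim (A ⧸ P) = a) (hb : ringKrullDim (A ⧸ Q) = b)
    (hab : ringKrullDim A = ((a + b : ℕ) : WithBot ℕ∞)) :
    IsRegularLocalRing (A ⧸ P) ∧ IsRegularLocalRing (A ⧸ Q) ∧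
      ∃ fs : List A, (∀ f ∈ fs, f ∈ maximalIdeal A) ∧ fs.length = b ∧ IsWeaklyRegular A fs ∧ Ideal.ofList fs = P := by
  classical
  obtain ⟨T, hTc, hTs, hTPQ⟩ := exists_generators P Q hPQ (a + b) hab
  let T₁ := T.filter (· ∈ P)
  let T₂ := T.filter (fun x => ¬ x ∈ P)
  have hc : T₁.card + T₂.card ≤ a + b := by
    rw [Finset.card_filter_add_card_filter_not]
    exact hTc
  have hsplit : maximalIdeal A = Ideal.span (T₁ : Set A) ⊔ Ideal.span (T₂ : Set A) := by
    rw [← Ideal.span_union, ← Finset.coe_union, Finset.filter_union_filter_not_eq, hTs]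
  have hP1 : (T₁ : Set A) ⊆ P := fun x hx => (Finset.mem_filter.1 hx).2
  have hQ2 : (T₂ : Set A) ⊆ Q := fun x hx => by
    obtain ⟨hxT, hxP⟩ := Finset.mem_filter.1 hx
    exact (hTPQ x hxT).resolve_left hxP
  obtain ⟨hage, hPk⟩ := eq_span_and_regular P T₁ T₂ (a + b) a hab hsplit hP1 hc ha
  obtain ⟨hbge, hQk⟩ := eq_span_and_regular Q T₂ T₁ (a + b) b hab (hsplit.trans (sup_comm _ _)) hQ2 (by omega) hb
  obtain ⟨hP, hPreg, hPc⟩ := hPk (by omega)
  obtain ⟨hQ, hQreg, -⟩ := hQk (by omega)
  have hofList : Ideal.ofList T₁.toList = P := by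
    rw [Ideal.ofList, ← hP]
    congr 1
    ext x
    simp
  have hmem : ∀ f ∈ T₁.toList, f ∈ maximalIdeal A := fun f hf =>
    hsplit.ge (Submodule.mem_sup_left (Ideal.subset_span (Finset.mem_toList.1 hf)))
  have hlen : T₁.toList.length = b := by rw [Finset.length_toList]; omega
  refine ⟨hP ▸ hPreg, hQ ▸ hQreg, T₁.toList, hmem, hlen, ?_, hofList⟩
  haveI := Groth.L12.CotTLib.cm_of_regular A
  refine Groth.L12.RegLift.isWeaklyRegular_of_dim _ hmem ?_
  rw [hofList, ha, hlen, hab]
  exact (Nat.cast_add (R := WithBot ℕ∞) a b).symm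

end Regular

end Groth.L22.IntMult
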