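import Groth.Agent.L04.Depth2
import Groth.Agent.L04.CMBasic
import Groth.Agent.L22.IntMult.Local
import Groth.Agent.L22.TorPd
import Groth.Agent.L04.RegularPd
import Mathlib.LinearAlgebra.TensorProduct.Quotient
import Mathlib.LinearAlgebra.TensorProduct.Pi
import Mathlib.Algebra.Category.ModuleCat.Monoidal.Closed

/-!
Vanishing of higher Tor for proper intersections of Cohen–Macaulay quotients of a regular local ring.
-/

set_option autoImplicit false
set_option linter.style.haveILetI false

universe u

open CategoryTheory CategoryTheory.Limits MonoidalCategory IsLocalRing RingTheory.Sequence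
open scoped TensorProduct

namespace Groth.L22.IntMult

variable {A : Type u} [CommRing A]

/-- An element killing the first argument kills `Tor`. -/
theorem smul_tor_eq_zero (i : ℕ) (M N : Type u) [AddCommGroup M] [Module A M] [AddCommGroup N] [Module A N]
    {x : A} (hx : ∀ m : M, x • m = 0) (z : DRing.Tor A i M N) : x • z = 0 := by
  let P := projectiveResolution (ModuleCat.of A N)
  obtain ⟨e⟩ := Groth.L28.TorFacts.nonempty_iso_right (M := ModuleCat.of A M) P.complex (P.π.f 0)
    (Groth.L28.Balance.isRes_projectiveResolution P) i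
  refine e.toLinearEquiv.injective ?_
  refine (e.toLinearEquiv.map_smul x z).trans (Eq.trans ?_ e.toLinearEquiv.map_zero.symm)
  obtain ⟨c, hc⟩ := Groth.L28.HomElt.exists_cycle_π (e.toLinearEquiv z)
  rw [← hc, ← map_smul]
  have : x • c = 0 := by
    refine Groth.L28.HomElt.iCycles_injective _ i ?_
    rw [map_smul, map_zero]
    generalize ((((tensorLeft (ModuleCat.of A M)).mapHomologicalComplex (ComplexShape.down ℕ)).obj P.complex).iCycles i) c = t
    change (M ⊗[A] (P.complex.X i)) at t
    show x • (t : M ⊗[A] (P.complex.X i)) = 0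
    induction t using TensorProduct.induction_on with
    | zero => rw [smul_zero]
    | tmul m n => rw [TensorProduct.smul_tmul', hx, TensorProduct.zero_tmul]
    | add a b ha hb => rw [smul_add, ha, hb, add_zero]
  rw [this, map_zero]

/-- An element killing the second argument kills `Tor`. -/
theorem smul_tor_eq_zero' (i : ℕ) (M N : Type u) [AddCommGroup M] [Module A M] [AddCommGroup N] [Module A N]
    {x : A} (hx : ∀ n : N, x • n = 0) (z : DRing.Tor A i M N) : x • z = 0 := by
  obtain ⟨e⟩ := Groth.Agent.S6316.result A i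
  let e' := ((e.app (ModuleCat.of A M)).app (ModuleCat.of A N)).toLinearEquiv
  refine e'.injective ?_
  rw [map_smul, map_zero]
  exact smul_tor_eq_zero i N M hx _

/-- `Tor_0` is the tensor product. -/
theorem nonempty_tor_zero (M N : Type u) [AddCommGroup M] [Module A M] [AddCommGroup N] [Module A N] :
    Nonempty (DRing.Tor A 0 M N ≃ₗ[A] M ⊗[A] N) :=
  ⟨((((tensoringLeft (ModuleCat.{u} A)).obj (ModuleCat.of A M)).leftDerivedZeroIsoSelf).app
    (ModuleCat.of A N)).toLinearEquiv⟩

theorem finite_tor_zero (M N : Type u) [AddCommGroup M] [Module A M] [Module.Finite A M] [AddCommGroup N]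
    [Module A N] [Module.Finite A N] : Module.Finite A (DRing.Tor A 0 M N) := by
  obtain ⟨e⟩ := nonempty_tor_zero (A := A) M N
  exact Module.Finite.equiv e.symm

variable [IsLocalRing A] [IsNoetherianRing A]

theorem le_depth_pi {M : Type u} [AddCommGroup M] [Module A M] [Module.Finite A M] {n : ℕ}
    (h : (n : ℕ∞) ≤ LocCoh.depth A M) : ∀ k : ℕ, (n : ℕ∞) ≤ LocCoh.depth A (Fin k → M) := by
  intro k
  induction k with
  | zero =>
    rw [LocCoh.depth, Groth.L04.idealDepth_eq_top (Subsingleton.elim _ _)]
    exact le_top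
  | succ k ih =>
    rw [LocCoh.depth, Groth.L04.idealDepth_congr (Fin.consLinearEquiv A fun _ : Fin (k + 1) => M).symm]
    exact Groth.L04.le_idealDepth_mid (LinearMap.inl_injective) (LinearMap.snd_surjective)
      Function.Exact.inl_snd h ih

theorem eq_zero_of_pow_killed {X : Type u} [AddCommGroup X] [Module A X] [Module.Finite A X]
    (h : (1 : ℕ∞) ≤ LocCoh.depth A X) (J : Ideal A) (hJ : maximalIdeal A ≤ J.radical) {z : X}
    (hz : ∀ a ∈ J, a • z = 0) : z = 0 := by
  obtain ⟨k, hk⟩ := Ideal.exists_pow_le_of_le_radical_of_fg hJ (IsNoetherian.noetherian _)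
  have key : ∀ (k : ℕ) (z : X), (∀ a ∈ maximalIdeal A ^ k, a • z = 0) → z = 0 := by
    intro k
    induction k with
    | zero => intro z hz; simpa using hz 1 (by simp)
    | succ k ih =>
      intro z hz
      refine ih z fun a ha => Groth.L04.hom_zero_of_one_le (I := maximalIdeal A) h fun b hb => ?_
      rw [smul_smul]
      exact hz _ (by rw [pow_succ']; exact Ideal.mul_mem_mul hb ha)
  exact key k z fun a ha => hz a (hk ha)

/-- Acyclicity. -/
theorem tor_vanish_and_depth (M : Type u) [AddCommGroup M] [Module A M] [Module.Finite A M] (J : Ideal A)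
    (hJ : maximalIdeal A ≤ J.radical) : ∀ (p : ℕ) (N : Type u) [AddCommGroup N] [Module A N] [Module.Finite A N],
      HasProjectiveDimensionLE (ModuleCat.of A N) p → (p : ℕ∞) ≤ LocCoh.depth A M →
      (∀ i, 1 ≤ i → ∀ z : DRing.Tor A i M N, ∀ a ∈ J, a • z = 0) →
      (∀ i, 1 ≤ i → Subsingleton (DRing.Tor A i M N)) ∧
        ∀ n : ℕ, ((n + p : ℕ) : ℕ∞) ≤ LocCoh.depth A M → (n : ℕ∞) ≤ LocCoh.depth A (DRing.Tor A 0 M N) := by
  intro p
  induction p with
  | zero =>
    intro N _ _ _ hpd _ _
    haveI : Projective (ModuleCat.of A N) := (projective_iff_hasProjectiveDimensionLE_zero _).2 hpd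
    haveI : Module.Projective A N := (IsProjective.iff_projective (ModuleCat.of A N)).2 inferInstance
    refine ⟨fun i hi => ?_, fun n hn => ?_⟩
    · obtain ⟨j, rfl⟩ := Nat.exists_eq_add_of_le' hi
      haveI : Module.Flat A (ModuleCat.of A N) := inferInstanceAs (Module.Flat A N)
      exact ModuleCat.subsingleton_of_isZero
        (Groth.L28.TorFacts.isZero_of_flat_right (ModuleCat.of A M) (ModuleCat.of A N) j)
    · haveI : Module.Free A N := Module.free_of_flat_of_isLocalRing
      obtain ⟨e⟩ := nonempty_tor_zero (A := A) M N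
      let e' : DRing.Tor A 0 M N ≃ₗ[A] (Fin (Module.finrank A N) → M) :=
        e ≪≫ₗ TensorProduct.congr (LinearEquiv.refl A M) (Module.finBasis A N).equivFun ≪≫ₗ
          TensorProduct.piScalarRight A A M _
      rw [LocCoh.depth, Groth.L04.idealDepth_congr e']
      exact le_depth_pi (by simpa using hn) _
  | succ p ih =>
    intro N _ _ _ hpd hdep hkill
    obtain ⟨m, π, hπ⟩ := Module.Finite.exists_fin' A N
    have hex : Function.Exact (LinearMap.ker π).subtype π := LinearMap.exact_subtype_ker_map π
    have hS := Groth.L04.shortExact_mk (LinearMap.ker π).injective_subtype hπ hex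
    let S := ShortComplex.moduleCatMkOfKerLERange (ModuleCat.ofHom (LinearMap.ker π).subtype) (ModuleCat.ofHom π)
      (LinearMap.exact_iff.1 hex).ge
    change S.ShortExact at hS
    have hPF : Projective S.X₂ := (IsProjective.iff_projective S.X₂).1 (inferInstanceAs (Module.Projective A (Fin m → A)))
    haveI : Module.Flat A S.X₂ := inferInstanceAs (Module.Flat A (Fin m → A))
    have hK : HasProjectiveDimensionLE (ModuleCat.of A (LinearMap.ker π)) p :=
      (hS.hasProjectiveDimensionLT_X₃_iff p hPF).1 hpd
    let MM := ModuleCat.of A M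
    have hflat : ∀ j, IsZero (((CategoryTheory.Tor (ModuleCat.{u} A) (j + 1)).obj MM).obj S.X₂) :=
      fun j => Groth.L28.TorFacts.isZero_of_flat_right MM S.X₂ j
    have hkillK : ∀ i, 1 ≤ i → ∀ z : DRing.Tor A i M (LinearMap.ker π), ∀ a ∈ J, a • z = 0 := by
      intro i hi z a ha
      obtain ⟨j, rfl⟩ := Nat.exists_eq_add_of_le' hi
      obtain ⟨-, -, δ, w₁, w₂, -, hex2⟩ := Groth.L01.TorLES.tor_longExact MM S hS (j + 1)
      haveI : Epi δ := hex2.epi_f ((hflat j).eq_of_tgt _ _)
      obtain ⟨y, hy⟩ := (ModuleCat.epi_iff_surjective δ).1 inferInstance z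
      rw [← hy]
      exact ((δ.hom.map_smul a y).symm.trans (congrArg δ.hom (hkill (j + 2) (by omega) y a ha))).trans (map_zero δ.hom)
    obtain ⟨hKz, hKd⟩ := ih (LinearMap.ker π) hK ((Nat.cast_le.2 p.le_succ).trans hdep) hkillK
    haveI hfin : Module.Finite A (DRing.Tor A 0 M (LinearMap.ker π)) := finite_tor_zero M _
    have h1 : ((1 : ℕ) : ℕ∞) ≤ LocCoh.depth A (DRing.Tor A 0 M (LinearMap.ker π)) :=
      hKd 1 (by rw [add_comm]; exact hdep)
    have hone : Subsingleton (DRing.Tor A 1 M N) := by
      obtain ⟨-, -, δ, w₁, w₂, hex1, -⟩ := Groth.L01.TorLES.tor_longExact MM S hS 0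
      haveI : Mono δ := hex1.mono_g ((hflat 0).eq_of_src _ _)
      refine subsingleton_of_forall_eq 0 fun z => ?_
      refine (ModuleCat.mono_iff_injective δ).1 inferInstance ?_
      refine Eq.trans ?_ (map_zero δ.hom).symm
      refine eq_zero_of_pow_killed (X := DRing.Tor A 0 M (LinearMap.ker π)) (by simpa using h1) J hJ fun a ha => ?_
      exact ((δ.hom.map_smul a z).symm.trans (congrArg δ.hom (hkill 1 le_rfl z a ha))).trans (map_zero δ.hom)
    refine ⟨fun i hi => ?_, fun n hn => ?_⟩
    · obtain ⟨j, rfl⟩ := Nat.exists_eq_add_of_le' hi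
      rcases j with _ | j
      · exact hone
      · exact ModuleCat.subsingleton_of_isZero (Groth.L01.TorLES.isZero_three MM hS (j + 1) (hflat (j + 1))
          (@ModuleCat.isZero_of_subsingleton _ _ _ (hKz (j + 1) (by omega))))
    · obtain ⟨⟨w₀, hex0⟩, hepi, δ, w₁, w₂, -, hex2⟩ := Groth.L01.TorLES.tor_longExact MM S hS 0
      have hδ : δ = 0 := by
        ext z
        haveI := hone
        rw [show z = 0 from Subsingleton.elim (α := DRing.Tor A 1 M N) z 0, map_zero, map_zero]
      haveI hmono : Mono (((CategoryTheory.Tor (ModuleCat.{u} A) 0).obj MM).map S.f) := hex2.mono_g hδ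
      haveI hfN : Module.Finite A (DRing.Tor A 0 M N) := finite_tor_zero M N
      haveI hfF : Module.Finite A (DRing.Tor A 0 M (Fin m → A)) := finite_tor_zero M _
      set_option backward.isDefEq.respectTransparency false in
      refine Groth.L04.le_idealDepth_right (I := maximalIdeal A)
        (N' := DRing.Tor A 0 M (LinearMap.ker π)) (N := DRing.Tor A 0 M (Fin m → A)) (N'' := DRing.Tor A 0 M N)
        (f := (((CategoryTheory.Tor (ModuleCat.{u} A) 0).obj MM).map S.f).hom)
        (g := (((CategoryTheory.Tor (ModuleCat.{u} A) 0).obj MM).map S.g).hom)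
        ((ModuleCat.mono_iff_injective _).1 hmono) ((ModuleCat.epi_iff_surjective _).1 hepi)
        ((ShortComplex.ShortExact.moduleCat_exact_iff_function_exact _).1 hex0)
        (hKd (n + 1) (by rw [show n + 1 + p = n + (p + 1) by omega]; exact hn)) ?_
      obtain ⟨e⟩ := nonempty_tor_zero (A := A) M (Fin m → A)
      rw [Groth.L04.idealDepth_congr (e ≪≫ₗ TensorProduct.piScalarRight A A M _)]
      exact le_depth_pi ((Nat.cast_le.2 (show n ≤ n + (p + 1) by omega)).trans hn) _

end Groth.L22.IntMult
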