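import Groth.Agent.L22.IntMult.Local
import Groth.Agent.L20.Infinitesimal.Flat
import Groth.Agent.L21.Smooth.Scheme
import Groth.Agent.L22.SchemeDim
import Groth.Agent.L22.FibreDim
import Groth.Agent.L22.SmoothInter

/-!
The local algebra at a component of a proper intersection.
-/

set_option autoImplicit false
set_option linter.style.haveILetI false
set_option backward.isDefEq.respectTransparency false

universe u

open CategoryTheory AlgebraicGeometry TopologicalSpace IsLocalRing

namespace Groth.L22.IntMult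

variable {X : Scheme.{u}}

theorem isIrreducible_range {Z : Scheme.{u}} [IrreducibleSpace Z] (i : Z ⟶ X) {S : Set X} (h : Set.range i = S) :
    IsIrreducible S := by
  subst h
  rw [← Set.image_univ]
  exact (IrreducibleSpace.isIrreducible_univ Z).image _ i.continuous.continuousOn

theorem stalkIdeal_eq (I : X.IdealSheafData) (x : X) :
    _root_.IntMult.stalkIdeal I x = Groth.L20.SeeNormal.sI I x := by
  refine le_antisymm (iSup₂_le fun U hx => (Groth.L20.SeeNormal.sI_eq I U hx).ge) ?_
  obtain ⟨_, ⟨U, hU, rfl⟩, hxU, -⟩ :=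
    X.isBasis_affineOpens.exists_subset_of_mem_open (Set.mem_univ x) isOpen_univ
  rw [Groth.L20.SeeNormal.sI_eq I ⟨U, hU⟩ hxU]
  exact le_iSup₂_of_le (⟨U, hU⟩ : X.affineOpens) hxU le_rfl

theorem ker_subschemeι_stalkMap (I : X.IdealSheafData) (v : I.subscheme) :
    RingHom.ker (I.subschemeι.stalkMap v).hom = _root_.IntMult.stalkIdeal I (I.subschemeι v) := by
  rw [Groth.L20.Infinitesimal.ker_stalkMap, Scheme.IdealSheafData.ker_subschemeι, stalkIdeal_eq]

/-- `dim O_v + dim closure{v} = dim Z`. -/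
theorem dim_stalk_add_closure (k : Type u) [Field k] {Z : Scheme.{u}} [IsIntegral Z]
    (q : Z ⟶ Spec (CommRingCat.of k)) [LocallyOfFiniteType q] (v : Z) :
    ∃ d b z : ℕ, topologicalKrullDim Z = d ∧ ringKrullDim (Z.presheaf.stalk v) = b ∧
      topologicalKrullDim (closure ({v} : Set Z)) = z ∧ b + z = d := by
  letI : Z.Over (Spec (CommRingCat.of k)) := ⟨q⟩
  haveI : LocallyOfFiniteType (Z ↘ Spec (CommRingCat.of k)) := inferInstanceAs (LocallyOfFiniteType q)
  obtain ⟨a, b, ha, hb, hab⟩ := Groth.L22.SchemeDim.exists_localDim k Z v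
  obtain ⟨z, hz, hzt⟩ := Groth.L22.SchemeDim.exists_dim_closure_eq_trdeg k Z v
  obtain ⟨d, hd, -, hopen⟩ := Groth.L22.SchemeDim.exists_dim_eq_trdeg k Z
  have hl : FlatMor.localDim Z v = ((d : ℕ) : WithBot ℕ∞) := by
    refine le_antisymm ?_ (le_iInf fun U => ?_)
    · refine iInf_le_of_le ⟨⊤, trivial⟩ ?_
      rw [← hopen ⊤ ⟨v, trivial⟩]
      exact le_rfl
    · rw [← hopen U.1 ⟨v, U.2⟩]
      exact le_rfl
  have haz : a = z := by exact_mod_cast ha.symm.trans hzt
  rw [hl] at hab
  have : d = a + b := by exact_mod_cast hab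
  exact ⟨d, b, z, hd, hb, hz, by omega⟩

variable (k : Type u) [Field k] (f : X ⟶ Spec (CommRingCat.of k)) [Smooth f] [IsIntegral X]

include f in
/-- The quotient by the ideal of an integral subscheme. -/
theorem quotient_facts (I : X.IdealSheafData) [IsIntegral I.subscheme] {ξ : X} (hξ : ξ ∈ I.support) (r : ℕ)
    (hr : topologicalKrullDim I.support = r) :
    (_root_.IntMult.stalkIdeal I ξ).IsPrime ∧
      (∀ p : PrimeSpectrum (X.presheaf.stalk ξ), _root_.IntMult.stalkIdeal I ξ ≤ p.asIdeal →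
        X.fromSpecStalk ξ p ∈ I.support) ∧
      ∃ b z : ℕ, ringKrullDim (↑(X.presheaf.stalk ξ) ⧸ _root_.IntMult.stalkIdeal I ξ) = b ∧
        topologicalKrullDim (closure ({ξ} : Set X)) = z ∧ b + z = r := by
  obtain ⟨v, rfl⟩ : ξ ∈ Set.range I.subschemeι := by rw [I.range_subschemeι]; exact hξ
  have hsurj : Function.Surjective (I.subschemeι.stalkMap v).hom := I.subschemeι.stalkMap_surjective v
  let e := (Ideal.quotEquivOfEq (ker_subschemeι_stalkMap I v).symm).trans
    (RingHom.quotientKerEquivOfSurjective hsurj)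
  haveI : IsDomain (I.subscheme.presheaf.stalk v) := inferInstance
  have hprime : (_root_.IntMult.stalkIdeal I (I.subschemeι v)).IsPrime := by
    rw [← ker_subschemeι_stalkMap]
    exact RingHom.ker_isPrime _
  refine ⟨hprime, fun p hp => ?_, ?_⟩
  · obtain ⟨p', hp'⟩ : p ∈ Set.range (PrimeSpectrum.comap (I.subschemeι.stalkMap v).hom) := by
      rw [range_comap_of_surjective _ _ hsurj]
      rw [ker_subschemeι_stalkMap]
      exact hp
    rw [← hp']
    have h := congrArg (fun φ : Spec (I.subscheme.presheaf.stalk v) ⟶ X => φ p')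
      (Scheme.SpecMap_stalkMap_fromSpecStalk I.subschemeι (x := v))
    show (X.fromSpecStalk _) ((Spec.map (I.subschemeι.stalkMap v)) p') ∈ _
    rw [← Scheme.Hom.comp_apply, Scheme.SpecMap_stalkMap_fromSpecStalk, Scheme.Hom.comp_apply]
    exact I.range_subschemeι.le ⟨_, rfl⟩
  · obtain ⟨d, b, z, hd, hb, hz, hbz⟩ := dim_stalk_add_closure k (I.subschemeι ≫ f) v
    have hdr : d = r := by
      replace hr : topologicalKrullDim (I.support : Set X) = r := hr
      rw [Groth.L22.SchemeDim.topologicalKrullDim_eq_of_isEmbedding I.subschemeι.isEmbedding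
        I.range_subschemeι, hd] at hr
      exact_mod_cast hr
    refine ⟨b, z, (ringKrullDim_eq_of_ringEquiv e).trans hb, ?_, hdr ▸ hbz⟩
    have h : Set.range (I.subschemeι ∘ (Subtype.val : closure ({v} : Set I.subscheme) → I.subscheme)) =
        closure ({I.subschemeι v} : Set X) := by
      rw [Set.range_comp, Subtype.range_coe, ← I.subschemeι.isClosedEmbedding.closure_image_eq, Set.image_singleton]
    rw [Groth.L22.SchemeDim.topologicalKrullDim_eq_of_isEmbedding
      (I.subschemeι.isEmbedding.comp Topology.IsEmbedding.subtypeVal) h]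
    exact hz

include f in
/-- Everything needed at a component of a proper intersection. -/
theorem proper_facts (IV IW : X.IdealSheafData) [IsIntegral IV.subscheme] [IsIntegral IW.subscheme]
    (n r s : ℕ) (hn : topologicalKrullDim X = n) (hr : topologicalKrullDim IV.support = r)
    (hs : topologicalKrullDim IW.support = s)
    (hprop : _root_.IntMult.ProperInt (IV.support : Set X) (IW.support : Set X) n r s) (ξ : X)
    (hξV : ξ ∈ IV.support) (hξW : ξ ∈ IW.support)
    (hmax : ∀ ξ' : X, ξ' ∈ IV.support → ξ' ∈ IW.support → ξ' ⤳ ξ → ξ' = ξ) :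
    IsRegularLocalRing (X.presheaf.stalk ξ) ∧ (_root_.IntMult.stalkIdeal IV ξ).IsPrime ∧
      (_root_.IntMult.stalkIdeal IW ξ).IsPrime ∧
      (∀ p : Ideal (X.presheaf.stalk ξ), p.IsPrime →
        _root_.IntMult.stalkIdeal IV ξ ⊔ _root_.IntMult.stalkIdeal IW ξ ≤ p → p = maximalIdeal _) ∧
      ∃ a b : ℕ, ringKrullDim (↑(X.presheaf.stalk ξ) ⧸ _root_.IntMult.stalkIdeal IV ξ) = a ∧
        ringKrullDim (↑(X.presheaf.stalk ξ) ⧸ _root_.IntMult.stalkIdeal IW ξ) = b ∧
        ringKrullDim (X.presheaf.stalk ξ) = ((a + b : ℕ) : WithBot ℕ∞) := by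
  haveI hreg : IsRegularLocalRing (X.presheaf.stalk ξ) := Groth.L21.Smooth.regular_stalk f ξ
  obtain ⟨hPp, hPs, a, z, ha, hz, haz⟩ := quotient_facts k f IV hξV r hr
  obtain ⟨hQp, hQs, b, z', hb, hz', hbz⟩ := quotient_facts k f IW hξW s hs
  obtain ⟨d, c, z'', hd, hc, hz'', hcz⟩ := dim_stalk_add_closure k f ξ
  have hzz : z' = z := by exact_mod_cast hz'.symm.trans hz
  have hzz' : z'' = z := by exact_mod_cast hz''.symm.trans hz
  have hdn : d = n := by exact_mod_cast hd.symm.trans hn
  have hmaxid : ∀ p : Ideal (X.presheaf.stalk ξ), p.IsPrime →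
      _root_.IntMult.stalkIdeal IV ξ ⊔ _root_.IntMult.stalkIdeal IW ξ ≤ p → p = maximalIdeal _ := by
    intro p hp hle
    let pp : PrimeSpectrum (X.presheaf.stalk ξ) := ⟨p, hp⟩
    have h1 : X.fromSpecStalk ξ pp ⤳ ξ := by
      rw [← Set.mem_ofPred_eq (p := fun z => z ⤳ ξ), ← X.range_fromSpecStalk]
      exact ⟨pp, rfl⟩
    have h2 : X.fromSpecStalk ξ pp = ξ :=
      hmax _ (hPs pp (le_trans le_sup_left hle)) (hQs pp (le_trans le_sup_right hle)) h1
    have h3 : pp = closedPoint _ :=
      (X.fromSpecStalk ξ).isEmbedding.injective (h2.trans Scheme.fromSpecStalk_closedPoint.symm)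
    exact congrArg PrimeSpectrum.asIdeal h3
  obtain ⟨hle, hdim⟩ := hprop ⟨ξ, hξV, hξW⟩
  have hzle : z ≤ r + s - n := by
    have h : closure ({ξ} : Set X) ⊆ (IV.support : Set X) ∩ IW.support :=
      closure_minimal (Set.singleton_subset_iff.2 ⟨hξV, hξW⟩) (IV.support.isClosed.inter IW.support.isClosed)
    have h' := (Groth.L22.SchemeDim.topologicalKrullDim_mono h).trans hdim
    rw [hz] at h'
    exact_mod_cast h'
  -- the reverse inequality is Serre's dimension inequality
  have hge : r + s ≤ z + n := by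
    obtain ⟨η₁, hη₁⟩ := QuasiSober.sober (isIrreducible_range IV.subschemeι IV.range_subschemeι) IV.support.isClosed
    obtain ⟨η₂, hη₂⟩ := QuasiSober.sober (isIrreducible_range IW.subschemeι IW.range_subschemeι) IW.support.isClosed
    have h := Groth.L22.SmoothInter.dim_closure_add_le f (hη₁.specializes hξV) (hη₂.specializes hξW)
      (fun w h₁ h₂ h₃ => hmax w (hη₁.specializes_iff_mem.1 h₁) (hη₂.specializes_iff_mem.1 h₂) h₃)
    rw [hη₁.def, hη₂.def, hz, hn] at h
    change topologicalKrullDim (IV.support : Set X) + topologicalKrullDim (IW.support : Set X) ≤ _ at h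
    rw [show topologicalKrullDim (IV.support : Set X) = _ from hr,
      show topologicalKrullDim (IW.support : Set X) = _ from hs] at h
    exact_mod_cast h
  refine ⟨hreg, hPp, hQp, hmaxid, a, b, ha, hb, ?_⟩
  rw [hc]
  exact congrArg (fun t : ℕ => (t : WithBot ℕ∞)) (by omega)

end Groth.L22.IntMult
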