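import Groth.Agent.L22.IntMult.AssocStep

/-!
Associativity of the iterated Euler characteristic for a complete intersection.
-/

set_option autoImplicit false
set_option linter.style.haveILetI false
set_option backward.isDefEq.respectTransparency false

universe u

open CategoryTheory CategoryTheory.Limits IsLocalRing
open scoped TensorProduct Pointwise

namespace Groth.L22.IntMult

variable {A : Type u} [CommRing A] [IsRegularLocalRing A]
variable {M P Q : Type u} [AddCommGroup M] [Module A M] [AddCommGroup P] [Module A P] [AddCommGroup Q] [Module A Q]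

omit [IsRegularLocalRing A] in
theorem chi_self_left (T : Type u) [AddCommGroup T] [Module A T] :
    _root_.IntMult.chi A A T = ((Module.length A T).toNat : ℤ) := by
  rw [_root_.IntMult.chi, finsum_eq_single _ 0 fun i hi => ?_]
  · obtain ⟨e⟩ := nonempty_tor_zero (A := A) A T
    rw [pow_zero, one_mul, e.length_eq, (TensorProduct.lid A T).length_eq]
  · haveI := subsingleton_tor_of_flat_left (A := A) A T i (Nat.pos_of_ne_zero hi)
    rw [Module.length_eq_zero]
    simp

omit [IsRegularLocalRing A] in
theorem tri_self_left : tri (A := A) A P Q = _root_.IntMult.chi A P Q :=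
  finsum_congr fun i => by rw [chi_self_left]

omit [IsRegularLocalRing A] in
theorem tri_self_middle : tri (A := A) P A Q = _root_.IntMult.chi A P Q := by
  rw [tri, finsum_eq_single _ 0 fun i hi => ?_]
  · obtain ⟨e⟩ := nonempty_tor_zero (A := A) A Q
    rw [pow_zero, one_mul, chi_congr (LinearEquiv.refl A P) (e ≪≫ₗ TensorProduct.lid A Q)]
  · haveI := subsingleton_tor_of_flat_left (A := A) A Q i (Nat.pos_of_ne_zero hi)
    rw [chi_subsingleton, mul_zero]

omit [IsRegularLocalRing A] in
theorem tri_subsingleton (M P Q : Type u) [AddCommGroup M] [Module A M] [AddCommGroup P] [Module A P]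
    [AddCommGroup Q] [Module A Q] [Subsingleton Q] : tri (A := A) M P Q = 0 := by
  refine finsum_eq_zero_of_forall_eq_zero fun i => ?_
  haveI : Subsingleton (DRing.Tor A i P Q) := subsingleton_of_forall_eq 0 fun z => by
    rw [← one_smul A z]
    exact smul_tor_eq_zero' i P Q (fun m => Subsingleton.elim _ _) z
  rw [chi_subsingleton, mul_zero]

omit [IsRegularLocalRing A] in
theorem ker_sx {x : A} (hx : IsSMulRegular M x) : LinearMap.ker (sx x M) = ⊥ :=
  LinearMap.ker_eq_bot.2 hx

omit [IsRegularLocalRing A] in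
theorem range_sx (x : A) : LinearMap.range (sx x M) = x • (⊤ : Submodule A M) := by
  ext m
  rw [Submodule.mem_smul_pointwise_iff_exists, LinearMap.mem_range]
  exact ⟨fun ⟨w, hw⟩ => ⟨w, trivial, hw⟩, fun ⟨w, _, hw⟩ => ⟨w, hw⟩⟩

omit [IsRegularLocalRing A] in
theorem mem_of_mem_support {x : A} {T : Type u} [AddCommGroup T] [Module A T] (hT : ∀ t : T, x • t = 0)
    {p : PrimeSpectrum A} (hp : p ∈ Module.support A T) : x ∈ p.asIdeal := by
  obtain ⟨t, ht⟩ := Module.mem_support_iff'.1 hp
  by_contra hx
  exact ht x hx (hT t)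

omit [IsRegularLocalRing A] in
theorem mem_support_range_sx {x : A} {T : Type u} [AddCommGroup T] [Module A T] [Module.Finite A T]
    {p : PrimeSpectrum A} : p ∈ Module.support A (T ⧸ LinearMap.range (sx x T)) ↔
      p ∈ Module.support A T ∧ x ∈ p.asIdeal := by
  rw [(Submodule.quotEquivOfEq _ _ (range_sx x)).support_eq,
    show Module.support A (T ⧸ x • (⊤ : Submodule A T)) = _ from Module.support_quotSMulTop (M := T) x,
    Set.mem_inter_iff, PrimeSpectrum.mem_zeroLocus, Set.singleton_subset_iff, SetLike.mem_coe]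

omit [IsRegularLocalRing A] in
theorem mem_support_ker_sx {x : A} {T : Type u} [AddCommGroup T] [Module A T]
    {p : PrimeSpectrum A} (hp : p ∈ Module.support A (LinearMap.ker (sx x T))) :
    p ∈ Module.support A T ∧ x ∈ p.asIdeal :=
  ⟨Module.support_subset_of_injective (LinearMap.ker (sx x T)).subtype (Submodule.subtype_injective _) hp,
    mem_of_mem_support (fun t => Subtype.ext t.2) hp⟩

/-- Cutting the first variable of `χ`. -/
theorem cut {x : A} [Module.Finite A M] (hx : IsSMulRegular M x) (T : Type u) [AddCommGroup T] [Module A T]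
    [Module.Finite A T] (h : Meet (A := A) (M ⧸ LinearMap.range (sx x M)) T) :
    _root_.IntMult.chi A (M ⧸ LinearMap.range (sx x M)) T = eps M (sx x T) := by
  obtain ⟨d, hd⟩ := Groth.L01.exists_dim_eq_nat (R := A)
  haveI : Subsingleton (LinearMap.ker (sx x M)) := by rw [ker_sx hx]; infer_instance
  have h1 := step (M := A) (P := T) (Q := M) x (fun p _ hp hq => h p hq hp)
    (fun p _ _ hp => absurd hp (by
      rw [Module.support_eq_empty_iff.2 (inferInstance : Subsingleton (LinearMap.ker (sx x M)))]; exact id)) hd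
  have h2 := step (M := A) (P := M) (Q := T) x
    (fun p _ hp hq => h p (mem_support_range_sx.2 ⟨hp, (mem_support_range_sx.1 hq).2⟩) (mem_support_range_sx.1 hq).1)
    (fun p _ hp hq => h p (mem_support_range_sx.2 ⟨hp, (mem_support_ker_sx hq).2⟩) (mem_support_ker_sx hq).1) hd
  rw [tri_self_left, tri_subsingleton A T (LinearMap.ker (sx x M)), sub_zero] at h1
  rw [tri_self_left, tri_self_left] at h2
  rw [chi_comm, ← h1, show eps M (sx x T) = _ from h2.symm]
  refine Finset.sum_congr rfl fun i _ => ?_
  obtain ⟨e⟩ := nonempty_tor_comm (A := A) i T M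
  rw [eps_congr x e]

/-- One step of the associativity. -/
theorem assoc_step {x : A} [Module.Finite A M] [Module.Finite A P] [Module.Finite A Q] (hx : IsSMulRegular M x)
    (ih : ∀ (R : Type u) [AddCommGroup R] [Module A R] [Module.Finite A R],
      Meet3 (A := A) M P R → tri (A := A) M P R = tri (A := A) P M R)
    (h : Meet3 (A := A) (M ⧸ LinearMap.range (sx x M)) P Q) :
    tri (A := A) (M ⧸ LinearMap.range (sx x M)) P Q = tri (A := A) P (M ⧸ LinearMap.range (sx x M)) Q := by
  obtain ⟨d, hd⟩ := Groth.L01.exists_dim_eq_nat (R := A)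
  haveI : Subsingleton (LinearMap.ker (sx x M)) := by rw [ker_sx hx]; infer_instance
  have hq : Meet3 (A := A) M P (Q ⧸ LinearMap.range (sx x Q)) := fun p hm hp hq =>
    h p (mem_support_range_sx.2 ⟨hm, (mem_support_range_sx.1 hq).2⟩) hp (mem_support_range_sx.1 hq).1
  have hk : Meet3 (A := A) M P (LinearMap.ker (sx x Q)) := fun p hm hp hq =>
    h p (mem_support_range_sx.2 ⟨hm, (mem_support_ker_sx hq).2⟩) hp (mem_support_ker_sx hq).1
  have h1 := step (M := M) (P := P) (Q := Q) x hq hk hd
  have h2 := step (M := P) (P := Q) (Q := M) x (fun p hp hq hm => h p hm hp hq)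
    (fun p _ _ hp => absurd hp (by
      rw [Module.support_eq_empty_iff.2 (inferInstance : Subsingleton (LinearMap.ker (sx x M)))]; exact id)) hd
  have h3 := step (M := P) (P := M) (Q := Q) x (fun p hp hm hq' => hq p hm hp hq')
    (fun p hp hm hk' => hk p hm hp hk') hd
  rw [tri_subsingleton P Q (LinearMap.ker (sx x M)), sub_zero] at h2
  rw [← ih _ hq, ← ih _ hk, ← h1] at h3
  rw [tri_eq_range hd, tri_comm P, ← h2]
  calc _ = ∑ i ∈ Finset.range (d + 1), (-1 : ℤ) ^ i * eps M (sx x (DRing.Tor A i P Q)) :=
        Finset.sum_congr rfl fun i _ => by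
          haveI : Module.Finite A (DRing.Tor A i P Q) := L02.CAlg.TorV.finite_tor P Q i
          rw [cut hx _ (h.tor i)]
    _ = _ := h3.symm
    _ = _ := Finset.sum_congr rfl fun i _ => by
        obtain ⟨e⟩ := nonempty_tor_comm (A := A) i M Q
        rw [eps_congr x e]

/-- Associativity along a weakly regular sequence. -/
theorem assoc_regular [Module.Finite A P] : ∀ (xs : List A) (M : Type u) [AddCommGroup M] [Module A M]
    [Module.Finite A M], RingTheory.Sequence.IsWeaklyRegular M xs →
    (∀ (R : Type u) [AddCommGroup R] [Module A R] [Module.Finite A R],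
      Meet3 (A := A) M P R → tri (A := A) M P R = tri (A := A) P M R) →
    ∀ (R : Type u) [AddCommGroup R] [Module A R] [Module.Finite A R],
      Meet3 (A := A) (M ⧸ (Ideal.ofList xs • ⊤ : Submodule A M)) P R →
        tri (A := A) (M ⧸ (Ideal.ofList xs • ⊤ : Submodule A M)) P R =
          tri (A := A) P (M ⧸ (Ideal.ofList xs • ⊤ : Submodule A M)) R := by
  intro xs
  induction xs with
  | nil =>
    intro M _ _ _ _ h R _ _ _ hm
    let e : (M ⧸ (Ideal.ofList ([] : List A) • ⊤ : Submodule A M)) ≃ₗ[A] M :=
      Submodule.quotEquivOfEqBot _ (by rw [Ideal.ofList_nil, Submodule.bot_smul])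
    rw [tri_congr e (LinearEquiv.refl A P) (LinearEquiv.refl A R),
      tri_congr (LinearEquiv.refl A P) e (LinearEquiv.refl A R)]
    exact h R fun p h1 h2 h3 => hm p (by rw [e.support_eq]; exact h1) h2 h3
  | cons x xs ih =>
    intro M _ _ _ hreg h R _ _ _ hm
    obtain ⟨hx, hxs⟩ := (RingTheory.Sequence.isWeaklyRegular_cons_iff M x xs).1 hreg
    let e1 : QuotSMulTop x M ≃ₗ[A] M ⧸ LinearMap.range (sx x M) := Submodule.quotEquivOfEq _ _ (range_sx x).symm
    let e := Submodule.quotOfListConsSMulTopEquivQuotSMulTopInner M x xs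
    rw [tri_congr e (LinearEquiv.refl A P) (LinearEquiv.refl A R),
      tri_congr (LinearEquiv.refl A P) e (LinearEquiv.refl A R)]
    refine ih (QuotSMulTop x M) hxs (fun S _ _ _ hS => ?_) R fun p h1 h2 h3 => hm p (by rw [e.support_eq]; exact h1) h2 h3
    rw [tri_congr e1 (LinearEquiv.refl A P) (LinearEquiv.refl A S),
      tri_congr (LinearEquiv.refl A P) e1 (LinearEquiv.refl A S)]
    exact assoc_step hx h fun p h1 h2 h3 => hS p (by rw [e1.support_eq]; exact h1) h2 h3

/-- Associativity for a complete intersection. -/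
theorem assoc_ci [Module.Finite A P] [Module.Finite A Q] (xs : List A) (hreg : RingTheory.Sequence.IsWeaklyRegular A xs)
    (h : Meet3 (A := A) (A ⧸ Ideal.ofList xs) P Q) :
    tri (A := A) (A ⧸ Ideal.ofList xs) P Q = tri (A := A) P (A ⧸ Ideal.ofList xs) Q := by
  let e : (A ⧸ (Ideal.ofList xs • ⊤ : Submodule A A)) ≃ₗ[A] A ⧸ Ideal.ofList xs :=
    Submodule.quotEquivOfEq _ _ (by rw [smul_eq_mul, Ideal.mul_top])
  rw [← tri_congr e (LinearEquiv.refl A P) (LinearEquiv.refl A Q),
    ← tri_congr (LinearEquiv.refl A P) e (LinearEquiv.refl A Q)]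
  exact assoc_regular xs A hreg (fun R _ _ _ _ => by rw [tri_self_left, tri_self_middle]) Q
    fun p h1 h2 h3 => h p (by rw [← e.support_eq]; exact h1) h2 h3

end Groth.L22.IntMult
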