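import Groth.Agent.L22.IntMult.DiagTor
import Groth.Agent.L22.IntMult.Main
import Groth.Agent.L20.FibreStalk
import Groth.Agent.L12.CotTSmooth
import Groth.Agent.L01.Regular
import Mathlib.RingTheory.Smooth.Basic

/-!
Positivity of intersection multiplicities at a prime of a smooth algebra, by reduction to the diagonal.
-/

set_option autoImplicit false
set_option linter.style.haveILetI false
set_option backward.isDefEq.respectTransparency false

universe u

open IsLocalRing
open scoped TensorProduct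

namespace Groth.L22.IntMult

/-- The dimension formula for a flat quotient. -/
theorem dim_quot_flat {A C : Type u} [CommRing A] [IsLocalRing A] [IsNoetherianRing A] [CommRing C]
    [IsLocalRing C] [IsNoetherianRing C] (φ : A →+* C) (hloc : (maximalIdeal A).map φ ≤ maximalIdeal C)
    (X : Ideal C) (hX : X ≤ maximalIdeal C) (hflat : ((Ideal.Quotient.mk X).comp φ).Flat) (I : Ideal A)
    (hI : I ≤ maximalIdeal A) :
    ringKrullDim (C ⧸ (X ⊔ I.map φ)) = ringKrullDim (A ⧸ I) + ringKrullDim (C ⧸ (X ⊔ (maximalIdeal A).map φ)) := by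
  let ψ := (Ideal.Quotient.mk X).comp φ
  let g := Ideal.quotientMap (I.map ψ) ψ Ideal.le_comap_map
  have hg : g.Flat := Groth.L20.flat_quotientMap_of_flat ψ I hflat
  let e : (C ⧸ X) ⧸ I.map ψ ≃+* C ⧸ (X ⊔ I.map φ) :=
    (Ideal.quotEquivOfEq (Ideal.map_map φ (Ideal.Quotient.mk X)).symm).trans
      (DoubleQuot.quotQuotEquivQuotSup X (I.map φ))
  let h : A ⧸ I →+* C ⧸ (X ⊔ I.map φ) := e.toRingHom.comp g
  have hh : h.Flat := hg.comp (RingHom.Flat.of_bijective e.bijective)
  have hne : X ⊔ I.map φ ≤ maximalIdeal C := sup_le hX ((Ideal.map_mono hI).trans hloc)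
  haveI : Nontrivial (C ⧸ (X ⊔ I.map φ)) :=
    Ideal.Quotient.nontrivial_iff.2 (ne_top_of_le_ne_top (maximalIdeal.isMaximal C).ne_top hne)
  haveI : Nontrivial (A ⧸ I) :=
    Ideal.Quotient.nontrivial_iff.2 (ne_top_of_le_ne_top (maximalIdeal.isMaximal A).ne_top hI)
  haveI : IsLocalRing (C ⧸ (X ⊔ I.map φ)) := IsLocalRing.of_surjective' _ Ideal.Quotient.mk_surjective
  haveI : IsLocalRing (A ⧸ I) := IsLocalRing.of_surjective' _ Ideal.Quotient.mk_surjective
  letI := h.toAlgebra
  haveI : Module.Flat (A ⧸ I) (C ⧸ (X ⊔ I.map φ)) := hh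
  have hmap : (maximalIdeal (A ⧸ I)).map h = ((maximalIdeal A).map φ).map (Ideal.Quotient.mk (X ⊔ I.map φ)) := by
    rw [← IsLocalRing.map_maximalIdeal_of_surjective (Ideal.Quotient.mk I) Ideal.Quotient.mk_surjective,
      Ideal.map_map, Ideal.map_map]
    exact congrArg (fun χ => (maximalIdeal A).map χ) (RingHom.ext fun a => rfl)
  haveI : (maximalIdeal (C ⧸ (X ⊔ I.map φ))).LiesOver (maximalIdeal (A ⧸ I)) := by
    refine ⟨((maximalIdeal.isMaximal _).eq_of_le (Ideal.comap_ne_top _ (maximalIdeal.isMaximal _).ne_top) ?_)⟩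
    rw [← Ideal.map_le_iff_le_comap]
    show (maximalIdeal (A ⧸ I)).map h ≤ _
    rw [hmap, ← IsLocalRing.map_maximalIdeal_of_surjective (Ideal.Quotient.mk (X ⊔ I.map φ)) Ideal.Quotient.mk_surjective]
    exact Ideal.map_mono hloc
  have key := Ideal.height_eq_height_add_of_liesOver_of_hasGoingDown (maximalIdeal (A ⧸ I))
    (maximalIdeal (C ⧸ (X ⊔ I.map φ)))
  let M := (maximalIdeal (A ⧸ I)).map (algebraMap (A ⧸ I) (C ⧸ (X ⊔ I.map φ)))
  have hM : M ≤ maximalIdeal _ := Ideal.map_le_iff_le_comap.2 (Ideal.LiesOver.over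
    (P := maximalIdeal (C ⧸ (X ⊔ I.map φ))) (p := maximalIdeal (A ⧸ I))).le
  haveI : Nontrivial ((C ⧸ (X ⊔ I.map φ)) ⧸ M) :=
    Ideal.Quotient.nontrivial_iff.2 (ne_top_of_le_ne_top (maximalIdeal.isMaximal _).ne_top hM)
  haveI : IsLocalRing ((C ⧸ (X ⊔ I.map φ)) ⧸ M) := IsLocalRing.of_surjective' _ Ideal.Quotient.mk_surjective
  rw [IsLocalRing.map_maximalIdeal_of_surjective (Ideal.Quotient.mk M) Ideal.Quotient.mk_surjective] at key
  have hsup : X ⊔ I.map φ ⊔ (maximalIdeal A).map φ = X ⊔ (maximalIdeal A).map φ := by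
    rw [sup_assoc, sup_eq_right.2 (Ideal.map_mono (f := φ) hI)]
  have e' : ringKrullDim ((C ⧸ (X ⊔ I.map φ)) ⧸ M) = ringKrullDim (C ⧸ (X ⊔ (maximalIdeal A).map φ)) :=
    ringKrullDim_eq_of_ringEquiv ((Ideal.quotEquivOfEq hmap).trans
      ((DoubleQuot.quotQuotEquivQuotSup _ _).trans (Ideal.quotEquivOfEq hsup)))
  rw [← e', ← maximalIdeal_height_eq_ringKrullDim, ← maximalIdeal_height_eq_ringKrullDim,
    ← maximalIdeal_height_eq_ringKrullDim, key, WithBot.coe_add]

/-- The composite with a quotient map is flat. -/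
abbrev FlatQ {A C : Type u} [CommRing A] [CommRing C] (φ : A →+* C) (X : Ideal C) : Prop :=
  ((Ideal.Quotient.mk X).comp φ).Flat

theorem flat_of_comp_loc {R Ap D : Type u} [CommRing R] [CommRing Ap] [Algebra R Ap] (S : Submonoid R)
    [IsLocalization S Ap] [CommRing D] (g : Ap →+* D) (h : (g.comp (algebraMap R Ap)).Flat) : g.Flat := by
  letI := g.toAlgebra
  letI : Algebra R D := (g.comp (algebraMap R Ap)).toAlgebra
  haveI : IsScalarTower R Ap D := IsScalarTower.of_algebraMap_eq' rfl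
  haveI : Module.Flat R D := h
  exact (Module.flat_iff_of_isLocalization Ap S D).2 inferInstance

variable (k : Type u) [Field k] {R : Type u} [CommRing R] [Algebra k R] (p : Ideal R) [p.IsPrime]
  (Ap : Type u) [CommRing Ap] [Algebra R Ap] [IsLocalization.AtPrime Ap p]

/-- The prime of the diagonal. -/
abbrev diagPrime : Ideal (R ⊗[k] R) := p.comap (Algebra.TensorProduct.lmul' k (S := R)).toRingHom

/-- The local ring of the product at the diagonal point. -/
abbrev DiagLoc : Type u := Localization.AtPrime (diagPrime k p)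

theorem le_comap_left : p.primeCompl ≤ (diagPrime k p).primeCompl.comap
    (Algebra.TensorProduct.includeLeftRingHom (R := k) (A := R) (B := R)) := fun r hr h => hr (by
  have h' : Algebra.TensorProduct.lmul' k (S := R) (r ⊗ₜ[k] 1) ∈ p := h
  simpa using h')

theorem le_comap_right : p.primeCompl ≤ (diagPrime k p).primeCompl.comap
    (Algebra.TensorProduct.includeRight (R := k) (A := R) (B := R)).toRingHom := fun r hr h => hr (by
  have h' : Algebra.TensorProduct.lmul' k (S := R) (1 ⊗ₜ[k] r) ∈ p := h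
  simpa using h')

/-- Left factor. -/
noncomputable def iL : Ap →+* DiagLoc k p :=
  IsLocalization.map _ _ (le_comap_left k p)

/-- Right factor. -/
noncomputable def iR : Ap →+* DiagLoc k p :=
  IsLocalization.map _ _ (le_comap_right k p)

/-- The diagonal. -/
noncomputable def toDiag : DiagLoc k p →+* Ap :=
  IsLocalization.map Ap (Algebra.TensorProduct.lmul' k (S := R)).toRingHom
    (show (diagPrime k p).primeCompl ≤ p.primeCompl.comap _ from fun _ h => h)

theorem toDiag_iL (a : Ap) : toDiag k p Ap (iL k p Ap a) = a := by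
  refine RingHom.congr_fun (IsLocalization.ringHom_ext p.primeCompl (j := (toDiag k p Ap).comp (iL k p Ap))
    (k := RingHom.id Ap) (RingHom.ext fun r => ?_)) a
  simp [iL, toDiag, IsLocalization.map_eq]

theorem toDiag_iR (a : Ap) : toDiag k p Ap (iR k p Ap a) = a := by
  refine RingHom.congr_fun (IsLocalization.ringHom_ext p.primeCompl (j := (toDiag k p Ap).comp (iR k p Ap))
    (k := RingHom.id Ap) (RingHom.ext fun r => ?_)) a
  simp [iR, toDiag, IsLocalization.map_eq]

theorem flat_loc (inc : R →+* R ⊗[k] R) (hinc : p.primeCompl ≤ (diagPrime k p).primeCompl.comap inc)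
    (Y : Ideal (R ⊗[k] R)) (h : ((Ideal.Quotient.mk Y).comp inc).Flat) :
    FlatQ (IsLocalization.map (DiagLoc k p) inc hinc : Ap →+* DiagLoc k p)
      (Y.map (algebraMap _ (DiagLoc k p))) := by
  refine flat_of_comp_loc p.primeCompl _ ?_
  have hT : (algebraMap (R ⊗[k] R) (DiagLoc k p)).Flat :=
    RingHom.flat_algebraMap_iff.2 (IsLocalization.flat (DiagLoc k p) (diagPrime k p).primeCompl)
  convert h.comp (Groth.L20.flat_quotientMap_of_flat _ Y hT) using 1
  refine RingHom.ext fun r => ?_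
  simp [IsLocalization.map_eq]

theorem flat_left_quot (Q₀ : Ideal R) :
    ((Ideal.Quotient.mk (Q₀.map (Algebra.TensorProduct.includeRight (R := k) (A := R) (B := R)).toRingHom)).comp
      (Algebra.TensorProduct.includeLeftRingHom (R := k) (A := R) (B := R))).Flat := by
  haveI : Module.Flat k (R ⧸ Q₀) := inferInstance
  have h1 : (algebraMap R (TensorProduct k R (R ⧸ Q₀))).Flat := RingHom.flat_algebraMap_iff.2 inferInstance
  have h2 := h1.comp (RingHom.Flat.of_bijective
    (f := (Algebra.TensorProduct.tensorQuotientEquiv (R := k) R R R Q₀).toRingEquiv.toRingHom)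
    (Algebra.TensorProduct.tensorQuotientEquiv (R := k) R R R Q₀).bijective)
  change FlatQ (Algebra.TensorProduct.includeLeftRingHom (R := k) (A := R) (B := R))
    (Q₀.map (Algebra.TensorProduct.includeRight (R := k) (A := R) (B := R)))
  unfold FlatQ
  convert h2 using 1
  refine RingHom.ext fun r => ?_
  exact ((Algebra.TensorProduct.tensorQuotientEquiv (R := k) R R R Q₀).commutes r).symm

theorem flat_right_quot (Q₀ : Ideal R) :
    ((Ideal.Quotient.mk (Q₀.map (Algebra.TensorProduct.includeLeftRingHom (R := k) (A := R) (B := R)))).comp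
      (Algebra.TensorProduct.includeRight (R := k) (A := R) (B := R)).toRingHom).Flat := by
  let σ := (Algebra.TensorProduct.comm k R R).toRingEquiv
  have hmap : Q₀.map (Algebra.TensorProduct.includeLeftRingHom (R := k) (A := R) (B := R)) =
      (Q₀.map (Algebra.TensorProduct.includeRight (R := k) (A := R) (B := R)).toRingHom).map (σ : R ⊗[k] R →+* _) := by
    rw [Ideal.map_map]
    exact congrArg (fun χ => Q₀.map χ) (RingHom.ext fun r => by simp [σ])
  have h2 := (flat_left_quot k Q₀).comp (RingHom.Flat.of_bijective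
    (f := (Ideal.quotientEquiv _ _ σ hmap).toRingHom) (RingEquiv.bijective _))
  convert h2 using 1
  refine RingHom.ext fun r => ?_
  simp [σ]

theorem flat_iL_quot (Q : Ideal Ap) : FlatQ (iL k p Ap) (Q.map (iR k p Ap)) := by
  have hX : Q.map (iR k p Ap) = ((Q.comap (algebraMap R Ap)).map
      (Algebra.TensorProduct.includeRight (R := k) (A := R) (B := R)).toRingHom).map
        (algebraMap _ (DiagLoc k p)) := by
    conv_lhs => rw [← IsLocalization.map_comap p.primeCompl Ap Q]
    rw [Ideal.map_map, Ideal.map_map, iR, IsLocalization.map_comp]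
  rw [hX]
  exact flat_loc k p Ap _ (le_comap_left k p) _ (flat_left_quot k _)

theorem flat_iR_quot (Q : Ideal Ap) : FlatQ (iR k p Ap) (Q.map (iL k p Ap)) := by
  have hX : Q.map (iL k p Ap) = ((Q.comap (algebraMap R Ap)).map
      (Algebra.TensorProduct.includeLeftRingHom (R := k) (A := R) (B := R))).map
        (algebraMap _ (DiagLoc k p)) := by
    conv_lhs => rw [← IsLocalization.map_comap p.primeCompl Ap Q]
    rw [Ideal.map_map, Ideal.map_map, iL, IsLocalization.map_comp]
  rw [hX]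
  exact flat_loc k p Ap _ (le_comap_right k p) _ (flat_right_quot k _)

theorem flat_iR : (iR k p Ap).Flat := by
  refine flat_of_comp_loc p.primeCompl _ ?_
  rw [iR, IsLocalization.map_comp]
  haveI : Module.Flat k R := inferInstance
  refine RingHom.Flat.comp ?_ (RingHom.flat_algebraMap_iff.2 (IsLocalization.flat (DiagLoc k p) (diagPrime k p).primeCompl))
  have h1 : (algebraMap R (TensorProduct k R R)).Flat := RingHom.flat_algebraMap_iff.2 inferInstance
  have h2 := h1.comp (RingHom.Flat.of_bijective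
    (f := (Algebra.TensorProduct.comm k R R).toRingEquiv.toRingHom) (Algebra.TensorProduct.comm k R R).bijective)
  convert h2 using 1
  refine RingHom.ext fun r => ?_
  simp

theorem chi_diag (P Q : Ideal Ap) :
    _root_.IntMult.chi Ap (Ap ⧸ P) (Ap ⧸ Q) = _root_.IntMult.chi (DiagLoc k p)
      (DiagLoc k p ⧸ RingHom.ker (toDiag k p Ap)) (DiagLoc k p ⧸ (P.map (iL k p Ap) ⊔ Q.map (iR k p Ap))) := by
  simp only [_root_.IntMult.chi, length_tor_diag (iL k p Ap) (iR k p Ap) (toDiag k p Ap) P Q (toDiag_iL k p Ap)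
    (toDiag_iR k p Ap) (flat_iR k p Ap) (flat_iL_quot k p Ap Q)]

theorem regular_diagLoc [Algebra.Smooth k R] : IsRegularLocalRing (DiagLoc k p) := by
  haveI : Algebra.Smooth k (R ⊗[k] R) := Algebra.Smooth.comp k R (R ⊗[k] R)
  haveI : Algebra.IsSmoothAt k (diagPrime k p) :=
    inferInstanceAs (Algebra.FormallySmooth k (Localization (diagPrime k p).primeCompl))
  exact Groth.L12.CotTLib.regular_of_isSmoothAt (k := k) _

theorem exists_dim_nat {S : Type u} [CommRing S] [IsLocalRing S] [IsNoetherianRing S] :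
    ∃ d : ℕ, ringKrullDim S = d := by
  obtain ⟨d, hd⟩ := WithBot.ne_bot_iff_exists.1 (ringKrullDim_ne_bot (R := S))
  cases d using ENat.recTopCoe with
  | top => exact absurd hd.symm ringKrullDim_ne_top
  | coe d => exact ⟨d, hd.symm⟩

include k p in
/-- The multiplicity as a Koszul Euler characteristic on the product. -/
theorem exists_kosz [Algebra.Smooth k R] [IsRegularLocalRing Ap] (P Q : Ideal Ap) (hP : P ≤ maximalIdeal Ap)
    (hQ : Q ≤ maximalIdeal Ap) (a b d : ℕ) (ha : ringKrullDim (Ap ⧸ P) = a) (hb : ringKrullDim (Ap ⧸ Q) = b)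
    (hd : ringKrullDim Ap = (d : WithBot ℕ∞))
    (hmax : ∀ W : Ideal Ap, W.IsPrime → P ⊔ Q ≤ W → W = maximalIdeal Ap) :
    ∃ (C : Type u) (_ : CommRing C) (_ : IsRegularLocalRing C) (I : Ideal C) (fs : List C) (δ : ℕ),
      _root_.IntMult.chi Ap (Ap ⧸ P) (Ap ⧸ Q) = Groth.L05.Kosz.chi fs (C ⧸ I) ∧
      (∀ f ∈ fs, f ∈ maximalIdeal C) ∧ Groth.L05.Kosz.Good fs (C ⧸ I) ∧ fs.length = d + δ ∧
      ringKrullDim (C ⧸ I) = ((a + b + δ : ℕ) : WithBot ℕ∞) := by
  haveI := regular_diagLoc k p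
  set C := DiagLoc k p
  set φL := iL k p Ap
  set φR := iR k p Ap
  set π := toDiag k p Ap
  have hπs : Function.Surjective π := fun x => ⟨φL x, toDiag_iL k p Ap x⟩
  have hπm : (maximalIdeal Ap).comap π = maximalIdeal C :=
    IsLocalRing.eq_maximalIdeal (Ideal.comap_isMaximal_of_surjective π hπs)
  have hlocL : (maximalIdeal Ap).map φL ≤ maximalIdeal C := Ideal.map_le_iff_le_comap.2 fun x hx => by
    rw [Ideal.mem_comap, ← hπm, Ideal.mem_comap, toDiag_iL]; exact hx
  have hlocR : (maximalIdeal Ap).map φR ≤ maximalIdeal C := Ideal.map_le_iff_le_comap.2 fun x hx => by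
    rw [Ideal.mem_comap, ← hπm, Ideal.mem_comap, toDiag_iR]; exact hx
  have hsub : (maximalIdeal Ap).map φL ⊔ (maximalIdeal Ap).map φR ≤ maximalIdeal C := sup_le hlocL hlocR
  haveI : Nontrivial (C ⧸ ((maximalIdeal Ap).map φL ⊔ (maximalIdeal Ap).map φR)) :=
    Ideal.Quotient.nontrivial_iff.2 (ne_top_of_le_ne_top (maximalIdeal.isMaximal C).ne_top hsub)
  haveI : IsLocalRing (C ⧸ ((maximalIdeal Ap).map φL ⊔ (maximalIdeal Ap).map φR)) :=
    IsLocalRing.of_surjective' _ Ideal.Quotient.mk_surjective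
  obtain ⟨δ, hδ⟩ := exists_dim_nat (S := C ⧸ ((maximalIdeal Ap).map φL ⊔ (maximalIdeal Ap).map φR))
  have hdim : ∀ I I' : Ideal Ap, I ≤ maximalIdeal Ap → I' ≤ maximalIdeal Ap →
      ringKrullDim (C ⧸ (I.map φL ⊔ I'.map φR)) =
        ringKrullDim (Ap ⧸ I) + (ringKrullDim (Ap ⧸ I') + (δ : WithBot ℕ∞)) := by
    intro I I' hI hI'
    rw [sup_comm, dim_quot_flat φL hlocL _ ((Ideal.map_mono hI').trans hlocR) (flat_iL_quot k p Ap I') I hI,
      sup_comm, dim_quot_flat φR hlocR _ hlocL (flat_iR_quot k p Ap (maximalIdeal Ap)) I' hI', hδ]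
  have hC : ringKrullDim C = ((d + (d + δ) : ℕ) : WithBot ℕ∞) := by
    have h := hdim ⊥ ⊥ bot_le bot_le
    rw [Ideal.map_bot, Ideal.map_bot, bot_sup_eq, ringKrullDim_eq_of_ringEquiv (RingEquiv.quotientBot C),
      ringKrullDim_eq_of_ringEquiv (RingEquiv.quotientBot Ap), hd] at h
    rw [h]
    norm_cast
  have hR0 : ringKrullDim (C ⧸ (P.map φL ⊔ Q.map φR)) = ((a + b + δ : ℕ) : WithBot ℕ∞) := by
    rw [hdim P Q hP hQ, ha, hb]
    norm_cast
    rw [add_assoc]
  haveI : IsRegularLocalRing (C ⧸ RingHom.ker π) :=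
    IsRegularLocalRing.of_ringEquiv (RingHom.quotientKerEquivOfSurjective hπs).symm
  obtain ⟨l₁, l₂, hlen, hmaxl, hI⟩ := Groth.L01.exists_lists_of_regular_quotient _ C hC (RingHom.ker π) inferInstance
  have hreg := (Groth.L01.isRegular_of_ofList_eq_maximalIdeal (l₁ ++ l₂) hmaxl (by rw [hlen, hC])).toIsWeaklyRegular
  replace hreg := ((RingTheory.Sequence.isWeaklyRegular_append_iff C _ _).1 hreg).1
  have hl₁m : ∀ f ∈ l₁, f ∈ maximalIdeal C := fun f hf =>
    hmaxl.le (Ideal.subset_span (show f ∈ {r | r ∈ l₁ ++ l₂} by simp [hf]))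
  have hl₁ : l₁.length = d + δ := by
    have hreg' : RingTheory.Sequence.IsRegular C l₁ :=
      ⟨hreg, fun h => (maximalIdeal.isMaximal C).ne_top (eq_top_iff.2 (by
        calc (⊤ : Ideal C) = Ideal.ofList l₁ • ⊤ := h
          _ ≤ maximalIdeal C := by rw [smul_eq_mul, Ideal.mul_top]; exact Ideal.span_le.2 hl₁m))⟩
    have h := ringKrullDim_add_length_eq_ringKrullDim_of_isRegular l₁ hreg'
    rw [← hI, ringKrullDim_eq_of_ringEquiv (RingHom.quotientKerEquivOfSurjective hπs), hd, hC] at h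
    have h' : d + l₁.length = d + (d + δ) := by exact_mod_cast h
    omega
  refine ⟨C, inferInstance, inferInstance, P.map φL ⊔ Q.map φR, l₁, δ, ?_, hl₁m, fun W hW h1 h2 => ?_, hl₁, hR0⟩
  · rw [chi_diag k p Ap P Q, chi_comm, hI, chi_eq_kosz l₁ hreg]
  · rw [Ideal.annihilator_quotient] at h1
    have hker : RingHom.ker π ≤ W := hI ▸ h2
    have hWπ := Ideal.map_isPrime_of_surjective (f := π) hπs hker
    have hPQ : P ⊔ Q ≤ W.map π := by
      refine sup_le (fun x hx => ?_) (fun x hx => ?_)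
      · rw [← toDiag_iL k p Ap x]
        exact Ideal.mem_map_of_mem π (h1 (Submodule.mem_sup_left (Ideal.mem_map_of_mem _ hx)))
      · rw [← toDiag_iR k p Ap x]
        exact Ideal.mem_map_of_mem π (h1 (Submodule.mem_sup_right (Ideal.mem_map_of_mem _ hx)))
    have hcm := Ideal.comap_map_of_surjective π hπs W
    rw [hmax _ hWπ hPQ, hπm, ← RingHom.ker_eq_comap_bot, sup_eq_left.2 hker] at hcm
    rw [← hcm]
    exact maximalIdeal.isMaximal C

include k p in
/-- Positivity. -/
theorem chi_pos [Algebra.Smooth k R] [IsRegularLocalRing Ap] (P Q : Ideal Ap) (hP : P ≤ maximalIdeal Ap)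
    (hQ : Q ≤ maximalIdeal Ap) (a b : ℕ) (ha : ringKrullDim (Ap ⧸ P) = a) (hb : ringKrullDim (Ap ⧸ Q) = b)
    (hab : ringKrullDim Ap = ((a + b : ℕ) : WithBot ℕ∞))
    (hmax : ∀ W : Ideal Ap, W.IsPrime → P ⊔ Q ≤ W → W = maximalIdeal Ap) :
    0 < _root_.IntMult.chi Ap (Ap ⧸ P) (Ap ⧸ Q) := by
  obtain ⟨C, _, _, I, fs, δ, hchi, hfs, hgood, hlen, hdim⟩ := exists_kosz k p Ap P Q hP hQ a b (a + b) ha hb hab hmax
  rw [hchi]
  refine Groth.L05.Kosz.chi_pos_of_eq fs hfs _ hgood ?_
  rw [Module.supportDim_quotient_eq_ringKrullDim, hdim, hlen]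

include k p in
/-- Vanishing in deficient dimension. -/
theorem chi_eq_zero [Algebra.Smooth k R] [IsRegularLocalRing Ap] (P Q : Ideal Ap) (hP : P ≤ maximalIdeal Ap)
    (hQ : Q ≤ maximalIdeal Ap) (a b d : ℕ) (ha : ringKrullDim (Ap ⧸ P) = a) (hb : ringKrullDim (Ap ⧸ Q) = b)
    (hd : ringKrullDim Ap = (d : WithBot ℕ∞)) (hlt : a + b < d)
    (hmax : ∀ W : Ideal Ap, W.IsPrime → P ⊔ Q ≤ W → W = maximalIdeal Ap) :
    _root_.IntMult.chi Ap (Ap ⧸ P) (Ap ⧸ Q) = 0 := by
  obtain ⟨C, _, _, I, fs, δ, hchi, hfs, hgood, hlen, hdim⟩ := exists_kosz k p Ap P Q hP hQ a b d ha hb hd hmax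
  rw [hchi]
  refine Groth.L05.Kosz.chi_eq_zero_of_lt fs hfs _ hgood ?_
  rw [Module.supportDim_quotient_eq_ringKrullDim, hdim, hlen]
  exact WithBot.coe_lt_coe.2 (by exact_mod_cast Nat.add_lt_add_right hlt δ)

end Groth.L22.IntMult
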