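import Groth.Agent.L22.IntMult.AssocCI
import Groth.Agent.L22.IntMult.DiagDim
import Groth.Agent.S2428

/-!
Associativity of the iterated Euler characteristic by reduction to the diagonal.
-/

set_option autoImplicit false
set_option linter.style.haveILetI false
set_option backward.isDefEq.respectTransparency false

universe u

open CategoryTheory CategoryTheory.Limits IsLocalRing
open scoped TensorProduct

namespace Groth.L22.IntMult

section Bridge

variable {A C : Type u} [CommRing A] [CommRing C] [Algebra A C] (π : C →+* A) (I : Ideal C)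

theorem mem_ker_sub (hπ : ∀ a, π (algebraMap A C a) = a) (c : C) : c - algebraMap A C (π c) ∈ RingHom.ker π :=
  RingHom.mem_ker.2 (by rw [map_sub, hπ, sub_self])

/-- First reduction, as an additive bijection compatible with the scalars. -/
theorem exists_tor_diag_equiv [Module.Flat A (C ⧸ I)] (hπ : ∀ a, π (algebraMap A C a) = a) (P : Ideal A)
    (hI : I.map π = P) (hB : ∀ q : ℕ, 0 < q → Subsingleton (DRing.Tor C q (C ⧸ RingHom.ker π) (C ⧸ I)))
    (T : Type u) [AddCommGroup T] [Module A T] (n : ℕ) :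
    ∃ g : DRing.Tor A n (A ⧸ P) T →ₛₗ[algebraMap A C] DRing.Tor C n (C ⧸ RingHom.ker π) ((C ⧸ I) ⊗[A] T),
      Function.Bijective g := by
  let B := C ⧸ I
  let K : Ideal B := (RingHom.ker π).map (algebraMap C B)
  have hπs : Function.Surjective π := fun a => ⟨_, hπ a⟩
  -- `B/K` is `A/P`
  let g₀ : A →ₗ[A] B ⧸ K := ((Ideal.Quotient.mkₐ A K).comp (Algebra.ofId A B)).toLinearMap
  have hgs : Function.Surjective g₀ := by
    intro b
    obtain ⟨b, rfl⟩ := Ideal.Quotient.mk_surjective b
    obtain ⟨c, rfl⟩ := Ideal.Quotient.mk_surjective b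
    refine ⟨π c, Ideal.Quotient.eq.2 ?_⟩
    show Ideal.Quotient.mk I (algebraMap A C (π c)) - Ideal.Quotient.mk I c ∈ K
    rw [← map_sub]
    refine Ideal.mem_map_of_mem _ (RingHom.mem_ker.2 ?_)
    rw [map_sub, hπ, sub_self]
  have hgk : LinearMap.ker g₀ = P := by
    ext a
    rw [LinearMap.mem_ker]
    show Ideal.Quotient.mk K (Ideal.Quotient.mk I (algebraMap A C a)) = 0 ↔ _
    rw [Ideal.Quotient.eq_zero_iff_mem, show K = (RingHom.ker π).map (Ideal.Quotient.mk I) from rfl, ← Ideal.mem_comap,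
      Ideal.comap_map_of_surjective _ Ideal.Quotient.mk_surjective, ← RingHom.ker_eq_comap_bot, Ideal.mk_ker, ← hI]
    constructor
    · intro h
      obtain ⟨j, hj, x, hx, hjx⟩ := Submodule.mem_sup.1 h
      have h2 := congrArg π hjx
      rw [map_add, RingHom.mem_ker.1 hj, zero_add, hπ] at h2
      rw [← h2]
      exact Ideal.mem_map_of_mem π hx
    · intro ha
      obtain ⟨x, hx, rfl⟩ := (Ideal.mem_map_iff_of_surjective π hπs).1 ha
      rw [← sub_add_cancel (algebraMap A C (π x)) x]
      exact Submodule.add_mem_sup (RingHom.mem_ker.2 (by rw [map_sub, hπ, sub_self])) hx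
  let eQ : (A ⧸ P) ≃ₗ[A] B ⧸ K := (Submodule.quotEquivOfEq _ _ hgk.symm).trans (g₀.quotKerEquivOfSurjective hgs)
  -- first leg
  obtain ⟨φ, hφ⟩ := Groth.Agent.S3537.result A B T (B ⧸ K)
    (fun q hq => subsingleton_tor_of_flat_right _ _ q hq) n
  -- second leg
  obtain ⟨ψ, hψ⟩ := Groth.Agent.S3537.result C B (C ⧸ RingHom.ker π) (B ⊗[A] T) hB n
  let c := torCongr (A := B) n (Algebra.TensorProduct.quotIdealMapEquivTensorQuot B (RingHom.ker π)).toLinearEquiv
    (LinearEquiv.refl B (B ⊗[A] T))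
  obtain ⟨s⟩ := nonempty_tor_comm (A := A) n (A ⧸ P) T
  let t := torCongr (A := A) n (LinearEquiv.refl A T) eQ
  obtain ⟨v⟩ := nonempty_tor_comm (A := B) n (B ⊗[A] T) (B ⧸ K)
  let w := Equiv.ofBijective ψ hψ
  refine ⟨{ toFun := fun z => w.symm (c (v (φ (t (s z)))))
            map_add' := fun z z' => w.injective ?_
            map_smul' := fun a z => w.injective ?_ }, ?_⟩
  · show w (w.symm _) = ψ (w.symm _ + w.symm _)
    rw [map_add ψ, Equiv.apply_symm_apply]
    show _ = w (w.symm _) + w (w.symm _)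
    rw [Equiv.apply_symm_apply, Equiv.apply_symm_apply]
    simp only [map_add]
  · show w (w.symm _) = ψ (algebraMap A C a • w.symm _)
    rw [ψ.map_smulₛₗ, Equiv.apply_symm_apply]
    show _ = _ • w (w.symm _)
    rw [Equiv.apply_symm_apply, map_smul, map_smul, φ.map_smulₛₗ, map_smul, map_smul]
    rfl
  · exact w.symm.bijective.comp (c.bijective.comp (v.bijective.comp (hφ.comp (t.bijective.comp s.bijective))))

/-- `χ` against the diagonal. -/
theorem chi_diag_left [Module.Flat A (C ⧸ I)] (hπ : ∀ a, π (algebraMap A C a) = a) (P : Ideal A)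
    (hI : I.map π = P) (hB : ∀ q : ℕ, 0 < q → Subsingleton (DRing.Tor C q (C ⧸ RingHom.ker π) (C ⧸ I)))
    (T : Type u) [AddCommGroup T] [Module A T] :
    _root_.IntMult.chi C (C ⧸ RingHom.ker π) ((C ⧸ I) ⊗[A] T) = _root_.IntMult.chi A (A ⧸ P) T := by
  refine finsum_congr fun n => ?_
  obtain ⟨g, hg⟩ := exists_tor_diag_equiv π I hπ P hI hB T n
  rw [length_eq_of_semilinear g hg fun c y => ⟨π c, sub_eq_zero.1 ?_⟩]
  rw [← sub_smul]
  refine smul_tor_eq_zero n _ _ (fun m => ?_) y
  obtain ⟨m, rfl⟩ := Ideal.Quotient.mk_surjective m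
  show Ideal.Quotient.mk _ ((algebraMap A C (π c) - c) * m) = 0
  exact Ideal.Quotient.eq_zero_iff_mem.2 (Ideal.mul_mem_right _ _ (by
    rw [← neg_sub]; exact neg_mem (mem_ker_sub π hπ c)))

/-- A module killed by the diagonal against a module pulled back from the factor. -/
theorem chi_killed [Module.Flat A C] (hπ : ∀ a, π (algebraMap A C a) = a) (T : Type u) [AddCommGroup T]
    [Module C T] [Module A T] [IsScalarTower A C T] (hT : ∀ c ∈ RingHom.ker π, ∀ t : T, c • t = 0)
    (R : Type u) [AddCommGroup R] [Module A R] :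
    _root_.IntMult.chi C T (C ⊗[A] R) = _root_.IntMult.chi A T R := by
  refine (finsum_congr fun n => ?_).symm
  obtain ⟨φ, hφ⟩ := Groth.Agent.S4494.result A C T R n
  rw [length_eq_of_semilinear φ hφ fun c y => ⟨π c, sub_eq_zero.1 ?_⟩]
  rw [← sub_smul]
  exact smul_tor_eq_zero n _ _ (fun m => hT _ (by rw [← neg_sub]; exact neg_mem (mem_ker_sub π hπ c)) m) y

/-- `Tor` of two pulled back modules, one of them onto a flat quotient. -/
theorem nonempty_tor_pulled [Module.Flat A C] [Module.Flat A (C ⧸ I)] (R N : Type u) [AddCommGroup R]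
    [Module A R] [AddCommGroup N] [Module A N] (n : ℕ) :
    Nonempty (DRing.Tor C n (C ⊗[A] R) ((C ⧸ I) ⊗[A] N) ≃ₗ[C] (C ⧸ I) ⊗[A] DRing.Tor A n R N) := by
  let B := C ⧸ I
  have hvan : ∀ q : ℕ, 0 < q → Subsingleton (DRing.Tor C q (C ⊗[A] R) B) := fun q hq => by
    obtain ⟨φ, hφ⟩ := Groth.Agent.S4494.result A C B R q
    haveI := subsingleton_tor_of_flat_left (A := A) B R q hq
    haveI : Subsingleton (DRing.Tor C q B (C ⊗[A] R)) := hφ.2.subsingleton
    obtain ⟨e⟩ := nonempty_tor_comm (A := C) q (C ⊗[A] R) B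
    exact e.injective.subsingleton
  obtain ⟨φ, hφ⟩ := Groth.Agent.S3537.result C B (C ⊗[A] R) (B ⊗[A] N) hvan n
  obtain ⟨e⟩ := Groth.Agent.S2428.result A B R N n
  let c := torCongr (A := B) n (TensorProduct.AlgebraTensorModule.cancelBaseChange A C B B R)
    (LinearEquiv.refl B (B ⊗[A] N))
  let h : DRing.Tor C n (C ⊗[A] R) (B ⊗[A] N) →ₗ[C] B ⊗[A] DRing.Tor A n R N :=
    { toFun := fun z => e.symm (c (φ z))
      map_add' := fun z z' => by simp only [map_add]
      map_smul' := fun r z => by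
        rw [φ.map_smulₛₗ, map_smul, map_smul, algebraMap_smul]
        rfl }
  exact ⟨LinearEquiv.ofBijective h (e.symm.bijective.comp (c.bijective.comp hφ))⟩

end Bridge

section Assoc

variable {A C : Type u} [CommRing A] [IsRegularLocalRing A] [CommRing C] [IsRegularLocalRing C] [Algebra A C]
  (π : C →+* A) (I : Ideal C)

theorem assoc_diag [Module.Flat A C] [Module.Flat A (C ⧸ I)] (hπ : ∀ a, π (algebraMap A C a) = a) (P : Ideal A)
    (hI : I.map π = P) (hB : ∀ q : ℕ, 0 < q → Subsingleton (DRing.Tor C q (C ⧸ RingHom.ker π) (C ⧸ I)))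
    (xs : List C) (hxs : Ideal.ofList xs = RingHom.ker π) (hreg : RingTheory.Sequence.IsWeaklyRegular C xs)
    (R N : Type u) [AddCommGroup R] [Module A R] [Module.Finite A R] [AddCommGroup N] [Module A N]
    [Module.Finite A N] (h : Meet3 (A := A) (A ⧸ P) R N) :
    tri (A := A) (A ⧸ P) R N = tri (A := A) R (A ⧸ P) N := by
  let B := C ⧸ I
  haveI : Module.Finite C (B ⊗[A] N) := Module.Finite.trans B _
  haveI : Module.Finite C (C ⊗[A] R) := inferInstance
  have hmeet : Meet3 (A := C) (C ⧸ Ideal.ofList xs) (C ⊗[A] R) (B ⊗[A] N) := by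
    intro p h1 h2 h3
    rw [Module.support_eq_zeroLocus] at h1 h2 h3
    rw [hxs, Ideal.annihilator_quotient] at h1
    have hkill : ∀ (S : Type u) [AddCommGroup S] [Module A S] (D : Type u) [CommRing D] [Algebra A D] [Algebra C D]
        [IsScalarTower A C D], ∀ a ∈ Module.annihilator A S, algebraMap A C a ∈ Module.annihilator C (D ⊗[A] S) := by
      intro S _ _ D _ _ _ _ a ha
      refine Module.mem_annihilator.2 fun t => ?_
      rw [algebraMap_smul]
      induction t using TensorProduct.induction_on with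
      | zero => rw [smul_zero]
      | tmul d s => rw [← TensorProduct.tmul_smul, Module.mem_annihilator.1 ha s, TensorProduct.tmul_zero]
      | add u v hu hv => rw [smul_add, hu, hv, add_zero]
    let p' : PrimeSpectrum A := ⟨p.asIdeal.comap (algebraMap A C), inferInstance⟩
    have hp' : p'.asIdeal = maximalIdeal A := by
      refine h p' ?_ ?_ ?_ <;> rw [Module.support_eq_zeroLocus]
      · rw [Ideal.annihilator_quotient]
        intro a ha
        rw [← hI] at ha
        obtain ⟨x, hx, rfl⟩ := (Ideal.mem_map_iff_of_surjective π fun a => ⟨_, hπ a⟩).1 ha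
        have hxp : x ∈ p.asIdeal := h3 (Module.mem_annihilator.2 fun t => by
          induction t using TensorProduct.induction_on with
          | zero => rw [smul_zero]
          | tmul d s =>
            obtain ⟨d, rfl⟩ := Ideal.Quotient.mk_surjective d
            rw [TensorProduct.smul_tmul',
              show x • Ideal.Quotient.mk I d = 0 from Ideal.Quotient.eq_zero_iff_mem.2 (Ideal.mul_mem_right _ _ hx),
              TensorProduct.zero_tmul]
          | add u v hu hv => rw [smul_add, hu, hv, add_zero])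
        show algebraMap A C (π x) ∈ p.asIdeal
        rw [← sub_sub_cancel x (algebraMap A C (π x))]
        exact sub_mem hxp (h1 (mem_ker_sub π hπ x))
      · exact fun a ha => h2 (hkill R C a ha)
      · exact fun a ha => h3 (hkill N B a ha)
    have hπm : (maximalIdeal A).comap π ≤ p.asIdeal := fun c hc => by
      have ha : algebraMap A C (π c) ∈ p.asIdeal := (show π c ∈ p'.asIdeal by rw [hp']; exact hc)
      rw [← sub_add_cancel c (algebraMap A C (π c))]
      exact add_mem (h1 (mem_ker_sub π hπ c)) ha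
    exact ((Ideal.comap_isMaximal_of_surjective π fun a => ⟨_, hπ a⟩).eq_of_le p.isPrime.ne_top hπm).symm.trans
      (IsLocalRing.eq_maximalIdeal (Ideal.comap_isMaximal_of_surjective π fun a => ⟨_, hπ a⟩))
  have key := assoc_ci (A := C) (P := C ⊗[A] R) (Q := B ⊗[A] N) xs hreg hmeet
  rw [hxs] at key
  have hl : tri (A := C) (C ⧸ RingHom.ker π) (C ⊗[A] R) (B ⊗[A] N) = tri (A := A) (A ⧸ P) R N :=
    finsum_congr fun i => by
      obtain ⟨e⟩ := nonempty_tor_pulled (A := A) I R N i
      rw [chi_congr (LinearEquiv.refl C _) e, chi_diag_left π I hπ P hI hB]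
  have hr : tri (A := C) (C ⊗[A] R) (C ⧸ RingHom.ker π) (B ⊗[A] N) = tri (A := A) R (A ⧸ P) N :=
    finsum_congr fun i => by
      obtain ⟨g, hg⟩ := exists_tor_diag_equiv π I hπ P hI hB N i
      letI : Module A (DRing.Tor C i (C ⧸ RingHom.ker π) (B ⊗[A] N)) := Module.compHom _ (algebraMap A C)
      haveI : IsScalarTower A C (DRing.Tor C i (C ⧸ RingHom.ker π) (B ⊗[A] N)) :=
        IsScalarTower.of_algebraMap_smul fun _ _ => rfl
      let g' : DRing.Tor A i (A ⧸ P) N →ₗ[A] DRing.Tor C i (C ⧸ RingHom.ker π) (B ⊗[A] N) :=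
        { toFun := g, map_add' := map_add g, map_smul' := fun a z => g.map_smulₛₗ a z }
      rw [chi_comm, chi_killed π hπ _ (fun c hc t => smul_tor_eq_zero i _ _ (fun m => ?_) t),
        chi_congr (LinearEquiv.ofBijective g' hg).symm (LinearEquiv.refl A R), chi_comm]
      obtain ⟨m, rfl⟩ := Ideal.Quotient.mk_surjective m
      exact Ideal.Quotient.eq_zero_iff_mem.2 (Ideal.mul_mem_right _ _ hc)
  rw [← hl, key, hr]

end Assoc

section Smooth

variable (k : Type u) [Field k] {R₀ : Type u} [CommRing R₀] [Algebra k R₀] (p : Ideal R₀) [p.IsPrime]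
  (Ap : Type u) [CommRing Ap] [Algebra R₀ Ap] [IsLocalization.AtPrime Ap p]

include k p in
/-- Associativity at a point of a smooth algebra. -/
theorem assoc_smooth [Algebra.Smooth k R₀] [IsRegularLocalRing Ap] (P : Ideal Ap) (R N : Type u) [AddCommGroup R]
    [Module Ap R] [Module.Finite Ap R] [AddCommGroup N] [Module Ap N] [Module.Finite Ap N]
    (h : Meet3 (A := Ap) (Ap ⧸ P) R N) : tri (A := Ap) (Ap ⧸ P) R N = tri (A := Ap) R (Ap ⧸ P) N := by
  haveI := regular_diagLoc k p
  let C := DiagLoc k p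
  let π := toDiag k p Ap
  have hπs : Function.Surjective π := fun x => ⟨iL k p Ap x, toDiag_iL k p Ap x⟩
  haveI : IsRegularLocalRing (C ⧸ RingHom.ker π) :=
    IsRegularLocalRing.of_ringEquiv (RingHom.quotientKerEquivOfSurjective hπs).symm
  obtain ⟨N₀, hN₀⟩ := exists_dim_nat (S := C)
  obtain ⟨l₁, l₂, hlen, hmaxl, hI⟩ := Groth.L01.exists_lists_of_regular_quotient _ C hN₀ (RingHom.ker π) inferInstance
  have hreg := (Groth.L01.isRegular_of_ofList_eq_maximalIdeal (l₁ ++ l₂) hmaxl (by rw [hlen, hN₀])).toIsWeaklyRegular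
  replace hreg := ((RingTheory.Sequence.isWeaklyRegular_append_iff C _ _).1 hreg).1
  have hflatL : (iL k p Ap).Flat := by
    have h0 := flat_iL_quot k p Ap (⊥ : Ideal Ap)
    rw [FlatQ, Ideal.map_bot] at h0
    have h1 := h0.comp (RingHom.Flat.of_bijective (f := (RingEquiv.quotientBot C).toRingHom) (RingEquiv.quotientBot C).bijective)
    exact (show iL k p Ap = _ from RingHom.ext fun a => rfl) ▸ h1
  have hB : ∀ q : ℕ, 0 < q → Subsingleton (DRing.Tor C q (C ⧸ RingHom.ker π) (C ⧸ P.map (iL k p Ap))) :=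
    fun q hq => subsingleton_tor_diag (iL k p Ap) π hflatL (toDiag_iL k p Ap) P q hq
  letI : Algebra Ap C := (iR k p Ap).toAlgebra
  haveI : Module.Flat Ap C := flat_iR k p Ap
  haveI : Module.Flat Ap (C ⧸ P.map (iL k p Ap)) := flat_iR_quot k p Ap P
  refine assoc_diag π (P.map (iL k p Ap)) (toDiag_iR k p Ap) P ?_ hB l₁ hI.symm hreg R N h
  rw [Ideal.map_map, show π.comp (iL k p Ap) = RingHom.id Ap from RingHom.ext (toDiag_iL k p Ap), Ideal.map_id]

end Smooth

end Groth.L22.IntMult
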