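import Groth.Agent.L22.IntMult.AssocDiag
import Groth.Agent.L22.IntMult.SheafFormula
import Groth.Agent.L22.IntMult.Positive

/-!
Associativity of the intersection product of prime cycles.
-/

set_option autoImplicit false
set_option linter.style.haveILetI false
set_option backward.isDefEq.respectTransparency false

universe u

open CategoryTheory CategoryTheory.Limits AlgebraicGeometry IsLocalRing Groth.L22.QuotLength
open scoped TensorProduct

noncomputable section

namespace Groth.L22.IntMult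

variable {X : Scheme.{u}}

theorem interProd_comm (δ : X → ℤ) (n : ℤ) (α β : X → ℤ) :
    _root_.IntMult.interProd δ n α β = _root_.IntMult.interProd δ n β α := by
  funext x
  let e : {p : X × X // p.1 ⤳ x ∧ p.2 ⤳ x ∧ δ p.1 + δ p.2 - n = δ x} ≃
      {p : X × X // p.1 ⤳ x ∧ p.2 ⤳ x ∧ δ p.1 + δ p.2 - n = δ x} :=
    { toFun := fun p => ⟨(p.1.2, p.1.1), p.2.2.1, p.2.1, show δ p.1.2 + δ p.1.1 - n = δ x by linarith [p.2.2.2]⟩
      invFun := fun p => ⟨(p.1.2, p.1.1), p.2.2.1, p.2.1, show δ p.1.2 + δ p.1.1 - n = δ x by linarith [p.2.2.2]⟩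
      left_inv := fun p => rfl
      right_inv := fun p => rfl }
  unfold _root_.IntMult.interProd
  rw [← finsum_comp_equiv e]
  refine finsum_congr fun p => ?_
  show α p.1.2 * β p.1.1 * _root_.IntMult.chi _ _ _ = β p.1.1 * α p.1.2 * _root_.IntMult.chi _ _ _
  rw [chi_comm, mul_comm (α p.1.2)]
  rfl

open Classical in
theorem interProd_single (δ : X → ℤ) (n : ℤ) (a b z : X) :
    _root_.IntMult.interProd δ n (Set.indicator {a} 1) (Set.indicator {b} 1) z =
      if a ⤳ z ∧ b ⤳ z ∧ δ a + δ b - n = δ z then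
        _root_.IntMult.mult (_root_.IntMult.ptIdeal a) (_root_.IntMult.ptIdeal b) z
      else 0 := by
  unfold _root_.IntMult.interProd
  split_ifs with h
  · rw [finsum_eq_single _ ⟨(a, b), h⟩ fun p hp => ?_]
    · simp
    · by_cases h1 : p.1.1 = a
      · have h2 : p.1.2 ≠ b := fun h2 => hp (Subtype.ext (Prod.ext h1 h2))
        simp [h2]
      · simp [h1]
  · refine finsum_eq_zero_of_forall_eq_zero fun p => ?_
    by_cases h1 : p.1.1 = a
    · by_cases h2 : p.1.2 = b
      · exact absurd (h1 ▸ h2 ▸ p.2) h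
      · simp [h2]
    · simp [h1]

theorem ptPrime_comap {ξ η x : X} (h1 : ξ ⤳ η) (h2 : η ⤳ x) :
    (ptPrime (h1.trans h2)).asIdeal = (ptPrime h1).asIdeal.comap (X.presheaf.stalkSpecializes h2).hom := by
  show (maximalIdeal _).comap _ = ((maximalIdeal _).comap _).comap _
  rw [Ideal.comap_comap, ← CommRingCat.hom_comp, TopCat.Presheaf.stalkSpecializes_comp]

theorem ptPrime_le_iff {ξ x : X} (h : ξ ⤳ x) (q : PrimeSpectrum (X.presheaf.stalk x)) :
    ptPrime h ≤ q ↔ ξ ⤳ X.fromSpecStalk x q := by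
  rw [PrimeSpectrum.le_iff_specializes, ← (X.fromSpecStalk x).isEmbedding.toIsInducing.specializes_iff]
  exact ⟨fun h' => (specializes_of_eq (fromSpecStalk_ptPrime h).symm).trans h',
    fun h' => (specializes_of_eq (fromSpecStalk_ptPrime h)).trans h'⟩

theorem mem_support_pt {ξ x : X} (h : ξ ⤳ x) [IsLocallyNoetherian X] (q : PrimeSpectrum (X.presheaf.stalk x)) :
    q ∈ Module.support (X.presheaf.stalk x) (↑(X.presheaf.stalk x) ⧸ (ptPrime h).asIdeal) ↔
      ξ ⤳ X.fromSpecStalk x q := by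
  rw [← ptPrime_le_iff h, Module.support_eq_zeroLocus, Ideal.annihilator_quotient]
  rfl

theorem isLocalization_ptPrime {ξ x : X} (h : ξ ⤳ x) :
    letI := (X.presheaf.stalkSpecializes h).hom.toAlgebra
    IsLocalization (ptPrime h).asIdeal.primeCompl (X.presheaf.stalk ξ) := by
  letI := (X.presheaf.stalkSpecializes h).hom.toAlgebra
  haveI : (RingHom.ker (Cyc.specMap x ξ h)).IsPrime := RingHom.ker_isPrime _
  have h1 := Groth.L22.Cyc.isLocalization_stalkSpecializes h
  have hS : (ptPrime h).asIdeal.primeCompl = (RingHom.ker (Cyc.specMap x ξ h)).primeCompl :=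
    Submonoid.ext fun a => by
      show a ∉ (ptPrime h).asIdeal ↔ a ∉ RingHom.ker (Cyc.specMap x ξ h)
      rw [ptPrime_asIdeal]
  rw [hS]
  exact h1

/-- The local length of `Tor` at a generization. -/
theorem lc_tor {η x : X} (h : η ⤳ x) [IsRegularLocalRing (X.presheaf.stalk x)] (I J : Ideal (X.presheaf.stalk x))
    (i : ℕ) :
    lc (DRing.Tor (X.presheaf.stalk x) i (↑(X.presheaf.stalk x) ⧸ I) (↑(X.presheaf.stalk x) ⧸ J)) (ptPrime h) =
      ((Module.length (X.presheaf.stalk η) (DRing.Tor (X.presheaf.stalk η) i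
        (↑(X.presheaf.stalk η) ⧸ I.map (X.presheaf.stalkSpecializes h).hom)
        (↑(X.presheaf.stalk η) ⧸ J.map (X.presheaf.stalkSpecializes h).hom))).toNat : ℤ) := by
  let A := X.presheaf.stalk x
  let A' := X.presheaf.stalk η
  letI : Algebra A A' := (X.presheaf.stalkSpecializes h).hom.toAlgebra
  haveI hloc : IsLocalization (ptPrime h).asIdeal.primeCompl A' := isLocalization_ptPrime h
  haveI : Module.Flat A A' := IsLocalization.flat A' (ptPrime h).asIdeal.primeCompl
  let T := DRing.Tor A i (A ⧸ I) (A ⧸ J)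
  haveI : IsLocalizedModule (ptPrime h).asIdeal.primeCompl (TensorProduct.mk A A' T 1) :=
    (isLocalizedModule_iff_isBaseChange (ptPrime h).asIdeal.primeCompl A' _).2 (TensorProduct.isBaseChange A T A')
  obtain ⟨e⟩ := Groth.Agent.S2428.result A A' (A ⧸ I) (A ⧸ J) i
  let c := torCongr (A := A') i (Algebra.TensorProduct.quotIdealMapEquivTensorQuot A' I).toLinearEquiv
    (Algebra.TensorProduct.quotIdealMapEquivTensorQuot A' J).toLinearEquiv
  rw [lc, locLen, Groth.L11.LenSpec.length_eq_of_isLocalizedModule (ptPrime h).asIdeal.primeCompl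
    (Localization.AtPrime (ptPrime h).asIdeal) A'
    (LocalizedModule.mkLinearMap (ptPrime h).asIdeal.primeCompl T) (TensorProduct.mk A A' T 1)]
  exact congrArg (fun m : ℕ∞ => ((m.toNat : ℕ) : ℤ)) (e.trans c.symm).length_eq

theorem map_ptPrime {ξ η x : X} (h1 : ξ ⤳ η) (h2 : η ⤳ x) :
    (ptPrime (h1.trans h2)).asIdeal.map (X.presheaf.stalkSpecializes h2).hom = (ptPrime h1).asIdeal := by
  letI : Algebra (X.presheaf.stalk x) (X.presheaf.stalk η) := (X.presheaf.stalkSpecializes h2).hom.toAlgebra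
  haveI := isLocalization_ptPrime h2
  rw [ptPrime_comap h1 h2]
  exact IsLocalization.map_under (ptPrime h2).asIdeal.primeCompl (X.presheaf.stalk η) (ptPrime h1).asIdeal

/-- Associativity at a stalk. -/
theorem assoc_stalk (k : Type u) [Field k] (f : X ⟶ Spec (CommRingCat.of k)) [Smooth f] (x : X)
    (P : Ideal (X.presheaf.stalk x)) [IsRegularLocalRing (X.presheaf.stalk x)] (R N : Type u) [AddCommGroup R]
    [Module (X.presheaf.stalk x) R] [Module.Finite (X.presheaf.stalk x) R] [AddCommGroup N]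
    [Module (X.presheaf.stalk x) N] [Module.Finite (X.presheaf.stalk x) N]
    (h : Meet3 (A := X.presheaf.stalk x) (↑(X.presheaf.stalk x) ⧸ P) R N) :
    tri (A := X.presheaf.stalk x) (↑(X.presheaf.stalk x) ⧸ P) R N =
      tri (A := X.presheaf.stalk x) R (↑(X.presheaf.stalk x) ⧸ P) N := by
  obtain ⟨U, hU, V, hV, hx, e, hst⟩ := Smooth.exists_isStandardSmooth f x
  have hUtop : U = ⊤ := by
    ext y
    simp only [TopologicalSpace.Opens.coe_top, Set.mem_univ, iff_true]
    obtain rfl : y = f x := Subsingleton.elim (α := PrimeSpectrum k) _ _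
    exact e hx
  subst hUtop
  have h' : ((f.appLE ⊤ V e).hom.comp (Scheme.ΓSpecIso (CommRingCat.of k)).inv.hom).IsStandardSmooth :=
    RingHom.isStandardSmooth_respectsIso.2 _
      (Scheme.ΓSpecIso (CommRingCat.of k)).symm.commRingCatIsoToRingEquiv hst
  letI : Algebra k Γ(X, V) :=
    ((f.appLE ⊤ V e).hom.comp (Scheme.ΓSpecIso (CommRingCat.of k)).inv.hom).toAlgebra
  haveI : Algebra.IsStandardSmooth k Γ(X, V) := h'
  haveI : Algebra.Smooth k Γ(X, V) := inferInstance
  letI := X.presheaf.algebra_section_stalk ⟨x, hx⟩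
  haveI := hV.isLocalization_stalk ⟨x, hx⟩
  exact assoc_smooth k (hV.primeIdealOf ⟨x, hx⟩).asIdeal (X.presheaf.stalk x) P R N h

variable {K : Type u} [Field K] (f : X ⟶ Spec (CommRingCat.of K)) [Smooth f] [IsSeparated f]
  [QuasiCompact f] [IsIntegral X] (δ : X → ℤ) (hδ : Cyc.DeltaCompat f δ (fun _ => 0)) (hX : Cyc.IsSetup X δ)
  (n : ℤ) (hn : δ (genericPoint X) = n)

include f hδ in
theorem delta_le {a x : X} (h : a ⤳ x) : δ x ≤ δ a := by
  obtain ⟨c, -, hc⟩ := (ptPrime_facts f δ hδ h).2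
  omega

include f hδ hn in
omit [IsSeparated f] [QuasiCompact f] in
theorem dim_stalk (x : X) : ∃ d : ℕ, ringKrullDim (X.presheaf.stalk x) = d ∧ (d : ℤ) = n - δ x := by
  obtain ⟨N, c, z, hN, hc, hz, hcz⟩ := dim_stalk_add_closure K f x
  obtain ⟨t, ht, hxt⟩ := Groth.Agent.S1919.delta_eq_dim K X f δ hδ x
  obtain ⟨N', hN', hnN⟩ := Groth.Agent.S1919.delta_eq_dim K X f δ hδ (genericPoint X)
  rw [show closure ({genericPoint X} : Set X) = Set.univ from genericPoint_spec X,
    IsHomeomorph.topologicalKrullDim_eq _ (Homeomorph.Set.univ X).isHomeomorph] at hN'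
  have : N' = N := by exact_mod_cast hN'.symm.trans hN
  have : t = z := by exact_mod_cast ht.symm.trans hz
  exact ⟨c, hc, by omega⟩

include hX in
theorem meet3_pt {a b c x : X} (ha : a ⤳ x) (hb : b ⤳ x) (hc : c ⤳ x) [IsRegularLocalRing (X.presheaf.stalk x)]
    (hm : ∀ z : X, a ⤳ z → b ⤳ z → c ⤳ z → δ z ≤ δ x) :
    Meet3 (A := X.presheaf.stalk x) (↑(X.presheaf.stalk x) ⧸ (ptPrime ha).asIdeal)
      (↑(X.presheaf.stalk x) ⧸ (ptPrime hb).asIdeal) (↑(X.presheaf.stalk x) ⧸ (ptPrime hc).asIdeal) := by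
  haveI := hX.1
  intro q h1 h2 h3
  rw [mem_support_pt ha] at h1
  rw [mem_support_pt hb] at h2
  rw [mem_support_pt hc] at h3
  have heq := eq_of_delta δ hX (specializes_fromSpecStalk q) (hm _ h1 h2 h3)
  exact congrArg PrimeSpectrum.asIdeal
    ((X.fromSpecStalk x).isEmbedding.injective (heq.trans Scheme.fromSpecStalk_closedPoint.symm) :
      q = closedPoint _)

omit [IsIntegral X] in
theorem interProd_left_eq_zero {a b c x : X}
    (h : ¬ (a ⤳ x ∧ b ⤳ x ∧ c ⤳ x ∧ δ x = δ a + δ b + δ c - 2 * n)) :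
    _root_.IntMult.interProd δ n (Set.indicator {a} 1)
      (_root_.IntMult.interProd δ n (Set.indicator {b} 1) (Set.indicator {c} 1)) x = 0 := by
  classical
  refine finsum_eq_zero_of_forall_eq_zero fun p => ?_
  by_cases h1 : p.1.1 = a
  · rw [interProd_single]
    split_ifs with h2
    · refine absurd ⟨h1 ▸ p.2.1, h2.1.trans p.2.2.1, h2.2.1.trans p.2.2.1, ?_⟩ h
      have := p.2.2.2
      rw [h1] at this
      linarith [h2.2.2]
    · ring
  · simp [h1]

include f hδ hX hn in
theorem interProd_left_eq {a b c x : X} (ha : a ⤳ x) (hb : b ⤳ x) (hc : c ⤳ x)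
    (hx : δ x = δ a + δ b + δ c - 2 * n)
    (hbc : ∀ z : X, b ⤳ z → c ⤳ z → z ⤳ x → δ z ≤ δ b + δ c - n)
    (hm : ∀ z : X, a ⤳ z → b ⤳ z → c ⤳ z → δ z ≤ δ x) [IsRegularLocalRing (X.presheaf.stalk x)] :
    _root_.IntMult.interProd δ n (Set.indicator {a} 1)
      (_root_.IntMult.interProd δ n (Set.indicator {b} 1) (Set.indicator {c} 1)) x =
    tri (A := X.presheaf.stalk x) (↑(X.presheaf.stalk x) ⧸ (ptPrime ha).asIdeal)
      (↑(X.presheaf.stalk x) ⧸ (ptPrime hb).asIdeal) (↑(X.presheaf.stalk x) ⧸ (ptPrime hc).asIdeal) := by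
  classical
  haveI := hX.1
  let A := X.presheaf.stalk x
  let Mm := A ⧸ (ptPrime ha).asIdeal
  let Pb := A ⧸ (ptPrime hb).asIdeal
  let Pc := A ⧸ (ptPrime hc).asIdeal
  let T : ℕ → Type u := fun i => DRing.Tor A i Pb Pc
  haveI : ∀ i, Module.Finite A (DRing.Tor A i Pb Pc) := fun i => L02.CAlg.TorV.finite_tor Pb Pc i
  obtain ⟨d, hd, hdz⟩ := dim_stalk f δ hδ n hn x
  obtain ⟨ca, hca, hcaz⟩ := (ptPrime_facts f δ hδ ha).2
  have han : δ a ≤ n := hn ▸ delta_le f δ hδ (genericPoint_specializes a)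
  obtain ⟨e, he⟩ : ∃ e : ℕ, (e : ℤ) = δ b + δ c - n - δ x :=
    ⟨(δ b + δ c - n - δ x).toNat, Int.toNat_of_nonneg (by linarith)⟩
  have hdimq : ∀ q : PrimeSpectrum A, ∃ m : ℕ, ringKrullDim (A ⧸ q.asIdeal) = m ∧
      (m : ℤ) = δ (X.fromSpecStalk x q) - δ x := fun q => by
    have h := (ptPrime_facts f δ hδ (specializes_fromSpecStalk q)).2
    rwa [← eq_ptPrime rfl (specializes_fromSpecStalk q)] at h
  have hsupp : ∀ i, ∀ q ∈ Module.support A (DRing.Tor A i Pb Pc),
      b ⤳ X.fromSpecStalk x q ∧ c ⤳ X.fromSpecStalk x q := fun i q hq =>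
    ⟨(mem_support_pt hb q).1 (support_tor i hq).1, (mem_support_pt hc q).1 (support_tor i hq).2⟩
  have hdim : ∀ i, ∀ q ∈ Module.support A (DRing.Tor A i Pb Pc), ringKrullDim (A ⧸ q.asIdeal) ≤ e := by
    intro i q hq
    obtain ⟨m, hm', hmz⟩ := hdimq q
    have := hbc _ (hsupp i q hq).1 (hsupp i q hq).2 (specializes_fromSpecStalk q)
    rw [hm']
    exact_mod_cast (show m ≤ e by omega)
  have hmeet := meet3_pt δ hX ha hb hc hm
  -- the coefficient of the inner product
  have hcoef : ∀ q : Top A e, _root_.IntMult.interProd δ n (Set.indicator {b} 1) (Set.indicator {c} 1)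
      (X.fromSpecStalk x q.1) = ∑ i ∈ Finset.range (d + 1), (-1 : ℤ) ^ i * lc (DRing.Tor A i Pb Pc) q.1 := by
    intro q
    have hδq : δ (X.fromSpecStalk x q.1) = δ b + δ c - n := by
      obtain ⟨m, hm', hmz⟩ := hdimq q.1
      have : m = e := by exact_mod_cast hm'.symm.trans q.2
      omega
    rw [interProd_single]
    split_ifs with h
    · obtain ⟨h1, h2, -⟩ := h
      have hsp := specializes_fromSpecStalk q.1
      have hlc : ∀ i, lc (DRing.Tor A i Pb Pc) q.1 = ((Module.length (X.presheaf.stalk (X.fromSpecStalk x q.1))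
          (DRing.Tor (X.presheaf.stalk (X.fromSpecStalk x q.1)) i
            (↑(X.presheaf.stalk (X.fromSpecStalk x q.1)) ⧸ (ptPrime h1).asIdeal)
            (↑(X.presheaf.stalk (X.fromSpecStalk x q.1)) ⧸ (ptPrime h2).asIdeal))).toNat : ℤ) := fun i => by
        conv_lhs => rw [eq_ptPrime rfl hsp]
        rw [lc_tor hsp]
        rw [show (ptPrime hb) = ptPrime (h1.trans hsp) from rfl, show (ptPrime hc) = ptPrime (h2.trans hsp) from rfl,
          map_ptPrime h1 hsp, map_ptPrime h2 hsp]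
      rw [_root_.IntMult.mult, (ptPrime_facts f δ hδ h1).1, (ptPrime_facts f δ hδ h2).1, chi_comm,
        _root_.IntMult.chi]
      simp only [← hlc]
      refine finsum_eq_sum_of_support_subset _ fun i hi => ?_
      rw [Finset.coe_range, Set.mem_Iio]
      by_contra hlt
      refine hi ?_
      haveI := Groth.L04.hasProjectiveDimensionLE_of_regularLocal hd (ModuleCat.of A Pc)
      haveI : Subsingleton (DRing.Tor A i Pb Pc) := ModuleCat.subsingleton_of_isZero
        (Groth.L22.TorPd.isZero_tor_of_hasProjectiveDimensionLE (ModuleCat.of A Pb) d (ModuleCat.of A Pc) i (by omega))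
      show (-1 : ℤ) ^ i * _ = 0
      rw [lc_eq_zero (by rw [Module.support_eq_empty_iff.2 inferInstance]; exact id), mul_zero]
    · symm
      refine Finset.sum_eq_zero fun i _ => ?_
      rw [lc_eq_zero (fun hq => h ⟨(hsupp i _ hq).1, (hsupp i _ hq).2, hδq.symm⟩), mul_zero]
  -- the outer product
  let J := {p : X × X // p.1 ⤳ x ∧ p.2 ⤳ x ∧ δ p.1 + δ p.2 - n = δ x}
  let F : J → ℤ := fun p => Set.indicator {a} 1 p.1.1 *
    _root_.IntMult.interProd δ n (Set.indicator {b} 1) (Set.indicator {c} 1) p.1.2 *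
    _root_.IntMult.mult (_root_.IntMult.ptIdeal p.1.1) (_root_.IntMult.ptIdeal p.1.2) x
  show ∑ᶠ p : J, F p = _
  have hδT : ∀ q : Top A e, δ (X.fromSpecStalk x q.1) = e + δ x := fun q => by
    obtain ⟨m, hm', hmz⟩ := hdimq q.1
    have : m = e := by exact_mod_cast hm'.symm.trans q.2
    omega
  let g : Top A e → J := fun q => ⟨(a, X.fromSpecStalk x q.1), ha, specializes_fromSpecStalk _,
    show δ a + δ (X.fromSpecStalk x q.1) - n = δ x by rw [hδT]; omega⟩
  have hg : Function.Injective g := fun q q' h =>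
    Subtype.ext ((X.fromSpecStalk x).isEmbedding.injective (congrArg Prod.snd (congrArg Subtype.val h)))
  have hF : ∀ q, F (g q) = ∑ i ∈ Finset.range (d + 1),
      lc (DRing.Tor A i Pb Pc) q.1 * ((-1 : ℤ) ^ i * _root_.IntMult.chi A (A ⧸ q.1.asIdeal) Mm) := by
    intro q
    show Set.indicator {a} 1 a * _root_.IntMult.interProd δ n (Set.indicator {b} 1) (Set.indicator {c} 1)
      (X.fromSpecStalk x q.1) * _root_.IntMult.mult (_root_.IntMult.ptIdeal a)
        (_root_.IntMult.ptIdeal (X.fromSpecStalk x q.1)) x = _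
    rw [hcoef, _root_.IntMult.mult, (ptPrime_facts f δ hδ ha).1,
      (ptPrime_facts f δ hδ (specializes_fromSpecStalk q.1)).1, ← eq_ptPrime rfl (specializes_fromSpecStalk q.1),
      Set.indicator_of_mem (Set.mem_singleton a), Pi.one_apply, one_mul, Finset.sum_mul]
    exact Finset.sum_congr rfl fun i _ => by ring
  calc ∑ᶠ p : J, F p = ∑ᶠ p ∈ Set.range g, F p := by
        rw [← finsum_mem_univ]
        refine finsum_mem_inter_support_eq' _ _ _ fun p hp => ⟨fun _ => ?_, fun _ => trivial⟩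
        have h1 : p.1.1 = a := by
          by_contra h1
          exact hp (by simp [F, h1])
        have h2 : p.1.2 ⤳ x := p.2.2.1
        obtain ⟨m, hm', hmz⟩ := (ptPrime_facts f δ hδ h2).2
        have hme : m = e := by
          have h3 : δ p.1.1 + δ p.1.2 - n = δ x := p.2.2.2
          rw [h1] at h3
          omega
        refine ⟨⟨ptPrime h2, hme ▸ hm'⟩, Subtype.ext (Prod.ext h1.symm ?_)⟩
        exact fromSpecStalk_ptPrime h2
    _ = ∑ᶠ q, F (g q) := finsum_mem_range hg
    _ = ∑ᶠ q : Top A e, ∑ i ∈ Finset.range (d + 1),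
          lc (DRing.Tor A i Pb Pc) q.1 * ((-1 : ℤ) ^ i * _root_.IntMult.chi A (A ⧸ q.1.asIdeal) Mm) :=
        finsum_congr hF
    _ = ∑ i ∈ Finset.range (d + 1), ∑ᶠ q : Top A e,
          lc (DRing.Tor A i Pb Pc) q.1 * ((-1 : ℤ) ^ i * _root_.IntMult.chi A (A ⧸ q.1.asIdeal) Mm) :=
        finsum_sum_comm _ _ fun i _ => hasFiniteSupport_lc _ (hdim i)
          fun q => (-1 : ℤ) ^ i * _root_.IntMult.chi A (A ⧸ q.asIdeal) Mm
    _ = _ := by
        rw [tri_eq_range hd]
        refine Finset.sum_congr rfl fun i _ => ?_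
        rw [chi_comm Mm, chi_eq_sum_left Mm e (fun q hq hlt => ?_) (DRing.Tor A i Pb Pc) (hmeet.tor i).symm (hdim i),
          mul_finsum']
        · exact finsum_congr fun q => by ring
        · exact hasFiniteSupport_lc _ (hdim i) fun q => _root_.IntMult.chi A (A ⧸ q.asIdeal) Mm
        · obtain ⟨m, hm', -⟩ := hdimq q
          refine chi_zero_stalk K f x q.asIdeal (ptPrime ha).asIdeal (le_maximalIdeal q.2.ne_top)
            (le_maximalIdeal (ptPrime ha).2.ne_top) m ca d hm' hca hd ?_ fun W hW hle => hq ⟨W, hW⟩ ?_ ?_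
          · rw [hm'] at hlt
            have : m < e := by exact_mod_cast hlt
            omega
          · exact mem_support_quotient.2 (show q.asIdeal ≤ W from le_trans le_sup_left hle)
          · exact mem_support_quotient.2 (show (ptPrime ha).asIdeal ≤ W from le_trans le_sup_right hle)

include f hδ hX hn in
theorem interProd_assoc (a b c : X) (hab : ∀ z : X, a ⤳ z → b ⤳ z → δ z ≤ δ a + δ b - n)
    (hbc : ∀ z : X, b ⤳ z → c ⤳ z → δ z ≤ δ b + δ c - n)
    (h3 : ∀ z : X, a ⤳ z → b ⤳ z → c ⤳ z → δ z ≤ δ a + δ b + δ c - 2 * n) :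
    _root_.IntMult.interProd δ n (Set.indicator {a} 1)
        (_root_.IntMult.interProd δ n (Set.indicator {b} 1) (Set.indicator {c} 1)) =
      _root_.IntMult.interProd δ n
        (_root_.IntMult.interProd δ n (Set.indicator {a} 1) (Set.indicator {b} 1)) (Set.indicator {c} 1) := by
  funext x
  rw [interProd_comm δ n (_root_.IntMult.interProd δ n (Set.indicator {a} 1) (Set.indicator {b} 1))]
  by_cases h : a ⤳ x ∧ b ⤳ x ∧ c ⤳ x ∧ δ x = δ a + δ b + δ c - 2 * n
  · obtain ⟨ha, hb, hc, hx⟩ := h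
    haveI : IsRegularLocalRing (X.presheaf.stalk x) := Groth.L21.Smooth.regular_stalk f x
    rw [interProd_left_eq f δ hδ hX n hn ha hb hc hx (fun z h1 h2 _ => hbc z h1 h2) (fun z h1 h2 h4 => (h3 z h1 h2 h4).trans hx.ge),
      interProd_left_eq f δ hδ hX n hn hc ha hb (by linarith) (fun z h1 h2 _ => hab z h1 h2)
        (fun z h1 h2 h4 => (h3 z h2 h4 h1).trans hx.ge), tri_comm]
    exact assoc_stalk K f x _ _ _ (meet3_pt δ hX ha hc hb fun z h1 h2 h4 => (h3 z h1 h4 h2).trans hx.ge)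
  · rw [interProd_left_eq_zero δ n h, interProd_left_eq_zero δ n]
    exact fun h' => h ⟨h'.2.1, h'.2.2.1, h'.1, by linarith [h'.2.2.2]⟩

end Groth.L22.IntMult
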