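import Groth.Agent.L22.IntMult.DiagTor
import Groth.Agent.L22.IntMult.CycleOne
import Groth.Agent.L00.BddFib

/-!
Reduction to the diagonal, for multiplicities on a scheme over a field.
-/

set_option autoImplicit false
set_option linter.style.haveILetI false
set_option backward.isDefEq.respectTransparency false

universe u

open CategoryTheory CategoryTheory.Limits AlgebraicGeometry IsLocalRing

namespace Groth.L22.IntMult

variable {X : Scheme.{u}}

theorem stalkIdeal_ker_inter {Y Z : Scheme.{u}} (iY : Y ⟶ X) (iZ : Z ⟶ X) [IsClosedImmersion iY]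
    [IsClosedImmersion iZ] (x : X) :
    _root_.IntMult.stalkIdeal (pullback.fst iY iZ ≫ iY).ker x =
      _root_.IntMult.stalkIdeal iY.ker x ⊔ _root_.IntMult.stalkIdeal iZ.ker x := by
  obtain ⟨V, hV, hxV, -⟩ := exists_isAffineOpen_mem_and_subset (x := x) (U := (⊤ : X.Opens)) trivial
  rw [stalkIdeal_eq, stalkIdeal_eq, stalkIdeal_eq, Groth.L20.SeeNormal.sI_eq _ ⟨V, hV⟩ hxV,
    Groth.L20.SeeNormal.sI_eq _ ⟨V, hV⟩ hxV, Groth.L20.SeeNormal.sI_eq _ ⟨V, hV⟩ hxV, ← Ideal.map_sup]
  congr 1
  rw [Scheme.Hom.ker_apply, Scheme.Hom.ker_apply, Scheme.Hom.ker_apply]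
  exact Groth.L07.CMInterScheme.ker_inter iY iZ hV

theorem stalkIdeal_transport (I : X.IdealSheafData) {x x' : X} (h : x' = x) :
    _root_.IntMult.stalkIdeal I x' =
      (_root_.IntMult.stalkIdeal I x).map (X.presheaf.stalkSpecializes (specializes_of_eq h)).hom := by
  subst h
  rw [TopCat.Presheaf.stalkSpecializes_refl]
  exact (Ideal.map_id _).symm

theorem flat_stalkSpecializes {x x' : X} (h : x' = x) :
    (X.presheaf.stalkSpecializes (specializes_of_eq h)).hom.Flat := by
  subst h
  rw [TopCat.Presheaf.stalkSpecializes_refl]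
  exact RingHom.Flat.of_bijective Function.bijective_id

variable {k : Type u} [Field k] (f : X ⟶ Spec (CommRingCat.of k))

/-- The map from the local ring at a point to that at a point of the product over it. -/
noncomputable def toProd {P : Scheme.{u}} (g : P ⟶ X) (z : P) {ξ : X} (h : g z = ξ) :
    X.presheaf.stalk ξ →+* P.presheaf.stalk z :=
  (X.presheaf.stalkSpecializes (specializes_of_eq h) ≫ g.stalkMap z).hom

theorem stalkIdeal_comap {P : Scheme.{u}} (g : P ⟶ X) (z : P) {ξ : X} (h : g z = ξ) (I : X.IdealSheafData) :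
    _root_.IntMult.stalkIdeal (I.comap g) z = (_root_.IntMult.stalkIdeal I ξ).map (toProd g z h) := by
  rw [stalkIdeal_eq, Groth.L20.SeeNormal.sI_comap, ← stalkIdeal_eq, stalkIdeal_transport I h, Ideal.map_map]
  rfl

theorem retract (g : pullback f f ⟶ X) (hg : pullback.diagonal f ≫ g = 𝟙 X) (ξ : X)
    (h : g (pullback.diagonal f ξ) = ξ) (a : X.presheaf.stalk ξ) :
    ((pullback.diagonal f).stalkMap ξ).hom (toProd g (pullback.diagonal f ξ) h a) = a := by
  have key : X.presheaf.stalkSpecializes (specializes_of_eq h) ≫ (pullback.diagonal f ≫ g).stalkMap ξ = 𝟙 _ := by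
    rw [Scheme.Hom.stalkMap_congr_hom _ _ hg ξ, Scheme.Hom.stalkMap_id]
    erw [Category.comp_id]
    rw [TopCat.Presheaf.stalkCongr_hom]
    erw [TopCat.Presheaf.stalkSpecializes_comp, TopCat.Presheaf.stalkSpecializes_refl]
    rfl
  rw [Scheme.Hom.stalkMap_comp] at key
  exact ConcreteCategory.congr_hom key a

theorem flat_toProd {P : Scheme.{u}} (g : P ⟶ X) [Flat g] (z : P) {ξ : X} (h : g z = ξ) :
    (toProd g z h).Flat :=
  (flat_stalkSpecializes h).comp (Flat.stalkMap g z)

variable [Smooth f] [IsSeparated f]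

/-- The second factor's quotient is flat over the first. -/
theorem flat_toProd_quot (I : X.IdealSheafData) (z : ↥(pullback f f)) {ξ : X}
    (h1 : pullback.fst f f z = ξ) (h2 : pullback.snd f f z = ξ) (hξ : ξ ∈ I.support) :
    ((Ideal.Quotient.mk ((_root_.IntMult.stalkIdeal I ξ).map (toProd (pullback.snd f f) z h2))).comp
      (toProd (pullback.fst f f) z h1)).Flat := by
  obtain ⟨w, hw⟩ : z ∈ Set.range (pullback.fst (pullback.snd f f) I.subschemeι) := by
    rw [Scheme.Pullback.range_fst, I.range_subschemeι, Set.mem_preimage, h2]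
    exact hξ
  subst hw
  let i₂ := pullback.fst (pullback.snd f f) I.subschemeι
  haveI : Flat (I.subschemeι ≫ f) := Groth.L00.BddFib.flat_toField _
  haveI hfl : Flat (i₂ ≫ pullback.fst f f) := by
    rw [← pullbackLeftPullbackSndIso_hom_fst]
    infer_instance
  have hsurj : Function.Surjective (i₂.stalkMap w).hom := i₂.stalkMap_surjective w
  have hker : RingHom.ker (i₂.stalkMap w).hom =
      (_root_.IntMult.stalkIdeal I ξ).map (toProd (pullback.snd f f) (i₂ w) h2) := by
    rw [Groth.L20.Infinitesimal.ker_stalkMap, ← stalkIdeal_eq, ← stalkIdeal_comap (pullback.snd f f) (i₂ w) h2]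
    rfl
  have hfl' : ((i₂.stalkMap w).hom.comp (toProd (pullback.fst f f) (i₂ w) h1)).Flat := by
    have h : (toProd (i₂ ≫ pullback.fst f f) w h1).Flat := flat_toProd _ w h1
    rw [toProd, Scheme.Hom.stalkMap_comp] at h
    exact h
  let e := (Ideal.quotEquivOfEq hker.symm).trans (RingHom.quotientKerEquivOfSurjective hsurj)
  refine (RingHom.Flat.comp_iff_of_bijective_left (g := e.toRingHom) e.bijective).1 ?_
  exact hfl'

theorem mult_eq_mult_diag (IV IW : X.IdealSheafData) (ξ : X) (hξW : ξ ∈ IW.support) :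
    _root_.IntMult.mult IV IW ξ = _root_.IntMult.mult
      (pullback.map (IV.subschemeι ≫ f) (IW.subschemeι ≫ f) f f IV.subschemeι IW.subschemeι (𝟙 _)
        (Category.comp_id _) (Category.comp_id _)).ker
      (pullback.diagonal f).ker (pullback.diagonal f ξ) := by
  set F := pullback.map (IV.subschemeι ≫ f) (IW.subschemeι ≫ f) f f IV.subschemeι IW.subschemeι (𝟙 _)
    (Category.comp_id _) (Category.comp_id _) with hF
  set z := pullback.diagonal f ξ
  have h1 : pullback.fst f f z = ξ := by
    show (pullback.diagonal f ≫ pullback.fst f f) ξ = ξ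
    rw [pullback.diagonal_fst]; rfl
  have h2 : pullback.snd f f z = ξ := by
    show (pullback.diagonal f ≫ pullback.snd f f) ξ = ξ
    rw [pullback.diagonal_snd]; rfl
  let i₁ := pullback.fst (pullback.fst f f) IV.subschemeι
  let i₂ := pullback.fst (pullback.snd f f) IW.subschemeι
  let G := pullback.fst i₁ i₂ ≫ i₁
  have hFfst : F ≫ pullback.fst f f = pullback.fst _ _ ≫ IV.subschemeι := pullback.lift_fst _ _ _
  have hFsnd : F ≫ pullback.snd f f = pullback.snd _ _ ≫ IW.subschemeι := pullback.lift_snd _ _ _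
  let e : pullback (IV.subschemeι ≫ f) (IW.subschemeι ≫ f) ⟶ pullback i₁ i₂ :=
    pullback.lift (pullback.lift F (pullback.fst _ _) hFfst) (pullback.lift F (pullback.snd _ _) hFsnd)
      (by rw [pullback.lift_fst, pullback.lift_fst])
  let e' : pullback i₁ i₂ ⟶ pullback (IV.subschemeι ≫ f) (IW.subschemeι ≫ f) :=
    pullback.lift (pullback.fst _ _ ≫ pullback.snd _ _) (pullback.snd _ _ ≫ pullback.snd _ _) (by
      simp only [Category.assoc]
      rw [← pullback.condition_assoc, ← pullback.condition_assoc (f := pullback.snd f f), pullback.condition (f := f) (g := f)]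
      exact (pullback.condition_assoc _))
  have heF : e ≫ G = F := by simp only [e, G, i₁, pullback.lift_fst_assoc, pullback.lift_fst]
  have heG : e' ≫ F = G := by
    refine pullback.hom_ext ?_ ?_
    · rw [Category.assoc, hFfst, pullback.lift_fst_assoc, Category.assoc, ← pullback.condition]
      simp only [G, i₁, Category.assoc]
    · rw [Category.assoc, hFsnd, pullback.lift_snd_assoc, Category.assoc, ← pullback.condition]
      simp only [G, i₁]
      rw [pullback.condition (f := i₁) (g := i₂)]
      simp only [i₂, Category.assoc]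
      rfl
  have hker : _root_.IntMult.stalkIdeal F.ker z = (_root_.IntMult.stalkIdeal IV ξ).map (toProd (pullback.fst f f) z h1) ⊔
      (_root_.IntMult.stalkIdeal IW ξ).map (toProd (pullback.snd f f) z h2) := by
    have hFG : F.ker = G.ker := le_antisymm
      (le_of_eq_of_le rfl (heG ▸ Scheme.Hom.le_ker_comp e' F))
      (le_of_eq_of_le rfl (heF ▸ Scheme.Hom.le_ker_comp e G))
    rw [hFG, stalkIdeal_ker_inter, ← stalkIdeal_comap _ z h1, ← stalkIdeal_comap _ z h2]
    rfl
  rw [_root_.IntMult.mult, _root_.IntMult.mult, hker,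
    stalkIdeal_eq (pullback.diagonal f).ker, ← Groth.L20.Infinitesimal.ker_stalkMap, chi_comm]
  simp only [_root_.IntMult.chi]
  refine finsum_congr fun i => ?_
  rw [length_tor_diag (toProd (pullback.fst f f) z h1) (toProd (pullback.snd f f) z h2)
    ((pullback.diagonal f).stalkMap ξ).hom _ _ (retract f _ (pullback.diagonal_fst f) ξ h1)
    (retract f _ (pullback.diagonal_snd f) ξ h2) (flat_toProd _ z h2) (flat_toProd_quot f IW z h1 h2 hξW)]

end Groth.L22.IntMult
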