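import Groth.Agent.L22.IntMult.CyclePull
import Groth.Agent.L22.IntMult.DiagScheme
import Groth.Agent.L22.WeakAssPoints

/-!
Tor-independence of a module which is flat over the base of a flat pull-back.
-/

set_option autoImplicit false
set_option linter.style.haveILetI false
set_option backward.isDefEq.respectTransparency false

universe u

open CategoryTheory CategoryTheory.Limits AlgebraicGeometry IsLocalRing
open scoped TensorProduct

noncomputable section

namespace Groth.L22.IntMult

section Algebra

variable {A : Type u} [CommRing A]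

theorem chi_congr {M M' N N' : Type u} [AddCommGroup M] [Module A M] [AddCommGroup M'] [Module A M']
    [AddCommGroup N] [Module A N] [AddCommGroup N'] [Module A N'] (e : M ≃ₗ[A] M') (f : N ≃ₗ[A] N') :
    _root_.IntMult.chi A M N = _root_.IntMult.chi A M' N' :=
  finsum_congr fun i => by rw [length_tor_congr i e f]

theorem chi_flat_left {B : Type u} [CommRing B] [Algebra B A] [Module.Flat B A] (M : Type u) [AddCommGroup M]
    [Module A M] [Module B M] [IsScalarTower B A M] [Module.Flat B M] (N : Type u) [AddCommGroup N] [Module B N] :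
    _root_.IntMult.chi A M (A ⊗[B] N) = ((Module.length A (M ⊗[A] (A ⊗[B] N))).toNat : ℤ) := by
  rw [_root_.IntMult.chi, finsum_eq_single _ 0 fun i hi => ?_]
  · obtain ⟨e⟩ := nonempty_tor_zero (A := A) M (A ⊗[B] N)
    rw [pow_zero, one_mul, e.length_eq]
  · obtain ⟨φ, hφ⟩ := Groth.Agent.S4494.result B A M N i
    haveI := subsingleton_tor_of_flat_left (A := B) M N i (Nat.pos_of_ne_zero hi)
    haveI : Subsingleton (DRing.Tor A i M (A ⊗[B] N)) := hφ.2.subsingleton
    rw [Module.length_eq_zero]
    simp

end Algebra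

section Stalk

variable {X Y W : Scheme.{u}}

/-- The stalk of the direct image of the structure module of a closed subscheme. -/
theorem push_stalk (g : X ⟶ W) [IsClosedImmersion g] (x : X) :
    letI := (g.stalkMap x).hom.toAlgebra
    Nonempty (((Coh.push g).obj (Coh.structureModule X)).presheaf.stalk (g x) ≃ₗ[W.presheaf.stalk (g x)]
      X.presheaf.stalk x) := by
  letI := (g.stalkMap x).hom.toAlgebra
  let e : X.presheaf.stalk x ≃+ (Coh.structureModule X).presheaf.stalk x :=
    AddEquiv.ofBijective (AddMonoidHom.mk' (fun a => a • Groth.L22.oneGerm x) fun a b => add_smul a b _)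
      ⟨(injective_iff_map_eq_zero _).2 fun _ ha => Groth.L22.eq_zero_of_smul_oneGerm ha,
        Groth.L22.stalk_smul_oneGerm_surjective x⟩
  let c := AddEquiv.ofBijective (Groth.L17.ClosedPush.c₀ g (Coh.structureModule X) x)
    (Groth.L17.ClosedPush.c₀_bijective g (Coh.structureModule X) x)
  exact ⟨({ e.trans c.symm with
    map_smul' := fun r a => c.injective (by
      show c (c.symm (((g.stalkMap x).hom r * a) • Groth.L22.oneGerm x)) =
        c (r • c.symm (a • Groth.L22.oneGerm x))
      rw [AddEquiv.apply_symm_apply, mul_smul]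
      refine Eq.trans ?_ (Groth.L17.ClosedPush.c₀_smul g _ x r _).symm
      exact congrArg _ (c.apply_symm_apply _).symm) } :
    X.presheaf.stalk x ≃ₗ[W.presheaf.stalk (g x)]
      ((Coh.push g).obj (Coh.structureModule X)).presheaf.stalk (g x)).symm⟩

/-- The Tor formula for a closed subscheme flat over the base of a flat pull-back. -/
theorem chi_flat_sheaf (g : X ⟶ W) [IsClosedImmersion g] (p : W ⟶ Y) [Flat p] [Flat (g ≫ p)] (F : Y.Modules) (x : X) :
    _root_.IntMult.chi (W.presheaf.stalk (g x)) (((Coh.push g).obj (Coh.structureModule X)).presheaf.stalk (g x))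
        (((Scheme.Modules.pullback p).obj F).presheaf.stalk (g x)) =
      ((Module.length (X.presheaf.stalk x) (((Scheme.Modules.pullback (g ≫ p)).obj F).presheaf.stalk x)).toNat : ℤ) := by
  letI algA : Algebra (W.presheaf.stalk (g x)) (X.presheaf.stalk x) := (g.stalkMap x).hom.toAlgebra
  letI : Algebra (Y.presheaf.stalk (p (g x))) (W.presheaf.stalk (g x)) := (p.stalkMap (g x)).hom.toAlgebra
  letI : Algebra (Y.presheaf.stalk (p (g x))) (X.presheaf.stalk x) :=
    ((g.stalkMap x).hom.comp (p.stalkMap (g x)).hom).toAlgebra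
  haveI : IsScalarTower (Y.presheaf.stalk (p (g x))) (W.presheaf.stalk (g x)) (X.presheaf.stalk x) :=
    IsScalarTower.of_algebraMap_eq' rfl
  haveI : Module.Flat (Y.presheaf.stalk (p (g x))) (W.presheaf.stalk (g x)) := Flat.stalkMap p (g x)
  haveI : Module.Flat (Y.presheaf.stalk (p (g x))) (X.presheaf.stalk x) := by
    have h := Flat.stalkMap (g ≫ p) x
    rw [Scheme.Hom.stalkMap_comp] at h
    exact h
  obtain ⟨eM⟩ := push_stalk g x
  let N := ((Scheme.Modules.pullback p).obj F).presheaf.stalk (g x)
  let eN : N ≃ₗ[W.presheaf.stalk (g x)]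
      W.presheaf.stalk (g x) ⊗[Y.presheaf.stalk (p (g x))] F.presheaf.stalk (p (g x)) :=
    ((Groth.L00.PullStalk.stalkIso p (g x)).app F).toLinearEquiv
  let eG : ((Scheme.Modules.pullback g).obj ((Scheme.Modules.pullback p).obj F)).presheaf.stalk x ≃ₗ[X.presheaf.stalk x]
      X.presheaf.stalk x ⊗[W.presheaf.stalk (g x)] N :=
    ((Groth.L00.PullStalk.stalkIso g x).app ((Scheme.Modules.pullback p).obj F)).toLinearEquiv
  let eC : ((Scheme.Modules.pullback (g ≫ p)).obj F).presheaf.stalk x ≃ₗ[X.presheaf.stalk x]
      ((Scheme.Modules.pullback g).obj ((Scheme.Modules.pullback p).obj F)).presheaf.stalk x :=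
    ((Groth.L00.Stk.F X x).mapIso ((Scheme.Modules.pullbackComp g p).app F).symm).toLinearEquiv
  rw [chi_congr eM eN, chi_flat_left,
    (TensorProduct.congr (LinearEquiv.refl _ (X.presheaf.stalk x)) eN.symm).length_eq, (eC.trans eG).length_eq,
    Module.length_eq_of_surjective (R := X.presheaf.stalk x) (S := W.presheaf.stalk (g x)) (g.stalkMap_surjective x)]

end Stalk

end Groth.L22.IntMult
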