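import Groth.Agent.L22.IntMult.ChiExpand
import Groth.Agent.L22.IntMult.FlatTor
import Groth.Agent.S5673
import Mathlib.RingTheory.Regular.RegularSequence

/-!
The iterated Euler characteristic `tri M P Q = Σ (-1)^i χ(M, Tor_i(P, Q))` and cutting by one element.
-/

set_option autoImplicit false
set_option linter.style.haveILetI false
set_option backward.isDefEq.respectTransparency false

universe u

open CategoryTheory CategoryTheory.Limits IsLocalRing
open scoped TensorProduct

namespace Groth.L22.IntMult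

section Basic

variable {A : Type u} [CommRing A]

theorem nonempty_tor_comm (i : ℕ) (M N : Type u) [AddCommGroup M] [Module A M] [AddCommGroup N] [Module A N] :
    Nonempty (DRing.Tor A i M N ≃ₗ[A] DRing.Tor A i N M) := by
  obtain ⟨e⟩ := Groth.Agent.S6316.result A i
  exact ⟨((e.app (ModuleCat.of A M)).app (ModuleCat.of A N)).toLinearEquiv⟩

/-- `Tor` of linear equivalences. -/
noncomputable def torCongr (i : ℕ) {M M' N N' : Type u} [AddCommGroup M] [Module A M] [AddCommGroup M']
    [Module A M'] [AddCommGroup N] [Module A N] [AddCommGroup N'] [Module A N'] (e : M ≃ₗ[A] M') (f : N ≃ₗ[A] N') :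
    DRing.Tor A i M N ≃ₗ[A] DRing.Tor A i M' N' :=
  ((((CategoryTheory.Tor (ModuleCat.{u} A) i).mapIso e.toModuleIso).app (ModuleCat.of A N)) ≪≫
    (((CategoryTheory.Tor (ModuleCat.{u} A) i).obj (ModuleCat.of A M')).mapIso f.toModuleIso)).toLinearEquiv

/-- The map induced on `Tor` by a map in the second variable. -/
noncomputable def tmap (i : ℕ) (P : Type u) [AddCommGroup P] [Module A P] {N N' : Type u} [AddCommGroup N]
    [Module A N] [AddCommGroup N'] [Module A N'] (f : N →ₗ[A] N') : DRing.Tor A i P N →ₗ[A] DRing.Tor A i P N' :=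
  (((CategoryTheory.Tor (ModuleCat.{u} A) i).obj (ModuleCat.of A P)).map (ModuleCat.ofHom f)).hom

theorem tmap_comp (i : ℕ) (P : Type u) [AddCommGroup P] [Module A P] {N N' N'' : Type u} [AddCommGroup N]
    [Module A N] [AddCommGroup N'] [Module A N'] [AddCommGroup N''] [Module A N''] (f : N →ₗ[A] N')
    (g : N' →ₗ[A] N'') : tmap i P (g ∘ₗ f) = tmap i P g ∘ₗ tmap i P f := by
  show (((CategoryTheory.Tor (ModuleCat.{u} A) i).obj (ModuleCat.of A P)).map
    (ModuleCat.ofHom f ≫ ModuleCat.ofHom g)).hom = _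
  rw [Functor.map_comp]
  rfl

/-- Multiplication by `x`. -/
def sx (x : A) (T : Type u) [AddCommGroup T] [Module A T] : T →ₗ[A] T := x • LinearMap.id

theorem tmap_sx (i : ℕ) (x : A) (P N : Type u) [AddCommGroup P] [Module A P] [AddCommGroup N] [Module A N] :
    tmap i P (sx x N) = sx x (DRing.Tor A i P N) :=
  congrArg ModuleCat.Hom.hom (Groth.Agent.S5673.tor_map_smul (ModuleCat.of A P) (ModuleCat.of A N) x i)

/-- The Euler characteristic of a map measured by `χ(M, ·)`. -/
noncomputable def eps (M : Type u) [AddCommGroup M] [Module A M] {X Y : Type u} [AddCommGroup X] [Module A X]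
    [AddCommGroup Y] [Module A Y] (f : X →ₗ[A] Y) : ℤ :=
  _root_.IntMult.chi A M (Y ⧸ LinearMap.range f) - _root_.IntMult.chi A M (LinearMap.ker f)

/-- The iterated Euler characteristic. -/
noncomputable def tri (M P Q : Type u) [AddCommGroup M] [Module A M] [AddCommGroup P] [Module A P]
    [AddCommGroup Q] [Module A Q] : ℤ :=
  ∑ᶠ i : ℕ, (-1 : ℤ) ^ i * _root_.IntMult.chi A M (DRing.Tor A i P Q)

theorem chi_subsingleton (M N : Type u) [AddCommGroup M] [Module A M] [AddCommGroup N] [Module A N]
    [Subsingleton N] : _root_.IntMult.chi A M N = 0 := by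
  refine finsum_eq_zero_of_forall_eq_zero fun i => ?_
  haveI : Subsingleton (DRing.Tor A i M N) := subsingleton_of_forall_eq 0 fun z => by
    rw [← one_smul A z]
    exact smul_tor_eq_zero' i M N (fun m => Subsingleton.elim _ _) z
  rw [Module.length_eq_zero]
  simp

theorem tri_congr {M M' P P' Q Q' : Type u} [AddCommGroup M] [Module A M] [AddCommGroup M'] [Module A M']
    [AddCommGroup P] [Module A P] [AddCommGroup P'] [Module A P'] [AddCommGroup Q] [Module A Q]
    [AddCommGroup Q'] [Module A Q'] (e : M ≃ₗ[A] M') (f : P ≃ₗ[A] P') (g : Q ≃ₗ[A] Q') :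
    tri (A := A) M P Q = tri (A := A) M' P' Q' :=
  finsum_congr fun i => by rw [chi_congr e (torCongr i f g)]

theorem tri_comm (M P Q : Type u) [AddCommGroup M] [Module A M] [AddCommGroup P] [Module A P]
    [AddCommGroup Q] [Module A Q] : tri (A := A) M P Q = tri (A := A) M Q P := by
  refine finsum_congr fun i => ?_
  obtain ⟨e⟩ := nonempty_tor_comm (A := A) i P Q
  rw [chi_congr (LinearEquiv.refl A M) e]

theorem eps_congr {M X Y : Type u} [AddCommGroup M] [Module A M] [AddCommGroup X] [Module A X]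
    [AddCommGroup Y] [Module A Y] (x : A) (e : X ≃ₗ[A] Y) :
    eps M (sx x X) = eps M (sx x Y) := by
  have hc : ∀ z, e (sx x X z) = sx x Y (e z) := fun z => e.map_smul x z
  have h1 : (LinearMap.range (sx x X)).map e.toLinearMap = LinearMap.range (sx x Y) := by
    ext y
    constructor
    · rintro ⟨_, ⟨z, rfl⟩, rfl⟩
      exact ⟨e z, (hc z).symm⟩
    · rintro ⟨z, rfl⟩
      exact ⟨sx x X (e.symm z), ⟨_, rfl⟩, (hc _).trans (by rw [e.apply_symm_apply])⟩
  have h2 : (LinearMap.ker (sx x X)).map e.toLinearMap = LinearMap.ker (sx x Y) := by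
    ext y
    constructor
    · rintro ⟨z, hz, rfl⟩
      rw [LinearMap.mem_ker, LinearEquiv.coe_coe, ← hc, LinearMap.mem_ker.1 hz, map_zero]
    · intro hy
      refine ⟨e.symm y, ?_, e.apply_symm_apply y⟩
      rw [SetLike.mem_coe, LinearMap.mem_ker, ← e.map_eq_zero_iff, hc, e.apply_symm_apply]
      exact hy
  simp only [eps]
  rw [chi_congr (LinearEquiv.refl A M) (Submodule.Quotient.equiv _ _ e h1),
    chi_congr (LinearEquiv.refl A M) ((e.submoduleMap (LinearMap.ker (sx x X))).trans (LinearEquiv.ofEq _ _ h2))]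

end Basic

variable {A : Type u} [CommRing A] [IsRegularLocalRing A]
variable {M P Q : Type u} [AddCommGroup M] [Module A M] [AddCommGroup P] [Module A P] [AddCommGroup Q] [Module A Q]

/-- Three supports meet at most in the closed point. -/
def Meet3 (M P Q : Type u) [AddCommGroup M] [Module A M] [AddCommGroup P] [Module A P] [AddCommGroup Q]
    [Module A Q] : Prop :=
  ∀ p : PrimeSpectrum A, p ∈ Module.support A M → p ∈ Module.support A P → p ∈ Module.support A Q →
    p.asIdeal = maximalIdeal A

theorem support_tor [Module.Finite A P] [Module.Finite A Q] (i : ℕ) :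
    Module.support A (DRing.Tor A i P Q) ⊆ Module.support A P ∩ Module.support A Q := by
  haveI : Module.Finite A (DRing.Tor A i P Q) := L02.CAlg.TorV.finite_tor P Q i
  intro p hp
  rw [Module.support_eq_zeroLocus] at hp
  constructor
  · rw [Module.support_eq_zeroLocus]
    exact fun x hx => hp (Module.mem_annihilator.2 fun z =>
      smul_tor_eq_zero i P Q (fun m => Module.mem_annihilator.1 hx m) z)
  · rw [Module.support_eq_zeroLocus]
    exact fun x hx => hp (Module.mem_annihilator.2 fun z =>
      smul_tor_eq_zero' i P Q (fun m => Module.mem_annihilator.1 hx m) z)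

theorem Meet3.tor [Module.Finite A P] [Module.Finite A Q] (h : Meet3 (A := A) M P Q) (i : ℕ) :
    Meet (A := A) M (DRing.Tor A i P Q) :=
  fun p h1 h2 => h p h1 (support_tor i h2).1 (support_tor i h2).2

theorem Meet.of_injective {N N' : Type u} [AddCommGroup N] [Module A N] [AddCommGroup N'] [Module A N']
    (h : Meet (A := A) M N) (f : N' →ₗ[A] N) (hf : Function.Injective f) : Meet (A := A) M N' :=
  fun p h1 h2 => h p h1 (Module.support_subset_of_injective f hf h2)

theorem Meet.of_surjective {N N' : Type u} [AddCommGroup N] [Module A N] [AddCommGroup N'] [Module A N']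
    (h : Meet (A := A) M N) (f : N →ₗ[A] N') (hf : Function.Surjective f) : Meet (A := A) M N' :=
  fun p h1 h2 => h p h1 (Module.support_subset_of_surjective f hf h2)

variable [Module.Finite A M]

theorem chi_exact {X Y Z : Type u} [AddCommGroup X] [Module A X] [AddCommGroup Y] [Module A Y] [AddCommGroup Z]
    [Module A Z] [Module.Finite A Y] (a : X →ₗ[A] Y) (b : Y →ₗ[A] Z) (hab : Function.Exact a b)
    (h : Meet (A := A) M Y) :
    _root_.IntMult.chi A M Y =
      _root_.IntMult.chi A M (LinearMap.range a) + _root_.IntMult.chi A M (LinearMap.range b) := by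
  haveI : Module.Finite A (LinearMap.range b) :=
    Module.Finite.of_surjective b.rangeRestrict b.surjective_rangeRestrict
  refine chi_add_right M (LinearMap.range a).subtype b.rangeRestrict (Submodule.subtype_injective _)
    b.surjective_rangeRestrict ?_ h
  rw [LinearMap.exact_iff, LinearMap.ker_rangeRestrict, Submodule.range_subtype]
  exact LinearMap.exact_iff.1 hab

/-- The Euler characteristic of a composite. -/
theorem eps_comp {X Y Z : Type u} [AddCommGroup X] [Module A X] [Module.Finite A X] [AddCommGroup Y] [Module A Y]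
    [Module.Finite A Y] [AddCommGroup Z] [Module A Z] [Module.Finite A Z] (f : X →ₗ[A] Y) (g : Y →ₗ[A] Z)
    (h1 : Meet (A := A) M (LinearMap.ker f)) (h2 : Meet (A := A) M (Y ⧸ LinearMap.range f))
    (h3 : Meet (A := A) M (LinearMap.ker g)) (h4 : Meet (A := A) M (Z ⧸ LinearMap.range g)) :
    eps M (g ∘ₗ f) = eps M f + eps M g := by
  let K := LinearMap.ker (g ∘ₗ f)
  let R := LinearMap.range (g ∘ₗ f)
  let a0 : LinearMap.ker f →ₗ[A] K := Submodule.inclusion (LinearMap.ker_le_ker_comp f g)
  let a1 : K →ₗ[A] LinearMap.ker g :=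
    LinearMap.codRestrict _ (f ∘ₗ K.subtype) fun c => LinearMap.mem_ker.2 (LinearMap.mem_ker.1 c.2)
  let a2 : LinearMap.ker g →ₗ[A] Y ⧸ LinearMap.range f := (LinearMap.range f).mkQ ∘ₗ (LinearMap.ker g).subtype
  let a3 : (Y ⧸ LinearMap.range f) →ₗ[A] Z ⧸ R :=
    Submodule.mapQ _ _ g (by rintro _ ⟨w, rfl⟩; exact ⟨w, rfl⟩)
  let a4 : (Z ⧸ R) →ₗ[A] Z ⧸ LinearMap.range g :=
    Submodule.mapQ _ _ LinearMap.id (LinearMap.range_comp_le_range f g)
  have e01 : Function.Exact a0 a1 := fun c => by
    constructor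
    · intro hc
      exact ⟨⟨c.1, LinearMap.mem_ker.2 (congrArg Subtype.val hc)⟩, rfl⟩
    · rintro ⟨d, rfl⟩
      exact Subtype.ext (LinearMap.mem_ker.1 d.2)
  have e12 : Function.Exact a1 a2 := fun c => by
    constructor
    · intro hc
      obtain ⟨w, hw⟩ : c.1 ∈ LinearMap.range f := (Submodule.Quotient.mk_eq_zero _).1 hc
      exact ⟨⟨w, LinearMap.mem_ker.2 (by rw [LinearMap.comp_apply, hw]; exact c.2)⟩, Subtype.ext hw⟩
    · rintro ⟨d, rfl⟩
      exact (Submodule.Quotient.mk_eq_zero _).2 ⟨_, rfl⟩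
  have e23 : Function.Exact a2 a3 := fun c => by
    obtain ⟨y, rfl⟩ := Submodule.mkQ_surjective _ c
    constructor
    · intro hy
      obtain ⟨w, hw⟩ : g y ∈ R := (Submodule.Quotient.mk_eq_zero _).1 hy
      refine ⟨⟨y - f w, LinearMap.mem_ker.2 ?_⟩, (Submodule.Quotient.eq _).2 ⟨-w, ?_⟩⟩
      · rw [map_sub, ← LinearMap.comp_apply g f, hw, sub_self]
      · show f (-w) = y - f w - y
        rw [map_neg]
        abel
    · rintro ⟨d, hd⟩
      rw [← hd]
      exact (Submodule.Quotient.mk_eq_zero _).2 ⟨0, by rw [map_zero]; exact (LinearMap.mem_ker.1 d.2).symm⟩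
  have e34 : Function.Exact a3 a4 := fun c => by
    obtain ⟨z, rfl⟩ := Submodule.mkQ_surjective _ c
    constructor
    · intro hz
      obtain ⟨y, hy⟩ : z ∈ LinearMap.range g := (Submodule.Quotient.mk_eq_zero _).1 hz
      exact ⟨(LinearMap.range f).mkQ y, congrArg (Submodule.mkQ R) hy⟩
    · rintro ⟨d, hd⟩
      obtain ⟨y, rfl⟩ := Submodule.mkQ_surjective _ d
      rw [← hd]
      exact (Submodule.Quotient.mk_eq_zero _).2 ⟨y, rfl⟩
  have hs4 : Function.Surjective a4 := fun c => by
    obtain ⟨z, rfl⟩ := Submodule.mkQ_surjective _ c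
    exact ⟨R.mkQ z, rfl⟩
  have hK : Meet (A := A) M K := fun p hp hp' => by
    by_contra hne
    have hu := Module.support_of_exact (show Function.Exact (LinearMap.range a0).subtype a1.rangeRestrict from by
      rw [LinearMap.exact_iff, LinearMap.ker_rangeRestrict, Submodule.range_subtype]
      exact LinearMap.exact_iff.1 e01) (Submodule.subtype_injective _) a1.surjective_rangeRestrict
    rw [hu] at hp'
    rcases hp' with h | h
    · exact hne ((h1.of_surjective a0.rangeRestrict a0.surjective_rangeRestrict) p hp h)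
    · exact hne ((h3.of_injective (LinearMap.range a1).subtype (Submodule.subtype_injective _)) p hp h)
  have hR : Meet (A := A) M (Z ⧸ R) := fun p hp hp' => by
    by_contra hne
    have hu := Module.support_of_exact (show Function.Exact (LinearMap.range a3).subtype a4.rangeRestrict from by
      rw [LinearMap.exact_iff, LinearMap.ker_rangeRestrict, Submodule.range_subtype]
      exact LinearMap.exact_iff.1 e34) (Submodule.subtype_injective _) a4.surjective_rangeRestrict
    rw [hu] at hp'
    rcases hp' with h | h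
    · exact hne ((h2.of_surjective a3.rangeRestrict a3.surjective_rangeRestrict) p hp h)
    · exact hne ((h4.of_injective (LinearMap.range a4).subtype (Submodule.subtype_injective _)) p hp h)
  haveI : Module.Finite A (LinearMap.ker g) := inferInstance
  haveI : Module.Finite A K := inferInstance
  have c1 := chi_exact a0 a1 e01 hK
  rw [← chi_congr (LinearEquiv.refl A M)
    (LinearEquiv.ofInjective a0 (Submodule.inclusion_injective (LinearMap.ker_le_ker_comp f g)))] at c1
  have c2 := chi_exact a1 a2 e12 h3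
  have c3 := chi_exact a2 a3 e23 h2
  have c4 := chi_exact a3 a4 e34 hR
  rw [LinearMap.range_eq_top.2 hs4, chi_congr (LinearEquiv.refl A M) (Submodule.topEquiv)] at c4
  simp only [eps]
  rw [show LinearMap.ker (g ∘ₗ f) = K from rfl, show LinearMap.range (g ∘ₗ f) = R from rfl]
  linarith

section LES

variable [Module.Finite A P] {Q₁ Q₂ Q₃ : Type u} [AddCommGroup Q₁] [Module A Q₁] [Module.Finite A Q₁]
  [AddCommGroup Q₂] [Module A Q₂] [Module.Finite A Q₂] [AddCommGroup Q₃] [Module A Q₃] [Module.Finite A Q₃]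
  (f : Q₁ →ₗ[A] Q₂) (g : Q₂ →ₗ[A] Q₃)

omit [Module.Finite A M] [Module.Finite A P] in
theorem exact_tmap (P : Type u) [AddCommGroup P] [Module A P] (hf : Function.Injective f)
    (hg : Function.Surjective g) (hfg : Function.Exact f g) :
    Function.Surjective (tmap 0 P g) ∧ ∀ i, Function.Exact (tmap i P f) (tmap i P g) ∧
      ∃ δ : DRing.Tor A (i + 1) P Q₃ →ₗ[A] DRing.Tor A i P Q₁,
        Function.Exact (tmap (i + 1) P g) δ ∧ Function.Exact δ (tmap i P f) := by
  have hS := Groth.L04.shortExact_mk hf hg hfg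
  let S := ShortComplex.moduleCatMkOfKerLERange (ModuleCat.ofHom f) (ModuleCat.ofHom g)
    (LinearMap.exact_iff.1 hfg).ge
  change S.ShortExact at hS
  refine ⟨(ModuleCat.epi_iff_surjective _).1 (Groth.L01.TorLES.tor_longExact (ModuleCat.of A P) S hS 0).2.1,
    fun i => ?_⟩
  obtain ⟨⟨w₀, hex0⟩, -, δ, w₁, w₂, hex1, hex2⟩ := Groth.L01.TorLES.tor_longExact (ModuleCat.of A P) S hS i
  exact ⟨(ShortComplex.ShortExact.moduleCat_exact_iff_function_exact _).1 hex0, δ.hom,
    (ShortComplex.ShortExact.moduleCat_exact_iff_function_exact _).1 hex1,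
    (ShortComplex.ShortExact.moduleCat_exact_iff_function_exact _).1 hex2⟩

theorem tri_eq_range {d : ℕ} (hd : ringKrullDim A = d) (M P Q : Type u) [AddCommGroup M] [Module A M]
    [AddCommGroup P] [Module A P] [AddCommGroup Q] [Module A Q] :
    tri (A := A) M P Q =
      ∑ i ∈ Finset.range (d + 1), (-1 : ℤ) ^ i * _root_.IntMult.chi A M (DRing.Tor A i P Q) := by
  refine finsum_eq_sum_of_support_subset _ fun i hi => ?_
  rw [Finset.coe_range, Set.mem_Iio]
  by_contra hlt
  refine hi ?_
  haveI := Groth.L04.hasProjectiveDimensionLE_of_regularLocal hd (ModuleCat.of A Q)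
  haveI : Subsingleton (DRing.Tor A i P Q) := ModuleCat.subsingleton_of_isZero
    (Groth.L22.TorPd.isZero_tor_of_hasProjectiveDimensionLE (ModuleCat.of A P) d (ModuleCat.of A Q) i (by omega))
  show (-1 : ℤ) ^ i * _ = 0
  rw [chi_subsingleton, mul_zero]

theorem alt_left (hf : Function.Injective f) (hg : Function.Surjective g) (hfg : Function.Exact f g)
    (h : ∀ i, Meet (A := A) M (DRing.Tor A i P Q₃)) {d : ℕ} (hd : ringKrullDim A = d) :
    (∀ i, Meet (A := A) M (LinearMap.ker (tmap i P f)) ∧
      Meet (A := A) M (DRing.Tor A i P Q₂ ⧸ LinearMap.range (tmap i P f))) ∧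
    ∑ i ∈ Finset.range (d + 1), (-1 : ℤ) ^ i * eps M (tmap i P f) = tri (A := A) M P Q₃ := by
  obtain ⟨hg0, hall⟩ := exact_tmap f g P hf hg hfg
  choose hFG δ hGd hdF using hall
  haveI : ∀ i, Module.Finite A (DRing.Tor A i P Q₃) := fun i => L02.CAlg.TorV.finite_tor P Q₃ i
  let a := fun i => _root_.IntMult.chi A M (LinearMap.range (tmap i P g))
  let dd := fun i => _root_.IntMult.chi A M (LinearMap.range (δ i))
  have ec : ∀ i, Nonempty ((DRing.Tor A i P Q₂ ⧸ LinearMap.range (tmap i P f)) ≃ₗ[A] LinearMap.range (tmap i P g)) :=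
    fun i => ⟨(Submodule.quotEquivOfEq _ _ (LinearMap.exact_iff.1 (hFG i)).symm).trans
      (tmap i P g).quotKerEquivRange⟩
  have ek : ∀ i, LinearMap.ker (tmap i P f) = LinearMap.range (δ i) := fun i => LinearMap.exact_iff.1 (hdF i)
  refine ⟨fun i => ⟨?_, ?_⟩, ?_⟩
  · rw [ek]
    exact (h (i + 1)).of_surjective (δ i).rangeRestrict (δ i).surjective_rangeRestrict
  · obtain ⟨e⟩ := ec i
    exact ((h i).of_injective (LinearMap.range (tmap i P g)).subtype (Submodule.subtype_injective _)).of_injective
      e.toLinearMap e.injective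
  have heps : ∀ i, eps M (tmap i P f) = a i - dd i := fun i => by
    obtain ⟨e⟩ := ec i
    rw [eps, chi_congr (LinearEquiv.refl A M) e, chi_congr (LinearEquiv.refl A M) (LinearEquiv.ofEq _ _ (ek i))]
  have h0 : _root_.IntMult.chi A M (DRing.Tor A 0 P Q₃) = a 0 := by
    show _ = _root_.IntMult.chi A M (LinearMap.range (tmap 0 P g))
    rw [LinearMap.range_eq_top.2 hg0, chi_congr (LinearEquiv.refl A M) Submodule.topEquiv]
  have hsum : ∀ n, ∑ i ∈ Finset.range (n + 1), (-1 : ℤ) ^ i * eps M (tmap i P f) =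
      (∑ i ∈ Finset.range (n + 1), (-1 : ℤ) ^ i * _root_.IntMult.chi A M (DRing.Tor A i P Q₃)) -
        (-1 : ℤ) ^ n * dd n := by
    intro n
    induction n with
    | zero =>
      rw [Finset.sum_range_one, Finset.sum_range_one, heps, h0]
      ring
    | succ n ih =>
      rw [Finset.sum_range_succ, Finset.sum_range_succ (n := n + 1), ih, heps,
        chi_exact (tmap (n + 1) P g) (δ n) (hGd n) (h (n + 1))]
      show _ = _ + (-1 : ℤ) ^ (n + 1) * (a (n + 1) + dd n) - _
      ring
  rw [hsum, tri_eq_range hd]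
  haveI := Groth.L04.hasProjectiveDimensionLE_of_regularLocal hd (ModuleCat.of A Q₃)
  haveI : Subsingleton (DRing.Tor A (d + 1) P Q₃) := ModuleCat.subsingleton_of_isZero
    (Groth.L22.TorPd.isZero_tor_of_hasProjectiveDimensionLE (ModuleCat.of A P) d (ModuleCat.of A Q₃) (d + 1) (by omega))
  haveI : Subsingleton (LinearMap.range (δ d)) := (δ d).surjective_rangeRestrict.subsingleton
  rw [show dd d = 0 from chi_subsingleton _ _, mul_zero, sub_zero]

theorem alt_right (hf : Function.Injective f) (hg : Function.Surjective g) (hfg : Function.Exact f g)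
    (h : ∀ i, Meet (A := A) M (DRing.Tor A i P Q₁)) {d : ℕ} (hd : ringKrullDim A = d) :
    (∀ i, Meet (A := A) M (LinearMap.ker (tmap i P g)) ∧
      Meet (A := A) M (DRing.Tor A i P Q₃ ⧸ LinearMap.range (tmap i P g))) ∧
    ∑ i ∈ Finset.range (d + 1), (-1 : ℤ) ^ i * eps M (tmap i P g) = - tri (A := A) M P Q₁ := by
  obtain ⟨hg0, hall⟩ := exact_tmap f g P hf hg hfg
  choose hFG δ hGd hdF using hall
  haveI : ∀ i, Module.Finite A (DRing.Tor A i P Q₁) := fun i => L02.CAlg.TorV.finite_tor P Q₁ i
  let b := fun i => _root_.IntMult.chi A M (LinearMap.range (tmap i P f))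
  let dd := fun i => _root_.IntMult.chi A M (LinearMap.range (δ i))
  haveI h0 : Subsingleton (DRing.Tor A 0 P Q₃ ⧸ LinearMap.range (tmap 0 P g)) :=
    Submodule.Quotient.subsingleton_iff.2 (LinearMap.range_eq_top.2 hg0)
  have ec : ∀ i, Nonempty ((DRing.Tor A (i + 1) P Q₃ ⧸ LinearMap.range (tmap (i + 1) P g)) ≃ₗ[A]
      LinearMap.range (δ i)) :=
    fun i => ⟨(Submodule.quotEquivOfEq _ _ (LinearMap.exact_iff.1 (hGd i)).symm).trans (δ i).quotKerEquivRange⟩
  have ek : ∀ i, LinearMap.ker (tmap i P g) = LinearMap.range (tmap i P f) := fun i => LinearMap.exact_iff.1 (hFG i)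
  refine ⟨fun i => ⟨?_, ?_⟩, ?_⟩
  · rw [ek]
    exact (h i).of_surjective (tmap i P f).rangeRestrict (tmap i P f).surjective_rangeRestrict
  · cases i with
    | zero => exact fun p _ hp => absurd hp (by rw [Module.support_eq_empty_iff.2 h0]; exact id)
    | succ i =>
      obtain ⟨e⟩ := ec i
      exact ((h i).of_injective (LinearMap.range (δ i)).subtype (Submodule.subtype_injective _)).of_injective
        e.toLinearMap e.injective
  have hb : ∀ i, _root_.IntMult.chi A M (LinearMap.ker (tmap i P g)) = b i := fun i =>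
    chi_congr (LinearEquiv.refl A M) (LinearEquiv.ofEq _ _ (ek i))
  have hsum : ∀ n, ∑ i ∈ Finset.range (n + 1), (-1 : ℤ) ^ i * eps M (tmap i P g) =
      -(∑ i ∈ Finset.range (n + 1), (-1 : ℤ) ^ i * _root_.IntMult.chi A M (DRing.Tor A i P Q₁)) +
        (-1 : ℤ) ^ n * dd n := by
    intro n
    induction n with
    | zero =>
      rw [Finset.sum_range_one, Finset.sum_range_one, eps, hb, chi_subsingleton,
        chi_exact (δ 0) (tmap 0 P f) (hdF 0) (h 0)]
      show _ = -((-1 : ℤ) ^ 0 * (dd 0 + b 0)) + _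
      ring
    | succ n ih =>
      obtain ⟨e⟩ := ec n
      rw [Finset.sum_range_succ, Finset.sum_range_succ (n := n + 1), ih, eps, hb,
        chi_congr (LinearEquiv.refl A M) e, chi_exact (δ (n + 1)) (tmap (n + 1) P f) (hdF (n + 1)) (h (n + 1))]
      show _ + (-1 : ℤ) ^ (n + 1) * (dd n - b (n + 1)) =
        -(_ + (-1 : ℤ) ^ (n + 1) * (dd (n + 1) + b (n + 1))) + _
      ring
  rw [hsum, tri_eq_range hd]
  haveI := Groth.L04.hasProjectiveDimensionLE_of_regularLocal hd (ModuleCat.of A Q₃)
  haveI : Subsingleton (DRing.Tor A (d + 1) P Q₃) := ModuleCat.subsingleton_of_isZero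
    (Groth.L22.TorPd.isZero_tor_of_hasProjectiveDimensionLE (ModuleCat.of A P) d (ModuleCat.of A Q₃) (d + 1) (by omega))
  haveI : Subsingleton (LinearMap.range (δ d)) := (δ d).surjective_rangeRestrict.subsingleton
  rw [show dd d = 0 from chi_subsingleton _ _, mul_zero, add_zero]

end LES

/-- Cutting the iterated characteristic by an element. -/
theorem step (x : A) [Module.Finite A P] [Module.Finite A Q]
    (hq : Meet3 (A := A) M P (Q ⧸ LinearMap.range (sx x Q))) (hk : Meet3 (A := A) M P (LinearMap.ker (sx x Q)))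
    {d : ℕ} (hd : ringKrullDim A = d) :
    ∑ i ∈ Finset.range (d + 1), (-1 : ℤ) ^ i * eps M (sx x (DRing.Tor A i P Q)) =
      tri (A := A) M P (Q ⧸ LinearMap.range (sx x Q)) - tri (A := A) M P (LinearMap.ker (sx x Q)) := by
  let L := LinearMap.range (sx x Q)
  haveI : Module.Finite A (Q ⧸ L) := inferInstance
  obtain ⟨hG, hGs⟩ := alt_right (M := M) (LinearMap.ker (sx x Q)).subtype (sx x Q).rangeRestrict (P := P)
    (Submodule.subtype_injective _) (sx x Q).surjective_rangeRestrict
    (by rw [LinearMap.exact_iff, LinearMap.ker_rangeRestrict, Submodule.range_subtype]) (fun i => hk.tor i) hd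
  obtain ⟨hF, hFs⟩ := alt_left (M := M) L.subtype L.mkQ (P := P)
    (Submodule.subtype_injective _) L.mkQ_surjective (LinearMap.exact_subtype_mkQ L) (fun i => hq.tor i) hd
  rw [← hFs, ← neg_neg (tri (A := A) M P (LinearMap.ker (sx x Q))), ← hGs, sub_neg_eq_add,
    ← Finset.sum_add_distrib]
  refine Finset.sum_congr rfl fun i _ => ?_
  haveI : Module.Finite A (DRing.Tor A i P Q) := L02.CAlg.TorV.finite_tor P Q i
  haveI : Module.Finite A (DRing.Tor A i P L) := L02.CAlg.TorV.finite_tor P L i
  rw [← mul_add, add_comm, ← eps_comp _ _ (hG i).1 (hG i).2 (hF i).1 (hF i).2, ← tmap_comp,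
    show L.subtype ∘ₗ (sx x Q).rangeRestrict = sx x Q from rfl, tmap_sx]

end Groth.L22.IntMult
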