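import Groth.Agent.L22.IntMult.Acyclic
import Groth.Agent.L22.IntMult.Main

/-!
Intersection multiplicity for Cohen–Macaulay intersecting subvarieties.
-/

set_option autoImplicit false
set_option linter.style.haveILetI false
set_option backward.isDefEq.respectTransparency false

universe u

open CategoryTheory AlgebraicGeometry IsLocalRing RingTheory.Sequence
open scoped TensorProduct

namespace Groth.L22.IntMult

variable {A : Type u} [CommRing A] [IsLocalRing A] [IsNoetherianRing A]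

theorem natCast_le_depth_quotient (Q : Ideal A) (hQ : LocCoh.IsCohenMacaulayLocalRing (A ⧸ Q)) (b : ℕ)
    (hb : ringKrullDim (A ⧸ Q) = b) : (b : ℕ∞) ≤ LocCoh.depth A (A ⧸ Q) := by
  haveI := hQ
  haveI := hQ.toIsLocalRing
  have h := hQ.supportDim_eq_depth
  rw [Module.supportDim_self_eq_ringKrullDim, hb] at h
  rw [LocCoh.depth, Groth.L04.idealDepth_eq_idealDepth_map_of_finite (B := A ⧸ Q) _ (A ⧸ Q),
    Ideal.Quotient.algebraMap_eq,
    IsLocalRing.eq_maximalIdeal ((Ideal.map_eq_top_or_isMaximal_of_surjective _ Ideal.Quotient.mk_surjective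
      (maximalIdeal.isMaximal A)).resolve_left ?_)]
  rotate_left
  · intro ht
    have := Ideal.comap_map_of_surjective (Ideal.Quotient.mk Q) Ideal.Quotient.mk_surjective (maximalIdeal A)
    rw [ht, Ideal.comap_top, ← RingHom.ker_eq_comap_bot, Ideal.mk_ker] at this
    have hQt : Q ≠ ⊤ := Ideal.Quotient.nontrivial_iff.1 inferInstance
    exact (maximalIdeal.isMaximal A).ne_top (eq_top_iff.2 (this.le.trans (sup_le le_rfl (le_maximalIdeal hQt))))
  exact le_of_eq (by exact_mod_cast h)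

theorem chi_eq_length_of_both_cm {A : Type u} [CommRing A] [IsRegularLocalRing A] (P Q : Ideal A)
    (hP : LocCoh.IsCohenMacaulayLocalRing (A ⧸ P)) (hQ : LocCoh.IsCohenMacaulayLocalRing (A ⧸ Q)) (a b : ℕ)
    (ha : ringKrullDim (A ⧸ P) = a) (hb : ringKrullDim (A ⧸ Q) = b)
    (hab : ringKrullDim A = ((a + b : ℕ) : WithBot ℕ∞))
    (hmax : ∀ p : Ideal A, p.IsPrime → P ⊔ Q ≤ p → p = maximalIdeal A) :
    _root_.IntMult.chi A (A ⧸ Q) (A ⧸ P) = ((Module.length A (A ⧸ (P ⊔ Q))).toNat : ℤ) := by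
  have hdP := natCast_le_depth_quotient P hP a ha
  have hdQ := natCast_le_depth_quotient Q hQ b hb
  have hpd : HasProjectiveDimensionLE (ModuleCat.of A (A ⧸ P)) b :=
    Groth.L04.hasProjectiveDimensionLE_of_dim_le_add_depth _ hab (by
      rw [Nat.cast_add, add_comm (a : ℕ∞)]
      exact add_le_add le_rfl hdP)
  have hJ : maximalIdeal A ≤ (P ⊔ Q).radical := by
    rw [Ideal.radical_eq_sInf]
    refine le_sInf ?_
    rintro p ⟨hle, hp⟩
    exact (hmax p hp hle).ge
  obtain ⟨hvan, -⟩ := tor_vanish_and_depth (A ⧸ Q) (P ⊔ Q) hJ b (A ⧸ P) hpd hdQ fun i _ z x hx => by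
    obtain ⟨p, hp, q, hq, rfl⟩ := Submodule.mem_sup.1 hx
    rw [add_smul, smul_tor_eq_zero' i _ _ (fun n => ?_) z, smul_tor_eq_zero i _ _ (fun n => ?_) z, add_zero]
    · obtain ⟨n, rfl⟩ := Ideal.Quotient.mk_surjective n
      show Ideal.Quotient.mk Q (q * n) = 0
      exact Ideal.Quotient.eq_zero_iff_mem.2 (Ideal.mul_mem_right _ _ hq)
    · obtain ⟨n, rfl⟩ := Ideal.Quotient.mk_surjective n
      show Ideal.Quotient.mk P (p * n) = 0
      exact Ideal.Quotient.eq_zero_iff_mem.2 (Ideal.mul_mem_right _ _ hp)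
  obtain ⟨e⟩ := nonempty_tor_zero (A := A) (A ⧸ Q) (A ⧸ P)
  rw [_root_.IntMult.chi, finsum_eq_single _ 0 fun i hi => ?_, pow_zero, one_mul,
    e.length_eq, (TensorProduct.quotTensorEquivQuotSMul (A ⧸ P) Q).length_eq]
  · congr 2
    refine LinearEquiv.length_eq ?_
    refine (Submodule.quotEquivOfEq _ (Submodule.map (Submodule.mkQ P) (P ⊔ Q)) ?_).trans
      (Submodule.quotientQuotientEquivQuotient P (P ⊔ Q) le_sup_left)
    rw [Ideal.smul_top_eq_map, Submodule.map_sup, Submodule.mkQ_map_self, bot_sup_eq]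
    ext x
    rw [Submodule.restrictScalars_mem, Ideal.mem_map_iff_of_surjective (algebraMap A (A ⧸ P)) Ideal.Quotient.mk_surjective]
    exact Iff.rfl
  · haveI := hvan i (Nat.one_le_iff_ne_zero.2 hi)
    rw [Module.length_eq_zero_iff.2 (hvan i (Nat.one_le_iff_ne_zero.2 hi))]
    simp

end Groth.L22.IntMult
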