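import Groth.Agent.L22.IntMult.Acyclic
import Groth.Agent.L22.TorPd
import Groth.Agent.L22.QuotLength
import Groth.Agent.L02.CAlg.Tor.Finite

/-!
Bilinear expansion of the Tor Euler characteristic over a regular local ring along primes of top dimension.
-/

set_option autoImplicit false
set_option linter.style.haveILetI false
set_option backward.isDefEq.respectTransparency false

universe u

open CategoryTheory CategoryTheory.Limits IsLocalRing Groth.L22.QuotLength

namespace Groth.L22.IntMult

variable {A : Type u} [CommRing A] [IsRegularLocalRing A]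

/-- The supports meet at most in the closed point. -/
def Meet (M N : Type u) [AddCommGroup M] [Module A M] [AddCommGroup N] [Module A N] : Prop :=
  ∀ p : PrimeSpectrum A, p ∈ Module.support A M → p ∈ Module.support A N → p.asIdeal = maximalIdeal A

variable {M N : Type u} [AddCommGroup M] [Module A M] [AddCommGroup N] [Module A N]

theorem Meet.symm (h : Meet (A := A) M N) : Meet (A := A) N M := fun p h1 h2 => h p h2 h1

theorem length_tor_ne_top [Module.Finite A M] [Module.Finite A N] (h : Meet (A := A) M N) (i : ℕ) :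
    Module.length A (DRing.Tor A i M N) ≠ ⊤ := by
  haveI : Module.Finite A (DRing.Tor A i M N) := L02.CAlg.TorV.finite_tor M N i
  refine length_ne_top_of_support _ fun p hp => ?_
  rw [Module.support_eq_zeroLocus] at hp
  refine h p ?_ ?_
  · rw [Module.support_eq_zeroLocus]
    exact fun x hx => hp (Module.mem_annihilator.2 fun z =>
      smul_tor_eq_zero i M N (fun m => Module.mem_annihilator.1 hx m) z)
  · rw [Module.support_eq_zeroLocus]
    exact fun x hx => hp (Module.mem_annihilator.2 fun z =>
      smul_tor_eq_zero' i M N (fun m => Module.mem_annihilator.1 hx m) z)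

theorem chi_eq_range (d : ℕ) (hd : ringKrullDim A = d) (M N : Type u) [AddCommGroup M] [Module A M]
    [AddCommGroup N] [Module A N] :
    _root_.IntMult.chi A M N =
      ∑ i ∈ Finset.range (d + 1), (-1 : ℤ) ^ i * ((Module.length A (DRing.Tor A i M N)).toNat : ℤ) := by
  refine finsum_eq_sum_of_support_subset _ fun i hi => ?_
  rw [Finset.coe_range, Set.mem_Iio]
  by_contra hlt
  refine hi ?_
  haveI := Groth.L04.hasProjectiveDimensionLE_of_regularLocal hd (ModuleCat.of A N)
  haveI : Subsingleton (DRing.Tor A i M N) := ModuleCat.subsingleton_of_isZero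
    (Groth.L22.TorPd.isZero_tor_of_hasProjectiveDimensionLE (ModuleCat.of A M) d (ModuleCat.of A N) i (by omega))
  show (-1 : ℤ) ^ i * _ = 0
  rw [Module.length_eq_zero]
  simp

theorem alt_sum (T1 T2 T3 r : ℕ → ℤ) (h : ∀ i, T1 i + T3 i = T2 i + (r (i + 1) + r i)) (h0 : r 0 = 0) (n : ℕ) :
    (∑ i ∈ Finset.range n, (-1 : ℤ) ^ i * T1 i) + ∑ i ∈ Finset.range n, (-1 : ℤ) ^ i * T3 i =
      (∑ i ∈ Finset.range n, (-1 : ℤ) ^ i * T2 i) - (-1 : ℤ) ^ n * r n := by
  induction n with
  | zero => simp [h0]
  | succ n ih =>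
    rw [Finset.sum_range_succ, Finset.sum_range_succ, Finset.sum_range_succ]
    linear_combination ih + (-1 : ℤ) ^ n * h n

/-- Additivity in the second variable. -/
theorem chi_add_right (M : Type u) [AddCommGroup M] [Module A M] [Module.Finite A M]
    {N₁ N₂ N₃ : Type u} [AddCommGroup N₁] [Module A N₁] [AddCommGroup N₂] [Module A N₂]
    [AddCommGroup N₃] [Module A N₃] [Module.Finite A N₁] [Module.Finite A N₂] [Module.Finite A N₃]
    (f : N₁ →ₗ[A] N₂) (g : N₂ →ₗ[A] N₃) (hf : Function.Injective f) (hg : Function.Surjective g)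
    (hfg : Function.Exact f g) (h : Meet (A := A) M N₂) :
    _root_.IntMult.chi A M N₂ = _root_.IntMult.chi A M N₁ + _root_.IntMult.chi A M N₃ := by
  obtain ⟨d, hd⟩ := Groth.L01.exists_dim_eq_nat (R := A)
  have hS := Groth.L04.shortExact_mk hf hg hfg
  let S := ShortComplex.moduleCatMkOfKerLERange (ModuleCat.ofHom f) (ModuleCat.ofHom g)
    (LinearMap.exact_iff.1 hfg).ge
  change S.ShortExact at hS
  let MM := ModuleCat.of A M
  have h1 : Meet (A := A) M N₁ := fun p hp hp' => h p hp (Module.support_subset_of_injective f hf hp')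
  have h3 : Meet (A := A) M N₃ := fun p hp hp' => h p hp (Module.support_subset_of_surjective g hg hp')
  let F : ∀ i, DRing.Tor A i M N₁ →ₗ[A] DRing.Tor A i M N₂ :=
    fun i => (((CategoryTheory.Tor (ModuleCat.{u} A) i).obj MM).map S.f).hom
  let G : ∀ i, DRing.Tor A i M N₂ →ₗ[A] DRing.Tor A i M N₃ :=
    fun i => (((CategoryTheory.Tor (ModuleCat.{u} A) i).obj MM).map S.g).hom
  have hex : ∀ i, Function.Exact (F i) (G i) ∧ ∃ δ : DRing.Tor A (i + 1) M N₃ →ₗ[A] DRing.Tor A i M N₁,
      Function.Exact (G (i + 1)) δ ∧ Function.Exact δ (F i) := fun i => by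
    obtain ⟨⟨w₀, hex0⟩, -, δ, w₁, w₂, hex1, hex2⟩ := Groth.L01.TorLES.tor_longExact MM S hS i
    exact ⟨(ShortComplex.ShortExact.moduleCat_exact_iff_function_exact _).1 hex0, δ.hom,
      (ShortComplex.ShortExact.moduleCat_exact_iff_function_exact _).1 hex1,
      (ShortComplex.ShortExact.moduleCat_exact_iff_function_exact _).1 hex2⟩
  choose hFG δ hGd hdF using hex
  have hG0 : LinearMap.range (G 0) = ⊤ := LinearMap.range_eq_top.2
    ((ModuleCat.epi_iff_surjective _).1 (Groth.L01.TorLES.tor_longExact MM S hS 0).2.1)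
  have split : ∀ {X Y Z : Type u} [AddCommGroup X] [Module A X] [AddCommGroup Y] [Module A Y] [AddCommGroup Z]
      [Module A Z] (a : X →ₗ[A] Y) (b : Y →ₗ[A] Z), Function.Exact a b → Module.length A Y ≠ ⊤ →
      ((Module.length A Y).toNat : ℤ) = (Module.length A (LinearMap.range a)).toNat +
        (Module.length A (LinearMap.range b)).toNat := by
    intro X Y Z _ _ _ _ _ _ a b hab hY
    have hlen := Module.length_eq_add_of_exact (LinearMap.range a).subtype b.rangeRestrict
      (Submodule.subtype_injective _) b.surjective_rangeRestrict (by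
        rw [LinearMap.exact_iff, LinearMap.ker_rangeRestrict, Submodule.range_subtype]
        exact LinearMap.exact_iff.1 hab)
    rw [hlen] at hY
    rw [hlen, ENat.toNat_add (fun e => hY (by rw [e, top_add])) (fun e => hY (by rw [e, add_top]))]
    push_cast
    rfl
  -- `r (i+1)` is the length of the image of the connecting map into degree `i`
  let r : ℕ → ℤ := fun i => match i with
    | 0 => 0
    | i + 1 => ((Module.length A (LinearMap.range (δ i))).toNat : ℤ)
  have hstep : ∀ i, ((Module.length A (DRing.Tor A i M N₁)).toNat : ℤ) + (Module.length A (DRing.Tor A i M N₃)).toNat =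
      (Module.length A (DRing.Tor A i M N₂)).toNat + (r (i + 1) + r i) := by
    intro i
    have e1 := split _ _ (hdF i) (length_tor_ne_top h1 i)
    have e2 := split _ _ (hFG i) (length_tor_ne_top h i)
    cases i with
    | zero =>
      have e3 : ((Module.length A (DRing.Tor A 0 M N₃)).toNat : ℤ) = (Module.length A (LinearMap.range (G 0))).toNat := by
        rw [hG0, Module.length_top]
      rw [e1, e2, e3]
      show _ = _ + (((Module.length A (LinearMap.range (δ 0))).toNat : ℤ) + 0)
      ring
    | succ i =>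
      have e3 := split _ _ (hGd i) (length_tor_ne_top h3 (i + 1))
      rw [e1, e2, e3]
      show _ = _ + (((Module.length A (LinearMap.range (δ (i + 1)))).toNat : ℤ) +
        ((Module.length A (LinearMap.range (δ i))).toNat : ℤ))
      ring
  have hlast : r (d + 1) = 0 := by
    haveI := Groth.L04.hasProjectiveDimensionLE_of_regularLocal hd (ModuleCat.of A N₃)
    haveI : Subsingleton (DRing.Tor A (d + 1) M N₃) := ModuleCat.subsingleton_of_isZero
      (Groth.L22.TorPd.isZero_tor_of_hasProjectiveDimensionLE (ModuleCat.of A M) d (ModuleCat.of A N₃) (d + 1)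
        (by omega))
    haveI : Subsingleton (LinearMap.range (δ d)) := (δ d).surjective_rangeRestrict.subsingleton
    show ((Module.length A (LinearMap.range (δ d))).toNat : ℤ) = 0
    rw [Module.length_eq_zero]
    rfl
  have halt := alt_sum _ _ _ r hstep rfl (d + 1)
  rw [hlast, mul_zero, sub_zero, ← chi_eq_range d hd, ← chi_eq_range d hd, ← chi_eq_range d hd] at halt
  exact halt.symm

/-- Primes with quotient of dimension `a`. -/
abbrev Top (A : Type u) [CommRing A] (a : ℕ) : Type u :=
  {p : PrimeSpectrum A // ringKrullDim (A ⧸ p.asIdeal) = a}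

/-- The expansion coefficient. -/
noncomputable def lc (M : Type u) [AddCommGroup M] [Module A M] (p : PrimeSpectrum A) : ℤ :=
  ((locLen M p).toNat : ℤ)

theorem dim_succ_le {p q : PrimeSpectrum A} (h : q < p) :
    ringKrullDim (A ⧸ p.asIdeal) + 1 ≤ ringKrullDim (A ⧸ q.asIdeal) := by
  obtain ⟨x, hxp, hxq⟩ := SetLike.exists_of_lt (show q.asIdeal < p.asIdeal from h)
  exact ringKrullDim_succ_le_of_surjective (Ideal.Quotient.factor h.le) (Ideal.Quotient.factor_surjective h.le)
    (r := Ideal.Quotient.mk q.asIdeal x) (mem_nonZeroDivisors_of_ne_zero fun hx =>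
      hxq (Ideal.Quotient.eq_zero_iff_mem.1 hx))
    (by rw [Ideal.Quotient.factor_mk]; exact Ideal.Quotient.eq_zero_iff_mem.2 hxp)

theorem eq_of_le_top {a : ℕ} (p : Top A a) {q : PrimeSpectrum A} (hq : ringKrullDim (A ⧸ q.asIdeal) ≤ a)
    (hle : q ≤ p.1) : q = p.1 := by
  rcases hle.eq_or_lt with h | h
  · exact h
  · have h1 := (dim_succ_le h).trans hq
    rw [p.2] at h1
    have : a + 1 ≤ a := by exact_mod_cast h1
    omega

theorem mem_support_quotient {p q : PrimeSpectrum A} : p ∈ Module.support A (A ⧸ q.asIdeal) ↔ q ≤ p := by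
  rw [Module.support_eq_zeroLocus, Ideal.annihilator_quotient]
  rfl

theorem locLen_ne_top {a : ℕ} (p : Top A a) (M : Type u) [AddCommGroup M] [Module A M] [hM : Module.Finite A M]
    (hdim : ∀ q ∈ Module.support A M, ringKrullDim (A ⧸ q.asIdeal) ≤ a) : locLen M p.1 ≠ ⊤ := by
  revert hdim
  induction hM using IsNoetherianRing.induction_on_isQuotientEquivQuotientPrime A with
  | subsingleton N =>
    intro _
    rw [locLen_eq_zero (by rw [Module.support_eq_empty_iff.2 inferInstance]; exact id)]
    simp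
  | quotient N q e =>
    intro hdim
    rw [locLen_congr e]
    by_cases hp : p.1 ∈ Module.support A (A ⧸ q.asIdeal)
    · have hq := eq_of_le_top p (hdim q (by rw [e.support_eq]; exact mem_support_quotient.2 le_rfl))
        (mem_support_quotient.1 hp)
      rw [hq, locLen_quotient]
      simp
    · rw [locLen_eq_zero hp]
      simp
  | exact N₁ N₂ N₃ f g hf hg hfg ih₁ ih₃ =>
    intro hdim
    rw [locLen_add f g hf hg hfg]
    exact WithTop.add_ne_top.2 ⟨ih₁ fun q hq => hdim q (Module.support_subset_of_injective f hf hq),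
      ih₃ fun q hq => hdim q (Module.support_subset_of_surjective g hg hq)⟩

theorem lc_eq_zero {p : PrimeSpectrum A} (h : p ∉ Module.support A M) : lc M p = 0 := by
  rw [lc, locLen_eq_zero h]
  rfl

theorem hasFiniteSupport_lc {a : ℕ} (M : Type u) [AddCommGroup M] [Module A M] [Module.Finite A M]
    (hdim : ∀ q ∈ Module.support A M, ringKrullDim (A ⧸ q.asIdeal) ≤ a) (G : PrimeSpectrum A → ℤ) :
    (Function.support fun p : Top A a => lc M p.1 * G p.1).Finite := by
  refine Set.Finite.of_finite_image (f := fun p : Top A a => p.1.asIdeal)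
    ((Module.annihilator A M).finite_minimalPrimes_of_isNoetherianRing.subset ?_)
    fun x _ y _ h => Subtype.ext (PrimeSpectrum.ext h)
  rintro _ ⟨p, hp, rfl⟩
  have hann : ∀ q : PrimeSpectrum A, q ∈ Module.support A M ↔ Module.annihilator A M ≤ q.asIdeal :=
    fun q => by rw [Module.support_eq_zeroLocus]; rfl
  have hpM : p.1 ∈ Module.support A M := by
    by_contra h
    exact left_ne_zero_of_mul (Function.mem_support.1 hp) (lc_eq_zero h)
  refine ⟨⟨p.1.2, (hann _).1 hpM⟩, fun J hJ hle => ?_⟩
  exact (congrArg PrimeSpectrum.asIdeal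
    (eq_of_le_top p (q := ⟨J, hJ.1⟩) (hdim _ ((hann ⟨J, hJ.1⟩).2 hJ.2)) hle)).ge

/-- Expansion in the first variable. -/
theorem chi_eq_sum_left (N : Type u) [AddCommGroup N] [Module A N] [Module.Finite A N] (a : ℕ)
    (hz : ∀ q : PrimeSpectrum A, Meet (A := A) (A ⧸ q.asIdeal) N → ringKrullDim (A ⧸ q.asIdeal) < a →
      _root_.IntMult.chi A (A ⧸ q.asIdeal) N = 0)
    (M : Type u) [AddCommGroup M] [Module A M] [hM : Module.Finite A M] (h : Meet (A := A) M N)
    (hdim : ∀ q ∈ Module.support A M, ringKrullDim (A ⧸ q.asIdeal) ≤ a) :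
    _root_.IntMult.chi A M N = ∑ᶠ p : Top A a, lc M p.1 * _root_.IntMult.chi A (A ⧸ p.1.asIdeal) N := by
  revert h hdim
  induction hM using IsNoetherianRing.induction_on_isQuotientEquivQuotientPrime A with
  | subsingleton M =>
    intro _ _
    have h0 : ∀ p : PrimeSpectrum A, p ∉ Module.support A M := fun p => by
      rw [Module.support_eq_empty_iff.2 inferInstance]; exact id
    rw [finsum_eq_zero_of_forall_eq_zero fun p => by rw [lc_eq_zero (h0 p.1), zero_mul]]
    refine finsum_eq_zero_of_forall_eq_zero fun i => ?_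
    haveI : Subsingleton (DRing.Tor A i M N) := subsingleton_of_forall_eq 0 fun z => by
      rw [← one_smul A z]
      exact smul_tor_eq_zero i M N (fun m => Subsingleton.elim _ _) z
    rw [Module.length_eq_zero]
    simp
  | quotient M q e =>
    intro h hdim
    have hc : _root_.IntMult.chi A M N = _root_.IntMult.chi A (A ⧸ q.asIdeal) N := by
      simp only [_root_.IntMult.chi]
      refine finsum_congr fun i => ?_
      rw [((((CategoryTheory.Tor (ModuleCat.{u} A) i).mapIso e.toModuleIso).app (ModuleCat.of A N))).toLinearEquiv.length_eq]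
    have hq : q ∈ Module.support A M := by rw [e.support_eq]; exact mem_support_quotient.2 le_rfl
    have hlc : ∀ p : PrimeSpectrum A, lc M p = lc (A ⧸ q.asIdeal) p := fun p => by rw [lc, lc, locLen_congr e]
    rcases (hdim q hq).eq_or_lt with heq | hlt
    · rw [finsum_eq_single _ (⟨q, heq⟩ : Top A a) fun p hp => ?_]
      · rw [hlc, lc, locLen_quotient, hc]
        simp
      · rw [hlc, lc_eq_zero fun hs => hp (Subtype.ext (eq_of_le_top p (hdim q hq) (mem_support_quotient.1 hs)).symm),
          zero_mul]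
    · rw [hc, hz q (fun p hp hp' => h p (by rw [e.support_eq]; exact hp) hp') hlt,
        finsum_eq_zero_of_forall_eq_zero fun p => ?_]
      rw [hlc, lc_eq_zero fun hs => ?_, zero_mul]
      have := eq_of_le_top p (hdim q hq) (mem_support_quotient.1 hs)
      exact hlt.ne (this ▸ p.2)
  | exact M₁ M₂ M₃ f g hf hg hfg ih₁ ih₃ =>
    intro h hdim
    have hdim₁ : ∀ q ∈ Module.support A M₁, ringKrullDim (A ⧸ q.asIdeal) ≤ a :=
      fun q hq => hdim q (Module.support_subset_of_injective f hf hq)
    have hdim₃ : ∀ q ∈ Module.support A M₃, ringKrullDim (A ⧸ q.asIdeal) ≤ a :=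
      fun q hq => hdim q (Module.support_subset_of_surjective g hg hq)
    rw [chi_comm M₂ N, chi_add_right N f g hf hg hfg h.symm, chi_comm N M₁, chi_comm N M₃,
      ih₁ (fun p hp => h p (Module.support_subset_of_injective f hf hp)) hdim₁,
      ih₃ (fun p hp => h p (Module.support_subset_of_surjective g hg hp)) hdim₃,
      ← finsum_add_distrib (hasFiniteSupport_lc M₁ hdim₁ fun p => _root_.IntMult.chi A (A ⧸ p.asIdeal) N)
        (hasFiniteSupport_lc M₃ hdim₃ fun p => _root_.IntMult.chi A (A ⧸ p.asIdeal) N)]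
    refine finsum_congr fun p => ?_
    rw [← add_mul]
    congr 1
    simp only [lc]
    rw [locLen_add f g hf hg hfg, ENat.toNat_add (locLen_ne_top p M₁ hdim₁) (locLen_ne_top p M₃ hdim₃)]
    push_cast
    rfl

/-- The bilinear expansion. -/
theorem chi_eq_double_sum (M N : Type u) [AddCommGroup M] [Module A M] [Module.Finite A M] [AddCommGroup N]
    [Module A N] [Module.Finite A N] (h : Meet (A := A) M N) (a b : ℕ)
    (hab : ringKrullDim A = ((a + b : ℕ) : WithBot ℕ∞))
    (hM : ∀ q ∈ Module.support A M, ringKrullDim (A ⧸ q.asIdeal) ≤ a)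
    (hN : ∀ q ∈ Module.support A N, ringKrullDim (A ⧸ q.asIdeal) ≤ b)
    (hvan : ∀ p q : PrimeSpectrum A, Meet (A := A) (A ⧸ p.asIdeal) (A ⧸ q.asIdeal) →
      ringKrullDim (A ⧸ p.asIdeal) + ringKrullDim (A ⧸ q.asIdeal) < ringKrullDim A →
      _root_.IntMult.chi A (A ⧸ p.asIdeal) (A ⧸ q.asIdeal) = 0) :
    _root_.IntMult.chi A M N = ∑ᶠ p : Top A a, lc M p.1 *
      ∑ᶠ q : Top A b, lc N q.1 * _root_.IntMult.chi A (A ⧸ q.1.asIdeal) (A ⧸ p.1.asIdeal) := by
  have hlt : ∀ x y : WithBot ℕ∞, ∀ m n : ℕ, x < m → y ≤ n → x + y < ((m + n : ℕ) : WithBot ℕ∞) := by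
    intro x y m n hx hy
    refine lt_of_le_of_lt (add_le_add le_rfl hy) ?_
    induction x using WithBot.recBotCoe with
    | bot => rw [WithBot.bot_add]; exact WithBot.bot_lt_coe _
    | coe e =>
      have he : e < (m : ℕ∞) := WithBot.coe_lt_coe.1 hx
      obtain ⟨k, rfl⟩ := ENat.ne_top_iff_exists.1 (ne_top_of_lt he)
      have hk : k < m := by exact_mod_cast he
      refine WithBot.coe_lt_coe.2 (?_ : ((k : ℕ∞) + (n : ℕ∞)) < ((m + n : ℕ) : ℕ∞))
      exact_mod_cast Nat.add_lt_add_right hk n
  have hz : ∀ q : PrimeSpectrum A, Meet (A := A) (A ⧸ q.asIdeal) N → ringKrullDim (A ⧸ q.asIdeal) < a →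
      _root_.IntMult.chi A (A ⧸ q.asIdeal) N = 0 := by
    intro p hp hpa
    rw [chi_comm, chi_eq_sum_left (A ⧸ p.asIdeal) b (fun q hq hqb => ?_) N hp.symm hN]
    · refine finsum_eq_zero_of_forall_eq_zero fun q => ?_
      by_cases hq : q.1 ∈ Module.support A N
      · rw [chi_comm, hvan p q.1 (fun r hr hr' => hp r hr (Module.mem_support_mono (mem_support_quotient.1 hr') hq))
          (by rw [hab]; exact hlt _ _ a b hpa q.2.le), mul_zero]
      · rw [lc_eq_zero hq, zero_mul]
    · rw [chi_comm]
      exact hvan p q hq.symm (by rw [hab]; exact hlt _ _ a b hpa hqb.le)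
  rw [chi_eq_sum_left N a hz M h hM]
  refine finsum_congr fun p => ?_
  by_cases hp : p.1 ∈ Module.support A M
  · congr 1
    have hpN : Meet (A := A) (A ⧸ p.1.asIdeal) N := fun r hr hr' =>
      h r (Module.mem_support_mono (mem_support_quotient.1 hr) hp) hr'
    rw [chi_comm, chi_eq_sum_left (A ⧸ p.1.asIdeal) b (fun q hq hqb => ?_) N hpN.symm hN]
    rw [chi_comm]
    refine hvan p.1 q hq.symm ?_
    rw [hab, add_comm a b, add_comm]
    exact hlt _ _ b a hqb p.2.le
  · rw [lc_eq_zero hp, zero_mul, zero_mul]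

end Groth.L22.IntMult
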