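import Groth.Agent.L22.IntMult.ProdTor

/-!
The intersection of an exterior product with the diagonal.
-/

set_option autoImplicit false
set_option linter.style.haveILetI false
set_option backward.isDefEq.respectTransparency false

universe u

open CategoryTheory CategoryTheory.Limits AlgebraicGeometry IsLocalRing

noncomputable section

namespace Groth.L22.IntMult

variable {k : Type u} [Field k] {X : Scheme.{u}} (f : X ⟶ Spec (CommRingCat.of k))

/-- The stalk ideal of the product of two closed subschemes. -/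
theorem stalkIdeal_prod_ker [IsSeparated f] (IV IW : X.IdealSheafData) (z : ↥(pullback f f)) :
    _root_.IntMult.stalkIdeal (pullback.map (IV.subschemeι ≫ f) (IW.subschemeι ≫ f) f f IV.subschemeι IW.subschemeι
        (𝟙 _) (Category.comp_id _) (Category.comp_id _)).ker z =
      (_root_.IntMult.stalkIdeal IV (pullback.fst f f z)).map ((pullback.fst f f).stalkMap z).hom ⊔
        (_root_.IntMult.stalkIdeal IW (pullback.snd f f z)).map ((pullback.snd f f).stalkMap z).hom := by
  set F := pullback.map (IV.subschemeι ≫ f) (IW.subschemeι ≫ f) f f IV.subschemeι IW.subschemeι (𝟙 _)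
    (Category.comp_id _) (Category.comp_id _) with hF
  let i₁ := pullback.fst (pullback.fst f f) IV.subschemeι
  let i₂ := pullback.fst (pullback.snd f f) IW.subschemeι
  let G := pullback.fst i₁ i₂ ≫ i₁
  have hFfst : F ≫ pullback.fst f f = pullback.fst _ _ ≫ IV.subschemeι := pullback.lift_fst _ _ _
  have hFsnd : F ≫ pullback.snd f f = pullback.snd _ _ ≫ IW.subschemeι := pullback.lift_snd _ _ _
  let e : pullback (IV.subschemeι ≫ f) (IW.subschemeι ≫ f) ⟶ pullback i₁ i₂ :=
    pullback.lift (pullback.lift F (pullback.fst _ _) hFfst) (pullback.lift F (pullback.snd _ _) hFsnd)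
      (by rw [pullback.lift_fst, pullback.lift_fst])
  let e' : pullback i₁ i₂ ⟶ pullback (IV.subschemeι ≫ f) (IW.subschemeι ≫ f) :=
    pullback.lift (pullback.fst _ _ ≫ pullback.snd _ _) (pullback.snd _ _ ≫ pullback.snd _ _) (by
      simp only [Category.assoc]
      rw [← pullback.condition_assoc, ← pullback.condition_assoc (f := pullback.snd f f), pullback.condition (f := f) (g := f)]
      exact (pullback.condition_assoc _))
  have heF : e ≫ G = F := by simp only [e, G, i₁, pullback.lift_fst_assoc, pullback.lift_fst]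
  have heG : e' ≫ F = G := by
    refine pullback.hom_ext ?_ ?_
    · rw [Category.assoc, hFfst, pullback.lift_fst_assoc, Category.assoc, ← pullback.condition]
      simp only [G, i₁, Category.assoc]
    · rw [Category.assoc, hFsnd, pullback.lift_snd_assoc, Category.assoc, ← pullback.condition]
      simp only [G, i₁]
      rw [pullback.condition (f := i₁) (g := i₂)]
      simp only [i₂, Category.assoc]
      rfl
  have hFG : F.ker = G.ker := le_antisymm
    (le_of_eq_of_le rfl (heG ▸ Scheme.Hom.le_ker_comp e' F))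
    (le_of_eq_of_le rfl (heF ▸ Scheme.Hom.le_ker_comp e G))
  have h1 := stalkIdeal_comap (pullback.fst f f) z (ξ := pullback.fst f f z) rfl IV
  have h2 := stalkIdeal_comap (pullback.snd f f) z (ξ := pullback.snd f f z) rfl IW
  rw [toProd, TopCat.Presheaf.stalkSpecializes_refl, Category.id_comp] at h1 h2
  rw [hFG, stalkIdeal_ker_inter, ← h1, ← h2]
  rfl

/-- The stalk of the direct image of the structure module as a quotient. -/
theorem push_stalk_quot {W E : Scheme.{u}} (i : E ⟶ W) [IsClosedImmersion i] (x : E) :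
    Nonempty (((Coh.push i).obj (Coh.structureModule E)).presheaf.stalk (i x) ≃ₗ[W.presheaf.stalk (i x)]
      W.presheaf.stalk (i x) ⧸ _root_.IntMult.stalkIdeal i.ker (i x)) := by
  letI := (i.stalkMap x).hom.toAlgebra
  obtain ⟨e⟩ := push_stalk i x
  refine ⟨e.trans (((Ideal.quotientKerAlgEquivOfSurjective
    (f := Algebra.ofId (W.presheaf.stalk (i x)) (E.presheaf.stalk x)) (i.stalkMap_surjective x)).toLinearEquiv.symm).trans
      (Submodule.quotEquivOfEq _ _ ?_))⟩
  rw [stalkIdeal_eq, ← Groth.L20.Infinitesimal.ker_stalkMap]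
  rfl

section

variable [Smooth f] [IsSeparated f] [QuasiCompact f] [IsIntegral X] {δ : X → ℤ} {δ₂ : ↥(pullback f f) → ℤ}
  [Smooth (pullback.fst f f ≫ f)] [IsSeparated (pullback.fst f f ≫ f)] [QuasiCompact (pullback.fst f f ≫ f)]
  [IsIntegral (pullback f f)]
  (hX : Cyc.IsSetup X δ) (hP : Cyc.IsSetup (pullback f f) δ₂) (hδ : Cyc.DeltaCompat f δ (fun _ => 0))
  (h₂ : Cyc.DeltaCompat (pullback.fst f f ≫ f) δ₂ (fun _ => 0))

include hδ in
theorem stalkIdeal_ptIdeal_gen (ξ : X) :
    _root_.IntMult.stalkIdeal (_root_.IntMult.ptIdeal ξ) ξ = maximalIdeal (X.presheaf.stalk ξ) := by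
  rw [(ptPrime_facts f δ hδ (specializes_refl ξ)).1, ptPrime, TopCat.Presheaf.stalkSpecializes_refl]
  rfl

include hδ h₂ in
theorem delta_diag (x : X) : δ₂ (pullback.diagonal f x) = δ x := by
  have h1 := Groth.L22.Bundle.deltaCompat_comp (pullback.diagonal f) _ h₂
  rw [pullback.diagonal_fst_assoc] at h1
  obtain ⟨n, hn, e⟩ := h1 x
  obtain ⟨m, hm, e'⟩ := hδ x
  have hnm : n = m := by exact_mod_cast hn.symm.trans hm
  rw [e', ← hnm]
  exact e

include hX hP hδ h₂ in
theorem diag_formula {n : ℤ} (hn : δ (genericPoint X) = n) (hnn : δ₂ (genericPoint ↥(pullback f f)) = n + n)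
    {r s : ℤ} (α β : AlgebraicCycle X ℤ) (hα : α ∈ Cyc.Zk X δ r) (hβ : β ∈ Cyc.Zk X δ s)
    (hprop : _root_.IntMult.IntersectProperly δ n ⇑α ⇑β) :
    _root_.IntMult.IntersectProperly δ₂ (n + n) (Set.indicator {pullback.diagonal f (genericPoint X)} 1)
        (_root_.IntMult.extProd f f δ δ δ₂ ⇑α ⇑β) ∧
      ∀ ζ, _root_.IntMult.interProd δ₂ (n + n) (Set.indicator {pullback.diagonal f (genericPoint X)} 1)
        (_root_.IntMult.extProd f f δ δ δ₂ ⇑α ⇑β) ζ ≠ 0 → ζ ∈ Set.range (pullback.diagonal f) := by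
  haveI := hX.1
  haveI := hP.1
  have hrange : ∀ w, pullback.diagonal f (genericPoint X) ⤳ w → w ∈ Set.range (pullback.diagonal f) := fun w h =>
    (pullback.diagonal f).isClosedEmbedding.isClosed_range.stableUnderSpecialization h ⟨_, rfl⟩
  refine ⟨fun ξ η ζ h1 h2 h3 h4 => ?_, fun ζ hζ => ?_⟩
  · rw [Set.indicator_apply_ne_zero] at h1
    obtain rfl : ξ = pullback.diagonal f (genericPoint X) := h1.1
    obtain ⟨x, rfl⟩ := hrange ζ h3
    unfold _root_.IntMult.extProd at h2
    split_ifs at h2 with hd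
    swap; · exact absurd rfl h2
    have e1 : pullback.fst f f (pullback.diagonal f x) = x := by
      show (pullback.diagonal f ≫ pullback.fst f f) x = x
      rw [pullback.diagonal_fst]; rfl
    have e2 : pullback.snd f f (pullback.diagonal f x) = x := by
      show (pullback.diagonal f ≫ pullback.snd f f) x = x
      rw [pullback.diagonal_snd]; rfl
    have := hprop _ _ x (left_ne_zero_of_mul (left_ne_zero_of_mul h2)) (right_ne_zero_of_mul (left_ne_zero_of_mul h2))
      ((h4.map (pullback.fst f f).continuous).trans (specializes_of_eq e1))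
      ((h4.map (pullback.snd f f).continuous).trans (specializes_of_eq e2))
    rw [delta_diag f hδ h₂, delta_diag f hδ h₂, hn]
    omega
  · obtain ⟨p, hp⟩ : ∃ p, _ ≠ (0 : ℤ) := by_contra fun h => hζ (finsum_eq_zero_of_forall_eq_zero fun p => not_not.1 (not_exists.1 h p))
    have h := left_ne_zero_of_mul (left_ne_zero_of_mul hp)
    rw [Set.indicator_apply_ne_zero] at h
    exact hrange _ ((specializes_of_eq h.1.symm).trans p.2.1)

include hX hP hδ h₂ in
theorem diag_value {n : ℤ} (hn : δ (genericPoint X) = n) (hnn : δ₂ (genericPoint ↥(pullback f f)) = n + n)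
    {r s : ℤ} (α β : AlgebraicCycle X ℤ) (hα : α ∈ Cyc.Zk X δ r) (hβ : β ∈ Cyc.Zk X δ s)
    (hprop : _root_.IntMult.IntersectProperly δ n ⇑α ⇑β) (x : X) :
    _root_.IntMult.interProd δ₂ (n + n) (Set.indicator {pullback.diagonal f (genericPoint X)} 1)
        (_root_.IntMult.extProd f f δ δ δ₂ ⇑α ⇑β) (pullback.diagonal f x) =
      _root_.IntMult.interProd δ n ⇑α ⇑β x := by
  classical
  haveI := hX.1
  haveI := hP.1
  have sq := IsPullback.of_hasPullback f f
  have hΔ := delta_diag f hδ h₂
  set Δ := pullback.diagonal f with hΔd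
  let Fg := (Coh.push Δ).obj (Coh.structureModule X)
  have hFg : Coh.IsCoh Fg := Groth.L16.CohClosedPush.isCoh_push Δ Groth.L16.CohClosedPush.isCoh_structure
  have hsupg : ∀ w : ↥(pullback f f), Nontrivial (Fg.presheaf.stalk w) → w ∈ Set.range Δ := fun w hw =>
    Groth.L16.CohClosedPush.support_push_subset Δ _
      (show w ∈ CohB1.support _ from not_subsingleton_iff_nontrivial.2 hw)
  have hbg : ∀ w : ↥(pullback f f), Nontrivial (Fg.presheaf.stalk w) → δ₂ w ≤ n := fun w hw => by
    obtain ⟨y, rfl⟩ := hsupg w hw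
    rw [hΔ]
    by_cases hy : genericPoint X = y
    · rw [← hy, hn]
    · exact hn ▸ (hX.2.2 _ _ (genericPoint_specializes y) hy).1.le
  have hcg : Cyc.sheafFun δ₂ n Fg = Set.indicator {Δ (genericPoint X)} 1 := by
    funext w
    unfold Cyc.sheafFun
    by_cases hw : w = Δ (genericPoint X)
    · subst hw
      rw [if_pos ((hΔ _).trans hn), Set.indicator_of_mem (Set.mem_singleton _)]
      show ((Groth.L16.CohSupport.len _ _).toNat : ℤ) = 1
      rw [Groth.L16.CohClosedPush.len_push_structure Δ]
      rfl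
    · rw [Set.indicator_of_notMem (by simpa using hw)]
      split_ifs with hd
      · rw [Module.length_eq_zero_iff.2 (not_nontrivial_iff_subsingleton.1 fun hne => ?_)]
        · rfl
        · obtain ⟨y, rfl⟩ := hsupg w hne
          have := (hX.2.2 _ y (genericPoint_specializes y) fun e => hw (e ▸ rfl)).1
          rw [hΔ] at hd
          omega
      · rfl
  have e1 : pullback.fst f f (Δ x) = x := by
    show (Δ ≫ pullback.fst f f) x = x
    rw [hΔd, pullback.diagonal_fst]; rfl
  have e2 : pullback.snd f f (Δ x) = x := by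
    show (Δ ≫ pullback.snd f f) x = x
    rw [hΔd, pullback.diagonal_snd]; rfl
  -- the product of two closed subvarieties
  haveI hci : ∀ ξ η : X, IsClosedImmersion (pullback.map ((_root_.IntMult.ptIdeal ξ).subschemeι ≫ f)
    ((_root_.IntMult.ptIdeal η).subschemeι ≫ f) f f (_root_.IntMult.ptIdeal ξ).subschemeι
    (_root_.IntMult.ptIdeal η).subschemeι (𝟙 _) (Category.comp_id _) (Category.comp_id _)) := fun ξ η =>
    MorphismProperty.pullbackMap (P := @IsClosedImmersion) (inferInstance : IsClosedImmersion _) (inferInstance : IsClosedImmersion _) rfl rfl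
  haveI hnoe : ∀ ξ η : X, IsLocallyNoetherian (pullback ((_root_.IntMult.ptIdeal ξ).subschemeι ≫ f)
    ((_root_.IntMult.ptIdeal η).subschemeι ≫ f)) := fun ξ η => LocallyOfFiniteType.isLocallyNoetherian (pullback.fst _ _ ≫ (_root_.IntMult.ptIdeal ξ).subschemeι ≫ f)
  let E : X → X → (pullback f f).Modules := fun ξ η => (Coh.push (pullback.map ((_root_.IntMult.ptIdeal ξ).subschemeι ≫ f)
    ((_root_.IntMult.ptIdeal η).subschemeι ≫ f) f f (_root_.IntMult.ptIdeal ξ).subschemeι
    (_root_.IntMult.ptIdeal η).subschemeι (𝟙 _) (Category.comp_id _) (Category.comp_id _))).obj (Coh.structureModule _)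
  have hE : ∀ ξ η, Coh.IsCoh (E ξ η) := fun ξ η =>
    Groth.L16.CohClosedPush.isCoh_push _ Groth.L16.CohClosedPush.isCoh_structure
  have hsupE : ∀ ξ η w, Nontrivial ((E ξ η).presheaf.stalk w) →
      ξ ⤳ pullback.fst f f w ∧ η ⤳ pullback.snd f f w := fun ξ η w hw => by
    have h := Groth.L16.CohClosedPush.support_push_subset _ _
      (show w ∈ CohB1.support _ from not_subsingleton_iff_nontrivial.2 hw)
    rw [Scheme.Pullback.range_map, Scheme.IdealSheafData.range_subschemeι,
      Scheme.IdealSheafData.range_subschemeι] at h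
    exact ⟨mem_support_ptIdeal.1 h.1, mem_support_ptIdeal.1 h.2⟩
  have hbX : ∀ ξ y : X, ξ ⤳ y → δ y ≤ δ ξ := fun ξ y h => by
    by_cases hh : ξ = y
    · rw [hh]
    · exact (hX.2.2 ξ y h hh).1.le
  have hle := le_prod sq hδ hδ h₂ hP.2.2
  have hbE : ∀ ξ η w, Nontrivial ((E ξ η).presheaf.stalk w) → δ₂ w ≤ δ ξ + δ η := fun ξ η w hw => by
    have := hle w
    have := hbX _ _ (hsupE ξ η w hw).1
    have := hbX _ _ (hsupE ξ η w hw).2
    omega
  have hcE : ∀ ξ η, Cyc.sheafFun δ₂ (δ ξ + δ η) (E ξ η) = _root_.IntMult.extProd f f δ δ δ₂ (ind ξ) (ind η) := by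
    intro ξ η
    funext w
    unfold Cyc.sheafFun _root_.IntMult.extProd ind
    by_cases hc : pullback.fst f f w = ξ ∧ pullback.snd f f w = η
    · obtain ⟨rfl, rfl⟩ := hc
      refine if_congr Iff.rfl ?_ rfl
      rw [if_pos rfl, if_pos rfl, mul_one, one_mul]
      obtain ⟨t, ht⟩ : w ∈ Set.range (pullback.map ((_root_.IntMult.ptIdeal (pullback.fst f f w)).subschemeι ≫ f)
          ((_root_.IntMult.ptIdeal (pullback.snd f f w)).subschemeι ≫ f) f f
          (_root_.IntMult.ptIdeal (pullback.fst f f w)).subschemeι (_root_.IntMult.ptIdeal (pullback.snd f f w)).subschemeι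
          (𝟙 _) (Category.comp_id _) (Category.comp_id _)) := by
        rw [Scheme.Pullback.range_map, Scheme.IdealSheafData.range_subschemeι, Scheme.IdealSheafData.range_subschemeι]
        exact ⟨mem_support_ptIdeal.2 specializes_rfl, mem_support_ptIdeal.2 specializes_rfl⟩
      haveI := hci (pullback.fst f f w) (pullback.snd f f w)
      haveI := hnoe (pullback.fst f f w) (pullback.snd f f w)
      obtain ⟨e⟩ := push_stalk_quot (pullback.map ((_root_.IntMult.ptIdeal (pullback.fst f f w)).subschemeι ≫ f)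
          ((_root_.IntMult.ptIdeal (pullback.snd f f w)).subschemeι ≫ f) f f
          (_root_.IntMult.ptIdeal (pullback.fst f f w)).subschemeι (_root_.IntMult.ptIdeal (pullback.snd f f w)).subschemeι
          (𝟙 _) (Category.comp_id _) (Category.comp_id _)) t
      rw [ht] at e
      rw [e.length_eq, stalkIdeal_prod_ker, stalkIdeal_ptIdeal_gen f hδ, stalkIdeal_ptIdeal_gen f hδ]
    · have hz : δ₂ w = δ ξ + δ η → Subsingleton ((E ξ η).presheaf.stalk w) := fun hd =>
        not_nontrivial_iff_subsingleton.1 fun hne => by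
          obtain ⟨g1, g2⟩ := hsupE ξ η w hne
          have := hle w
          have := hbX _ _ g1
          have := hbX _ _ g2
          rcases not_and_or.1 hc with h | h
          · have := (hX.2.2 _ _ g1 (Ne.symm h)).1
            omega
          · have := (hX.2.2 _ _ g2 (Ne.symm h)).1
            omega
      have h0 : ((if pullback.fst f f w = ξ then (1 : ℤ) else 0) * if pullback.snd f f w = η then (1 : ℤ) else 0) = 0 := by
        rcases not_and_or.1 hc with h | h <;> simp [h]
      rw [h0, zero_mul, ite_self]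
      split_ifs with hd
      · rw [Module.length_eq_zero_iff.2 (hz hd)]
        rfl
      · rfl
  set S := (finite_gen_cycle α x).toFinset with hSd
  set T := (finite_gen_cycle β x).toFinset with hTd
  have hlin : ∀ z : ↥(pullback f f), z ⤳ Δ x → _root_.IntMult.extProd f f δ δ δ₂ (⇑α) (⇑β) z =
      ∑ p ∈ S ×ˢ T, (α p.1 * β p.2) * _root_.IntMult.extProd f f δ δ δ₂ (ind p.1) (ind p.2) z := by
    intro z hz
    unfold _root_.IntMult.extProd
    split_ifs
    · rw [sum_ind (⇑α) S _ (fun h => (finite_gen_cycle α x).mem_toFinset.2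
          ⟨(hz.map (pullback.fst f f).continuous).trans (specializes_of_eq e1), h⟩),
        sum_ind (⇑β) T _ (fun h => (finite_gen_cycle β x).mem_toFinset.2
          ⟨(hz.map (pullback.snd f f).continuous).trans (specializes_of_eq e2), h⟩),
        Finset.sum_mul_sum, Finset.sum_mul, Finset.sum_product]
      refine Finset.sum_congr rfl fun a _ => ?_
      rw [Finset.sum_mul]
      exact Finset.sum_congr rfl fun b _ => by ring
    · simp
  rw [interProd_bilin δ₂ (n + n) (Δ x) (Finset.univ : Finset Unit) (S ×ˢ T) (fun _ => 1) (fun p => α p.1 * β p.2)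
    (fun _ => Set.indicator {Δ (genericPoint X)} 1)
    (fun p => _root_.IntMult.extProd f f δ δ δ₂ (ind p.1) (ind p.2)) _ _ (fun z _ => by simp) hlin
    (fun _ _ => (Set.finite_singleton (Δ (genericPoint X))).subset fun z h => by
      have h2 := h.2
      rw [Set.indicator_apply_ne_zero] at h2
      exact h2.1)
    (fun p _ => by
      rw [← hcE]
      exact finite_sheafFun_gen δ₂ hP.2.2 _ _ (hE p.1 p.2) (hbE p.1 p.2) _)]
  rw [Fintype.sum_unique, Finset.sum_product,
    interProd_expand δ n x (⇑α) (⇑β) S T (fun ξ h1 h2 => (finite_gen_cycle α x).mem_toFinset.2 ⟨h1, h2⟩)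
      (fun η h1 h2 => (finite_gen_cycle β x).mem_toFinset.2 ⟨h1, h2⟩)]
  refine Finset.sum_congr rfl fun ξ hξ => Finset.sum_congr rfl fun η hη => ?_
  rw [one_mul]
  refine congrArg (α ξ * β η * ·) ?_
  rw [hSd, Set.Finite.mem_toFinset] at hξ
  rw [hTd, Set.Finite.mem_toFinset] at hη
  rw [← hcE, ← hcg, (sheaf_formula (pullback.fst f f ≫ f) δ₂ h₂ hP (n + n) hnn Fg (E ξ η) hFg (hE ξ η) n
    (δ ξ + δ η) hbg (hbE ξ η) (fun w h1 h2 => by
      obtain ⟨y, rfl⟩ := hsupg w h1
      obtain ⟨g1, g2⟩ := hsupE ξ η _ h2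
      have ey1 : pullback.fst f f (Δ y) = y := by
        show (Δ ≫ pullback.fst f f) y = y
        rw [hΔd, pullback.diagonal_fst]; rfl
      have ey2 : pullback.snd f f (Δ y) = y := by
        show (Δ ≫ pullback.snd f f) y = y
        rw [hΔd, pullback.diagonal_snd]; rfl
      have := hprop ξ η y hξ.2 hη.2 (g1.trans (specializes_of_eq ey1)) (g2.trans (specializes_of_eq ey2))
      rw [hΔ]
      omega)).2 (Δ x), hΔ, pairMult]
  by_cases hd : δ x = δ ξ + δ η - n
  swap
  · rw [if_neg (by omega), if_neg fun h => hd h.2.2.symm]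
  rw [if_pos (by omega), if_pos ⟨hξ.1, hη.1, hd.symm⟩,
    mult_eq_mult_diag f (_root_.IntMult.ptIdeal ξ) (_root_.IntMult.ptIdeal η) x (mem_support_ptIdeal.2 hη.1),
    _root_.IntMult.mult]
  obtain ⟨t, ht⟩ : Δ x ∈ Set.range (pullback.map ((_root_.IntMult.ptIdeal ξ).subschemeι ≫ f)
      ((_root_.IntMult.ptIdeal η).subschemeι ≫ f) f f (_root_.IntMult.ptIdeal ξ).subschemeι
      (_root_.IntMult.ptIdeal η).subschemeι (𝟙 _) (Category.comp_id _) (Category.comp_id _)) := by
    rw [Scheme.Pullback.range_map, Scheme.IdealSheafData.range_subschemeι, Scheme.IdealSheafData.range_subschemeι]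
    refine ⟨mem_support_ptIdeal.2 ?_, mem_support_ptIdeal.2 ?_⟩
    · rw [e1]; exact hξ.1
    · rw [e2]; exact hη.1
  obtain ⟨eΔ⟩ := push_stalk_quot Δ x
  haveI := hci ξ η
  obtain ⟨eE⟩ := push_stalk_quot (pullback.map ((_root_.IntMult.ptIdeal ξ).subschemeι ≫ f)
      ((_root_.IntMult.ptIdeal η).subschemeι ≫ f) f f (_root_.IntMult.ptIdeal ξ).subschemeι
      (_root_.IntMult.ptIdeal η).subschemeι (𝟙 _) (Category.comp_id _) (Category.comp_id _)) t
  rw [ht] at eE
  exact chi_congr eΔ eE

end

end Groth.L22.IntMult
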