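import Groth.Agent.L22.IntMult.Acyclic
import Groth.Agent.S3537
import Groth.Agent.S4494
import Mathlib.RingTheory.TensorProduct.Quotient

/-!
Reduction of Tor to the diagonal: for a ring `C` with two maps from `A` and a common retraction `π`,
`Tor^A (A/P, A/Q)` has the lengths of `Tor^C (C/ker π, C/(P_L + Q_R))`.
-/

set_option autoImplicit false
set_option linter.style.haveILetI false
set_option backward.isDefEq.respectTransparency false

universe u

open CategoryTheory CategoryTheory.Limits MonoidalCategory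
open scoped TensorProduct

namespace Groth.L22.IntMult

/-- Lengths along a semilinear bijection whose target has no more submodules. -/
theorem length_eq_of_semilinear {R S : Type u} [CommRing R] [CommRing S] {σ : R →+* S} {M N : Type u}
    [AddCommGroup M] [Module R M] [AddCommGroup N] [Module S N] (φ : M →ₛₗ[σ] N)
    (hφ : Function.Bijective φ) (hsat : ∀ (s : S) (y : N), ∃ r : R, σ r • y = s • y) :
    Module.length R M = Module.length S N := by
  let e : Submodule R M ≃o Submodule S N :=
    { toFun := fun p =>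
        { carrier := φ '' p
          zero_mem' := ⟨0, p.zero_mem, map_zero φ⟩
          add_mem' := by
            rintro _ _ ⟨a, ha, rfl⟩ ⟨b, hb, rfl⟩
            exact ⟨a + b, p.add_mem ha hb, map_add φ a b⟩
          smul_mem' := by
            rintro s _ ⟨a, ha, rfl⟩
            obtain ⟨r, hr⟩ := hsat s (φ a)
            exact ⟨r • a, p.smul_mem r ha, (φ.map_smulₛₗ r a).trans hr⟩ }
      invFun := fun q =>
        { carrier := φ ⁻¹' q
          zero_mem' := by
            show φ 0 ∈ q
            rw [map_zero]; exact q.zero_mem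
          add_mem' := fun {a b} ha hb => by
            show φ (a + b) ∈ q
            rw [map_add]; exact q.add_mem ha hb
          smul_mem' := fun r a ha => by
            show φ (r • a) ∈ q
            rw [φ.map_smulₛₗ]; exact q.smul_mem _ ha }
      left_inv := fun p => SetLike.coe_injective (Set.preimage_image_eq _ hφ.1)
      right_inv := fun q => SetLike.coe_injective (Set.image_preimage_eq _ hφ.2)
      map_rel_iff' := fun {p q} => Set.image_subset_image_iff hφ.1 }
  have := Order.krullDim_eq_of_orderIso e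
  rw [← Module.coe_length, ← Module.coe_length] at this
  exact_mod_cast this

theorem length_tor_congr {A : Type u} [CommRing A] (i : ℕ) {M M' N N' : Type u} [AddCommGroup M] [Module A M]
    [AddCommGroup M'] [Module A M'] [AddCommGroup N] [Module A N] [AddCommGroup N'] [Module A N']
    (e : M ≃ₗ[A] M') (f : N ≃ₗ[A] N') :
    Module.length A (DRing.Tor A i M N) = Module.length A (DRing.Tor A i M' N') :=
  ((((CategoryTheory.Tor (ModuleCat.{u} A) i).mapIso e.toModuleIso).app (ModuleCat.of A N)) ≪≫
    (((CategoryTheory.Tor (ModuleCat.{u} A) i).obj (ModuleCat.of A M')).mapIso f.toModuleIso)).toLinearEquiv.length_eq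

theorem subsingleton_tor_of_flat_right {A : Type u} [CommRing A] (M N : Type u) [AddCommGroup M] [Module A M]
    [AddCommGroup N] [Module A N] [Module.Flat A N] (q : ℕ) (hq : 0 < q) :
    Subsingleton (DRing.Tor A q M N) := by
  obtain ⟨j, rfl⟩ := Nat.exists_eq_add_of_le' hq
  haveI : Module.Flat A (ModuleCat.of A N) := inferInstanceAs (Module.Flat A N)
  exact ModuleCat.subsingleton_of_isZero
    (Groth.L28.TorFacts.isZero_of_flat_right (ModuleCat.of A M) (ModuleCat.of A N) j)

theorem subsingleton_tor_of_flat_left {A : Type u} [CommRing A] (M N : Type u) [AddCommGroup M] [Module A M]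
    [AddCommGroup N] [Module A N] [Module.Flat A M] (q : ℕ) (hq : 0 < q) :
    Subsingleton (DRing.Tor A q M N) := by
  obtain ⟨e⟩ := Groth.Agent.S6316.result A q
  haveI := subsingleton_tor_of_flat_right (A := A) N M q hq
  exact @Function.Injective.subsingleton _ _ _
    ((e.app (ModuleCat.of A M)).app (ModuleCat.of A N)).toLinearEquiv.injective
    (subsingleton_tor_of_flat_right (A := A) N M q hq)

variable {A C : Type u} [CommRing A] [CommRing C] (iL iR : A →+* C) (π : C →+* A)

/-- The diagonal is Tor-independent from a second factor. -/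
theorem subsingleton_tor_diag (hR : iR.Flat) (hπR : ∀ a, π (iR a) = a) (Q : Ideal A) (q : ℕ) (hq : 0 < q) :
    Subsingleton (DRing.Tor C q (C ⧸ RingHom.ker π) (C ⧸ Q.map iR)) := by
  letI := iR.toAlgebra
  haveI : Module.Flat A C := hR
  let g : A →ₗ[A] C ⧸ RingHom.ker π := ((Ideal.Quotient.mkₐ A (RingHom.ker π)).comp (Algebra.ofId A C)).toLinearMap
  have hg : Function.Bijective g := by
    refine ⟨fun a b h => ?_, fun c => ?_⟩
    · have h' : iR a - iR b ∈ RingHom.ker π := Ideal.Quotient.eq.1 h
      rw [RingHom.mem_ker, map_sub, hπR, hπR, sub_eq_zero] at h'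
      exact h'
    · obtain ⟨c, rfl⟩ := Ideal.Quotient.mk_surjective c
      exact ⟨π c, Ideal.Quotient.eq.2 (RingHom.mem_ker.2 (by rw [map_sub]; exact sub_eq_zero.2 (hπR _)))⟩
  haveI : Module.Flat A (C ⧸ RingHom.ker π) := Module.Flat.of_linearEquiv (LinearEquiv.ofBijective g hg).symm
  obtain ⟨φ, hφ⟩ := Groth.Agent.S4494.result A C (C ⧸ RingHom.ker π) (A ⧸ Q) q
  haveI := subsingleton_tor_of_flat_left (C ⧸ RingHom.ker π) (A ⧸ Q) (A := A) q hq
  haveI : Subsingleton (DRing.Tor C q (C ⧸ RingHom.ker π) (C ⊗[A] (A ⧸ Q))) := hφ.2.subsingleton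
  exact ((((CategoryTheory.Tor (ModuleCat.{u} C) q).obj (ModuleCat.of C (C ⧸ RingHom.ker π))).mapIso
    (Algebra.TensorProduct.quotIdealMapEquivTensorQuot C Q).toLinearEquiv.toModuleIso).toLinearEquiv).injective.subsingleton

/-- Reduction to the diagonal. -/
theorem length_tor_diag (P Q : Ideal A) (hπL : ∀ a, π (iL a) = a) (hπR : ∀ a, π (iR a) = a) (hR : iR.Flat)
    (hL : ((Ideal.Quotient.mk (Q.map iR)).comp iL).Flat) (n : ℕ) :
    Module.length A (DRing.Tor A n (A ⧸ P) (A ⧸ Q)) =
      Module.length C (DRing.Tor C n (C ⧸ RingHom.ker π) (C ⧸ (P.map iL ⊔ Q.map iR))) := by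
  let X := Q.map iR
  let B := C ⧸ X
  letI : Algebra A B := ((Ideal.Quotient.mk X).comp iL).toAlgebra
  haveI : Module.Flat A B := hL
  let K : Ideal B := (RingHom.ker π).map (algebraMap C B)
  let PB : Ideal B := P.map (algebraMap A B)
  -- `B/K` is `A/Q`
  let g : A →ₗ[A] B ⧸ K := ((Ideal.Quotient.mkₐ A K).comp (Algebra.ofId A B)).toLinearMap
  have hgs : Function.Surjective g := by
    intro b
    obtain ⟨b, rfl⟩ := Ideal.Quotient.mk_surjective b
    obtain ⟨c, rfl⟩ := Ideal.Quotient.mk_surjective b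
    refine ⟨π c, Ideal.Quotient.eq.2 ?_⟩
    show Ideal.Quotient.mk X (iL (π c)) - Ideal.Quotient.mk X c ∈ K
    rw [← map_sub]
    exact Ideal.mem_map_of_mem _ (RingHom.mem_ker.2 (by rw [map_sub, hπL, sub_self]))
  have hgk : LinearMap.ker g = Q := by
    ext a
    rw [LinearMap.mem_ker]
    show Ideal.Quotient.mk K (Ideal.Quotient.mk X (iL a)) = 0 ↔ _
    rw [Ideal.Quotient.eq_zero_iff_mem]
    rw [show K = (RingHom.ker π).map (Ideal.Quotient.mk X) from rfl, ← Ideal.mem_comap,
      Ideal.comap_map_of_surjective _ Ideal.Quotient.mk_surjective, ← RingHom.ker_eq_comap_bot, Ideal.mk_ker]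
    constructor
    · intro h
      obtain ⟨j, hj, x, hx, hjx⟩ := Submodule.mem_sup.1 h
      have h2 := congrArg π hjx
      rw [map_add, RingHom.mem_ker.1 hj, zero_add, hπL] at h2
      rw [← h2]
      have hmap : X.map π ≤ Q := by
        rw [Ideal.map_map, show π.comp iR = RingHom.id A from RingHom.ext hπR, Ideal.map_id]
      exact hmap (Ideal.mem_map_of_mem π hx)
    · intro ha
      have h1 : iL a - iR a ∈ RingHom.ker π := RingHom.mem_ker.2 (by rw [map_sub, hπL, hπR, sub_self])
      rw [← sub_add_cancel (iL a) (iR a)]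
      exact Submodule.add_mem_sup h1 (Ideal.mem_map_of_mem _ ha)
  let eQ : (A ⧸ Q) ≃ₗ[A] B ⧸ K := (Submodule.quotEquivOfEq _ _ hgk.symm).trans (g.quotKerEquivOfSurjective hgs)
  -- first leg
  obtain ⟨φ, hφ⟩ := Groth.Agent.S3537.result A B (A ⧸ P) (B ⧸ K)
    (fun q hq => subsingleton_tor_of_flat_right _ _ q hq) n
  rw [length_tor_congr n (LinearEquiv.refl A (A ⧸ P)) eQ, length_eq_of_semilinear φ hφ fun b z => ?_]
  rotate_left
  · obtain ⟨r, hr⟩ := hgs (Ideal.Quotient.mk K b)
    refine ⟨r, sub_eq_zero.1 ?_⟩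
    rw [← sub_smul]
    refine smul_tor_eq_zero' n _ _ (fun m => ?_) z
    obtain ⟨m, rfl⟩ := Ideal.Quotient.mk_surjective m
    show Ideal.Quotient.mk K ((algebraMap A B r - b) * m) = 0
    exact Ideal.Quotient.eq_zero_iff_mem.2 (Ideal.mul_mem_right _ _ (Ideal.Quotient.eq.1 hr))
  -- second leg
  obtain ⟨ψ, hψ⟩ := Groth.Agent.S3537.result C B (C ⧸ RingHom.ker π) (B ⧸ PB)
    (fun q hq => subsingleton_tor_diag iR π hR hπR Q q hq) n
  have hR0 : P.map iL ⊔ X = X ⊔ P.map iL := sup_comm _ _
  have hPB : (P.map iL).map (Ideal.Quotient.mkₐ C X) = PB := by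
    rw [show PB = P.map ((Ideal.Quotient.mk X).comp iL) from rfl, ← Ideal.map_map]
    rfl
  rw [length_tor_congr n (LinearEquiv.refl C (C ⧸ RingHom.ker π))
    (((Ideal.quotientEquivAlgOfEq C hR0).trans ((DoubleQuot.quotQuotEquivQuotSupₐ C X (P.map iL)).symm.trans
      (Ideal.quotientEquivAlgOfEq C hPB))).toLinearEquiv),
    length_eq_of_semilinear ψ hψ fun b z => (Ideal.Quotient.mk_surjective b).imp fun c hc => by
      rw [show algebraMap C B c = Ideal.Quotient.mk X c from rfl, hc]]
  rw [length_tor_comm]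
  exact length_tor_congr n
    (Algebra.TensorProduct.quotIdealMapEquivTensorQuot B (RingHom.ker π)).toLinearEquiv
    (Algebra.TensorProduct.quotIdealMapEquivTensorQuot B P).toLinearEquiv.symm

end Groth.L22.IntMult
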