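import Groth.Agent.L22.IntMult.DiagDim
import Groth.Agent.L22.IntMult.Stalk
import Groth.Agent.L22.Cyc.Mult
import Groth.Agent.L22.Chern.Ops
import Groth.Agent.S1919

/-!
A flat morphism of varieties shifts dimensions by the difference of the dimensions.
-/

set_option autoImplicit false
set_option linter.style.haveILetI false
set_option backward.isDefEq.respectTransparency false

universe u

open CategoryTheory CategoryTheory.Limits AlgebraicGeometry IsLocalRing

namespace Groth.L22.IntMult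

theorem dim_fibre {X Y : Scheme.{u}} [IsLocallyNoetherian X] (f : X ⟶ Y) {x : X}
    (h : Groth.L22.Cyc.FibGen f x) :
    ringKrullDim (X.presheaf.stalk x ⧸ Groth.L22.Cyc.fibIdeal f x) = 0 := by
  haveI : IsFiniteLength (X.presheaf.stalk x) (X.presheaf.stalk x ⧸ Groth.L22.Cyc.fibIdeal f x) :=
    Module.length_ne_top_iff.mp ((Groth.L22.Cyc.fibGen_iff f x).1 h)
  haveI hart := (isFiniteLength_iff_isNoetherian_isArtinian.mp this).2
  haveI : IsArtinianRing (X.presheaf.stalk x ⧸ Groth.L22.Cyc.fibIdeal f x) := isArtinian_of_tower _ hart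
  haveI : Nontrivial (X.presheaf.stalk x ⧸ Groth.L22.Cyc.fibIdeal f x) := Ideal.Quotient.nontrivial_iff.2
    (ne_top_of_le_ne_top (IsLocalRing.maximalIdeal.isMaximal _).ne_top (Groth.L22.Cyc.fibIdeal_le f x))
  exact ringKrullDimZero_iff_ringKrullDim_eq_zero.1 inferInstance

variable {K : Type u} [Field K] {X Y : Scheme.{u}} (f : X ⟶ Y) [Flat f]
  (gX : X ⟶ Spec (CommRingCat.of K)) (gY : Y ⟶ Spec (CommRingCat.of K))
  [LocallyOfFiniteType gX] [IsIntegral X] [LocallyOfFiniteType gY] [IsIntegral Y] {δX : X → ℤ} {δY : Y → ℤ}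

include gX gY in
theorem shift_flat (hδX : Cyc.DeltaCompat gX δX (fun _ => 0)) (hδY : Cyc.DeltaCompat gY δY (fun _ => 0)) :
    Groth.L22.Chern.Shift f δX δY (δX (genericPoint X) - δY (genericPoint Y)) := by
  intro x hx
  haveI := LocallyOfFiniteType.isLocallyNoetherian gX
  haveI := LocallyOfFiniteType.isLocallyNoetherian gY
  obtain ⟨N, b, z, hN, hb, hz, hbz⟩ := dim_stalk_add_closure K gX x
  obtain ⟨M, c, w, hM, hc, hw, hcw⟩ := dim_stalk_add_closure K gY (f x)
  obtain ⟨t, ht, hxt⟩ := Groth.Agent.S1919.delta_eq_dim K X gX δX hδX x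
  obtain ⟨s, hs, hys⟩ := Groth.Agent.S1919.delta_eq_dim K Y gY δY hδY (f x)
  obtain ⟨N', hN', hgN⟩ := Groth.Agent.S1919.delta_eq_dim K X gX δX hδX (genericPoint X)
  obtain ⟨M', hM', hgM⟩ := Groth.Agent.S1919.delta_eq_dim K Y gY δY hδY (genericPoint Y)
  rw [show closure ({genericPoint X} : Set X) = Set.univ from genericPoint_spec X,
    IsHomeomorph.topologicalKrullDim_eq _ (Homeomorph.Set.univ X).isHomeomorph] at hN'
  rw [show closure ({genericPoint Y} : Set Y) = Set.univ from genericPoint_spec Y,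
    IsHomeomorph.topologicalKrullDim_eq _ (Homeomorph.Set.univ Y).isHomeomorph] at hM'
  have e1 : N' = N := by exact_mod_cast hN'.symm.trans hN
  have e2 : M' = M := by exact_mod_cast hM'.symm.trans hM
  have e3 : t = z := by exact_mod_cast ht.symm.trans hz
  have e4 : s = w := by exact_mod_cast hs.symm.trans hw
  have hfl : ((Ideal.Quotient.mk (⊥ : Ideal (X.presheaf.stalk x))).comp (f.stalkMap x).hom).Flat :=
    RingHom.Flat.comp (Flat.stalkMap f x)
      (RingHom.Flat.of_bijective ⟨(injective_iff_map_eq_zero _).2 fun a ha =>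
        Ideal.Quotient.eq_zero_iff_mem.1 ha, Ideal.Quotient.mk_surjective⟩)
  have h := dim_quot_flat (f.stalkMap x).hom (Groth.L22.Cyc.fibIdeal_le f x) ⊥ bot_le hfl ⊥ bot_le
  rw [Ideal.map_bot, bot_sup_eq, bot_sup_eq, ringKrullDim_eq_of_ringEquiv (RingEquiv.quotientBot (X.presheaf.stalk x)),
    ringKrullDim_eq_of_ringEquiv (RingEquiv.quotientBot (Y.presheaf.stalk (f x))), hb, hc] at h
  have h0 := dim_fibre f hx
  rw [Groth.L22.Cyc.fibIdeal] at h0
  rw [h0, add_zero] at h
  have e5 : b = c := by exact_mod_cast h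
  omega

end Groth.L22.IntMult
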