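import Groth.Agent.L22.IntMult.FlatTor
import Groth.Agent.L22.IntMult.FlatShift
import Groth.Agent.L22.SubBundle.Ops
import Groth.Agent.L22.Bundle.Indep
import Groth.Agent.S6477

/-!
The intersection of a closed subscheme flat over the base of a smooth projection with a pulled back cycle.
-/

set_option autoImplicit false
set_option linter.style.haveILetI false
set_option backward.isDefEq.respectTransparency false

universe u

open CategoryTheory CategoryTheory.Limits AlgebraicGeometry IsLocalRing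
open Groth.L22.Chern (pushC Shift)

noncomputable section

namespace Groth.L22.IntMult

variable {K : Type u} [Field K] {X Y W : Scheme.{u}} (gX : X ⟶ Spec (CommRingCat.of K))
  (gY : Y ⟶ Spec (CommRingCat.of K)) (gW : W ⟶ Spec (CommRingCat.of K))
  [LocallyOfFiniteType gX] [IsIntegral X] [LocallyOfFiniteType gY] [IsIntegral Y]
  [Smooth gW] [IsSeparated gW] [QuasiCompact gW] [IsIntegral W]
  {δX : X → ℤ} {δY : Y → ℤ} {δW : W → ℤ}

include gX gY gW in
theorem graph_formula (g : X ⟶ W) [IsClosedImmersion g] (hg : g ≫ gW = gX) (p : W ⟶ Y) [Flat p] (f : X ⟶ Y) [Flat f]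
    (hf : g ≫ p = f) (hX : Cyc.IsSetup X δX) (hY : Cyc.IsSetup Y δY) (hW : Cyc.IsSetup W δW)
    (hδX : Cyc.DeltaCompat gX δX (fun _ => 0)) (hδY : Cyc.DeltaCompat gY δY (fun _ => 0))
    (hδW : Cyc.DeltaCompat gW δW (fun _ => 0)) {dX dY dW : ℤ} (hdX : δX (genericPoint X) = dX)
    (hdY : δY (genericPoint Y) = dY) (hdW : δW (genericPoint W) = dW) (γ : W → ℤ)
    (hγ : γ = Set.indicator {g (genericPoint X)} 1) (α : AlgebraicCycle Y ℤ) (k : ℤ) (hα : α ∈ Cyc.Zk Y δY k)
    (αX : AlgebraicCycle X ℤ) (hαX : ⇑αX = Cyc.pullFun f δX δY (dX - dY) ⇑α) :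
    haveI := hX.1
    haveI := hW.1
    _root_.IntMult.IntersectProperly δW dW γ (Cyc.pullFun p δW δY (dW - dY) ⇑α) ∧
      _root_.IntMult.interProd δW dW γ (Cyc.pullFun p δW δY (dW - dY) ⇑α) = ⇑(pushC g δX δW αX) := by
  subst hf
  haveI := hX.1
  haveI := hY.1
  haveI := hW.1
  have he : ∀ x, δW (g x) = δX x := fun x => by
    have h1 := Groth.L22.Bundle.deltaCompat_comp g gW hδW
    rw [hg] at h1
    obtain ⟨n, hn, e⟩ := h1 x
    obtain ⟨m, hm, e'⟩ := hδX x
    have hnm : n = m := by exact_mod_cast hn.symm.trans hm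
    show δW (g x) = _
    rw [e', ← hnm]
    exact e
  have hsp : Shift p δW δY (dW - dY) := hdW ▸ hdY ▸ shift_flat p gW gY hδW hδY
  have hsf : Shift (g ≫ p) δX δY (dX - dY) := hdX ▸ hdY ▸ shift_flat (g ≫ p) gX gY hδX hδY
  have hlep : ∀ w, δW w ≤ δY (p w) + (dW - dY) := fun w => Groth.L22.Cyc.le_shift (p := p) hW.2.2 hsp w
  have hlef : ∀ x, δX x ≤ δY (p (g x)) + (dX - dY) := fun x => Groth.L22.Cyc.le_shift (p := g ≫ p) hX.2.2 hsf x
  have hne : ∀ (a : Y → ℤ) (w : W), Cyc.pullFun p δW δY (dW - dY) a w ≠ 0 →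
      δW w = δY (p w) + (dW - dY) ∧ a (p w) ≠ 0 := by
    intro a w h
    unfold Cyc.pullFun at h
    split_ifs at h with h1
    · exact ⟨h1, left_ne_zero_of_mul h⟩
    · exact absurd rfl h
  have hγ0 : δW (g (genericPoint X)) = dX := (he _).trans hdX
  have hrange : ∀ w : W, g (genericPoint X) ⤳ w → w ∈ Set.range g := fun w h =>
    g.isClosedEmbedding.isClosed_range.stableUnderSpecialization h ⟨_, rfl⟩
  refine ⟨fun ξ η ζ h1 h2 h3 h4 => ?_, ?_⟩
  · rw [hγ, Set.indicator_apply_ne_zero] at h1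
    obtain rfl : ξ = g (genericPoint X) := h1.1
    obtain ⟨e2, a2⟩ := hne _ _ h2
    obtain ⟨x, rfl⟩ := hrange ζ h3
    have hk : δY (p η) = k := by_contra fun hc => a2 (hα _ hc)
    have hy : δY (p (g x)) ≤ k := by
      by_cases hh : p η = p (g x)
      · rw [← hh, hk]
      · exact hk ▸ (hY.2.2 _ _ (h4.map p.continuous) hh).1.le
    have := hlef x
    rw [he]
    omega
  funext ζ
  classical
  let Fg := (Coh.push g).obj (Coh.structureModule X)
  have hFg : Coh.IsCoh Fg := Groth.L16.CohClosedPush.isCoh_push g Groth.L16.CohClosedPush.isCoh_structure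
  have hsupg : ∀ w : W, Nontrivial (Fg.presheaf.stalk w) → w ∈ Set.range g := fun w hw =>
    Groth.L16.CohClosedPush.support_push_subset g _
      (show w ∈ CohB1.support _ from not_subsingleton_iff_nontrivial.2 hw)
  have hbg : ∀ w : W, Nontrivial (Fg.presheaf.stalk w) → δW w ≤ dX := fun w hw => by
    obtain ⟨x, rfl⟩ := hsupg w hw
    rw [he]
    by_cases hx : genericPoint X = x
    · rw [← hx, hdX]
    · exact hdX ▸ (hX.2.2 _ _ (genericPoint_specializes x) hx).1.le
  have hcg : Cyc.sheafFun δW dX Fg = ind (g (genericPoint X)) := by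
    funext w
    unfold Cyc.sheafFun ind
    by_cases hw : w = g (genericPoint X)
    · subst hw
      rw [if_pos hγ0, if_pos rfl]
      show ((Groth.L16.CohSupport.len _ _).toNat : ℤ) = 1
      rw [Groth.L16.CohClosedPush.len_push_structure g]
      rfl
    · rw [if_neg hw]
      split_ifs with hd
      · rw [Module.length_eq_zero_iff.2 (not_nontrivial_iff_subsingleton.1 fun hn => ?_)]
        · rfl
        · obtain ⟨x, rfl⟩ := hsupg w hn
          have := (hX.2.2 _ x (genericPoint_specializes x) fun e => hw (e ▸ rfl)).1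
          rw [he] at hd
          omega
      · rfl
  have hγ' : γ = ind (g (genericPoint X)) := by
    rw [hγ]
    funext w
    unfold ind
    by_cases hw : w = g (genericPoint X) <;> simp [hw]
  choose F hF hsup hfun using fun ξ : Y => exists_module δY hY.2.2 ξ
  have hbd : ∀ ξ y : Y, Nontrivial ((F ξ).presheaf.stalk y) → δY y ≤ δY ξ := fun ξ y h => by
    by_cases hh : ξ = y
    · rw [hh]
    · exact (hY.2.2 ξ y (hsup ξ y h) hh).1.le
  have hP := fun ξ => Groth.Agent.S6477.result Y W p δY δW hY hW (dW - dY) hsp (δY ξ) (F ξ) (hF ξ) (hbd ξ)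
  have hQ := fun ξ => Groth.Agent.S6477.result Y X (g ≫ p) δY δX hY hX (dX - dY) hsf (δY ξ) (F ξ) (hF ξ) (hbd ξ)
  have hpull : ∀ ξ : Y, Cyc.pullFun p δW δY (dW - dY) (ind ξ) =
      Cyc.sheafFun δW (δY ξ + (dW - dY)) ((Scheme.Modules.pullback p).obj (F ξ)) := fun ξ => by
    rw [← hfun ξ]; exact (hP ξ).2
  set S := (finite_gen_cycle α (p ζ)).toFinset with hSd
  have hlin : ∀ z : W, z ⤳ ζ → Cyc.pullFun p δW δY (dW - dY) (⇑α) z =
      ∑ ξ ∈ S, α ξ * Cyc.pullFun p δW δY (dW - dY) (ind ξ) z := by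
    intro z hz
    unfold Cyc.pullFun
    split_ifs
    · rw [sum_ind (⇑α) S (p z) (fun h => (Set.Finite.mem_toFinset _).2 ⟨hz.map p.continuous, h⟩), Finset.sum_mul]
      exact Finset.sum_congr rfl fun ξ _ => mul_assoc _ _ _
    · simp
  rw [interProd_bilin δW dW ζ (Finset.univ : Finset Unit) S (fun _ => 1) (⇑α) (fun _ => γ)
    (fun ξ => Cyc.pullFun p δW δY (dW - dY) (ind ξ)) _ _ (fun z _ => by simp) hlin
    (fun _ _ => (Set.finite_singleton (g (genericPoint X))).subset fun z h => by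
      have h2 := h.2
      rw [hγ, Set.indicator_apply_ne_zero] at h2
      exact h2.1)
    (fun ξ _ => by
      rw [hpull ξ]
      haveI : Coh.IsQCoh (F ξ) := (hF ξ).1
      exact finite_sheafFun_gen δW hW.2.2 _ _ (Groth.L16.AffineBC.isCoh_pullback p (hF ξ)) (hP ξ).1 ζ)]
  rw [Fintype.sum_unique]
  have hterm : ∀ ξ ∈ S, _root_.IntMult.interProd δW dW γ (Cyc.pullFun p δW δY (dW - dY) (ind ξ)) ζ =
      if δW ζ = dX + (δY ξ + (dW - dY)) - dW then
        _root_.IntMult.chi (W.presheaf.stalk ζ) (Fg.presheaf.stalk ζ)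
          (((Scheme.Modules.pullback p).obj (F ξ)).presheaf.stalk ζ)
      else 0 := by
    intro ξ hξ
    rw [hSd, Set.Finite.mem_toFinset] at hξ
    have hk : δY ξ = k := by_contra fun hc => hξ.2 (hα _ hc)
    haveI : Coh.IsQCoh (F ξ) := (hF ξ).1
    rw [hpull ξ, hγ', ← hcg]
    refine (sheaf_formula gW δW hδW hW dW hdW Fg _ hFg (Groth.L16.AffineBC.isCoh_pullback p (hF ξ)) dX
      (δY ξ + (dW - dY)) hbg (hP ξ).1 (fun w h1 h2 => ?_)).2 ζ
    obtain ⟨x, rfl⟩ := hsupg w h1
    have h3 : δY (p (g x)) ≤ δY ξ := by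
      refine hbd ξ _ ?_
      by_contra h0
      haveI := not_nontrivial_iff_subsingleton.1 h0
      letI : Algebra (Y.presheaf.stalk (p (g x))) (W.presheaf.stalk (g x)) := (p.stalkMap (g x)).hom.toAlgebra
      let eH : ((Scheme.Modules.pullback p).obj (F ξ)).presheaf.stalk (g x) ≃ₗ[W.presheaf.stalk (g x)]
          TensorProduct (Y.presheaf.stalk (p (g x))) (W.presheaf.stalk (g x)) ((F ξ).presheaf.stalk (p (g x))) :=
        ((Groth.L00.PullStalk.stalkIso p (g x)).app (F ξ)).toLinearEquiv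
      haveI : Subsingleton (TensorProduct (Y.presheaf.stalk (p (g x))) (W.presheaf.stalk (g x))
          ((F ξ).presheaf.stalk (p (g x)))) := subsingleton_of_forall_eq 0 fun z => by
        induction z using TensorProduct.induction_on with
        | zero => rfl
        | tmul a b => rw [Subsingleton.elim b 0, TensorProduct.tmul_zero]
        | add a b ha hb => rw [ha, hb, add_zero]
      exact not_subsingleton_iff_nontrivial.2 h2 eH.injective.subsingleton
    have := hlef x
    rw [he]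
    omega
  rw [Finset.sum_congr rfl fun ξ hξ => by rw [hterm ξ hξ, one_mul]]
  by_cases hζ : ζ ∈ Set.range g
  swap
  · have hz : Subsingleton (Fg.presheaf.stalk ζ) :=
      not_nontrivial_iff_subsingleton.1 fun hn => hζ (hsupg ζ hn)
    rw [Finset.sum_eq_zero fun ξ _ => by rw [chi_eq_zero_of_subsingleton _ _ (Or.inl hz)]; simp]
    by_contra h
    exact hζ (Groth.L22.C1.mem_range_of_map_ne_zero g δW αX (by
      have he' : (fun x => δW (g x)) = δX := funext he
      rw [he']
      exact fun h0 => h h0.symm))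
  obtain ⟨x, rfl⟩ := hζ
  have hpush : pushC g δX δW αX (g x) = αX x := by
    rw [← show (fun x => δW (g x)) = δX from funext he]
    exact Groth.L22.SubBundle.pushC_apply_closed g δW αX x
  rw [hpush, hαX]
  have hlin' : Cyc.pullFun (g ≫ p) δX δY (dX - dY) (⇑α) x =
      ∑ ξ ∈ S, α ξ * Cyc.pullFun (g ≫ p) δX δY (dX - dY) (ind ξ) x := by
    unfold Cyc.pullFun
    split_ifs
    · rw [sum_ind (⇑α) S ((g ≫ p) x) (fun h => (Set.Finite.mem_toFinset _).2 ⟨specializes_rfl, h⟩),
        Finset.sum_mul]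
      exact Finset.sum_congr rfl fun ξ _ => mul_assoc _ _ _
    · simp
  rw [hlin']
  refine Finset.sum_congr rfl fun ξ _ => congrArg (α ξ * ·) ?_
  rw [← hfun ξ, (hQ ξ).2, he, Cyc.sheafFun]
  exact if_congr (by omega) (chi_flat_sheaf g p (F ξ) x) rfl

end Groth.L22.IntMult
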