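import Groth.Agent.L22.IntMult.P1Value

/-!
Products with the sections at zero and infinity of `P¹_X` and the first Chern class of `O(1)`.
-/

set_option autoImplicit false
set_option linter.style.haveILetI false
set_option backward.isDefEq.respectTransparency false

universe u

open CategoryTheory CategoryTheory.Limits AlgebraicGeometry IsLocalRing Groth.L22.C1 Groth.L22.QuotLength
open scoped TensorProduct Pointwise

noncomputable section

namespace Groth.L22.IntMult.P1F

/-- `χ` of a hypersurface against a module on which the equation is regular. -/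
theorem chi_hyper {A : Type u} [CommRing A] [IsRegularLocalRing A] {g : A} (hgA : IsSMulRegular A g)
    (T : Type u) [AddCommGroup T] [Module A T] [Module.Finite A T] (hgT : IsSMulRegular T g)
    (h : Meet (A := A) (A ⧸ LinearMap.range (sx g A)) T) :
    _root_.IntMult.chi A (A ⧸ LinearMap.range (sx g A)) T =
      ((Module.length A (T ⧸ LinearMap.range (sx g T))).toNat : ℤ) := by
  haveI hs : Subsingleton (LinearMap.ker (sx g T)) := by rw [ker_sx hgT]; infer_instance
  rw [cut hgA T h, eps, chi_self_left, chi_self_left,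
    show Module.length A (LinearMap.ker (sx g T)) = 0 from Module.length_eq_zero]
  simp

variable {P : Scheme.{u}} {K : Type u} [Field K] (fP : P ⟶ Spec (CommRingCat.of K)) [Smooth fP] [IsSeparated fP]
  [QuasiCompact fP] [IsIntegral P] (δP : P → ℤ) (hP : Cyc.IsSetup P δP)
  (hδP : Cyc.DeltaCompat fP δP (fun _ => 0)) (n : ℤ) (hn : δP (genericPoint P) = n)
  (δ' : ↥(CohB1.ProjSpaceOver 1 P) → ℤ) (hP' : Cyc.IsSetup (CohB1.ProjSpaceOver 1 P) δ')
  (hδ' : Cyc.DeltaCompat (CohB1.ProjSpaceOver.toBase 1 P) δ' δP)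

include fP hP hδP hn hP' hδ' in
theorem interProd_sect_eq_c1Cap (j : Fin (1 + 1)) {L : (CohB1.ProjSpaceOver 1 P).Modules}
    (hL : PicF.IsInvertible L) (σ : L.presheaf.obj (Opposite.op ⊤)) (hD : Cyc.IsZeroSchemeOf (P1.sect P j) L σ)
    (w : (ξ : ↥(CohB1.ProjSpaceOver 1 P)) → Cyc.secFibre L ξ) (α : ↥(CohB1.ProjSpaceOver 1 P) → ℤ)
    (hα : _root_.IntMult.IntersectProperly δ' (n + 1) α (Set.indicator {P1.sect P j (genericPoint P)} 1))
    (y : ↥(CohB1.ProjSpaceOver 1 P)) :
    _root_.IntMult.interProd δ' (n + 1) α (Set.indicator {P1.sect P j (genericPoint P)} 1) y =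
      Cyc.c1CapFun δ' L α (Cyc.gysinChoice L σ w) y := by
  classical
  haveI hs : IsClosedImmersion (P1.sect P j) := isClosedImmersion_sect P j
  haveI := hP'.1
  haveI hsm : Smooth (CohB1.ProjSpaceOver.toBase 1 P) := Groth.L16.ProjSpace.smooth_toBase (n := 1) (S := P)
  let q := CohB1.ProjSpaceOver.toBase 1 P ≫ fP
  have hd := delta_sect' P δP δ' hδ' j
  have hd0 : δ' (P1.sect P j (genericPoint P)) = n := by rw [hd, hn]
  by_cases hy : y ∈ Set.range (P1.sect P j)
  swap
  · rw [show Cyc.c1CapFun δ' L α (Cyc.gysinChoice L σ w) y = 0 from finsum_eq_zero_of_forall_eq_zero fun ξ => by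
      rw [secDivFun_gysin_eq_zero σ (P1.sect P j) hP'.2.2 hL hD w ξ hy, mul_zero]]
    refine finsum_eq_zero_of_forall_eq_zero fun p => ?_
    by_cases h2 : p.1.2 = P1.sect P j (genericPoint P)
    · exact absurd (h2 ▸ p.2.2.1 : P1.sect P j (genericPoint P) ⤳ y) fun h =>
        hy (h.mem_closed (P1.sect P j).isClosedEmbedding.isClosed_range ⟨_, rfl⟩)
    · simp [h2]
  obtain ⟨u, rfl⟩ := hy
  set y := P1.sect P j u with hyd
  let A := (CohB1.ProjSpaceOver 1 P).presheaf.stalk y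
  haveI : IsRegularLocalRing A := Groth.L21.Smooth.regular_stalk q y
  haveI : IsDomain A := Groth.L01.isDomain_of_regular A
  obtain ⟨t, f, ht, hf, hker⟩ := hD.2 u
  have hgen : IsGen L t := ht
  have h0 : P1.sect P j (genericPoint P) ⤳ y := (genericPoint_specializes u).map (P1.sect P j).continuous
  have hk : (ptPrime h0).asIdeal = Ideal.span {f} := (ker_stalkMap_eq_ptPrime (P1.sect P j) u).symm.trans hker
  have hI : (Ideal.span {f} : Submodule A A) = LinearMap.range (sx f A) := by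
    rw [range_sx, ← Submodule.ideal_span_singleton_smul, smul_eq_mul, Ideal.mul_top]
  have hfdvd : ∀ {v} (hv : v ⤳ y), f ∈ (ptPrime hv).asIdeal → v ∈ Set.range (P1.sect P j) := fun {v} hv hfv => by
    have h := (ptPrime_le_iff h0 (ptPrime hv)).1 (show _ ≤ (ptPrime hv).asIdeal by
      rw [hk]; exact (Ideal.span_singleton_le_iff_mem _).2 hfv)
    rw [fromSpecStalk_ptPrime] at h
    exact h.mem_closed (P1.sect P j).isClosedEmbedding.isClosed_range ⟨_, rfl⟩
  have hout : ∀ ξ, α ξ ≠ 0 → ξ ∉ Set.range (P1.sect P j) := by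
    rintro _ hξ ⟨v, rfl⟩
    have h := hα _ _ (P1.sect P j v) hξ (by simp) specializes_rfl
      ((genericPoint_specializes v).map (P1.sect P j).continuous)
    rw [hd0] at h
    omega
  let S := {ξ : ↥(CohB1.ProjSpaceOver 1 P) // ξ ⤳ y ∧ δ' y + 1 = δ' ξ}
  have hterm : ∀ ξ : S, α ξ.1 * _root_.IntMult.mult (_root_.IntMult.ptIdeal ξ.1)
      (_root_.IntMult.ptIdeal (P1.sect P j (genericPoint P))) y =
      α ξ.1 * Cyc.secDivFun δ' L ξ.1 (Cyc.gysinChoice L σ w ξ.1) y := by
    rintro ⟨ξ, h, hξd⟩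
    by_cases hαξ : α ξ = 0
    · simp [hαξ]
    congr 1
    haveI : IsIntegral (CohB1.ProjSpaceOver 1 P) := isIntegral_line P fP
    have hδq : Cyc.DeltaCompat q δ' (fun _ => 0) := deltaCompat_trans _ fP hδ' hδP
    have hfξ : f ∉ (ptPrime h).asIdeal := fun hfξ => hout ξ hαξ (hfdvd h hfξ)
    have hne : Cyc.specMap y ξ h f ≠ 0 := fun h0' => hfξ (by rw [ptPrime_asIdeal]; exact h0')
    have hsec : mk L (L.presheaf.germ ⊤ ξ trivial σ) =
        ((CohB1.ProjSpaceOver 1 P).presheaf.stalkSpecializes h f) • mk L (L.presheaf.stalkSpecializes h t) := by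
      rw [← TopCat.Presheaf.germ_stalkSpecializes_apply L.presheaf (U := ⊤) (y := y) trivial h σ, hf,
        Groth.L15.SecOrd.stalkSpecializes_smul]
      exact Submodule.Quotient.mk_smul _ _ _
    have hu : Cyc.gysinChoice L σ w ξ =
        ((CohB1.ProjSpaceOver 1 P).presheaf.stalkSpecializes h f) • mk L (L.presheaf.stalkSpecializes h t) := by
      rw [← hsec]
      refine if_pos fun h0' => hne ?_
      have h1 : mk L (L.presheaf.germ ⊤ ξ trivial σ) = 0 := h0'
      rw [hsec, ← Submodule.Quotient.mk_smul] at h1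
      exact (mk_smul_eq_zero_iff hL (hgen.specializes hL h) _).1 h1
    rw [Cyc.secDivFun, dif_pos ⟨h, hξd⟩, hu, secOrdAt_gen hP'.2.2 hL h hξd hgen,
      ← Groth.L22.Cyc.specMap_eq_residue]
    have h5 := Groth.L22.Cyc.ordAt_div_gen hP'.2.2 y ξ h hξd (a := f) (b := 1) hne
      (by rw [map_one]; exact one_ne_zero)
    rw [map_one, div_one, map_one, Ring.ord_one] at h5
    rw [h5, ENat.toNat_zero, Nat.cast_zero, sub_zero]
    rw [_root_.IntMult.mult, (ptPrime_facts q δ' hδq h).1, (ptPrime_facts q δ' hδq h0).1]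
    let e0 : (↑A ⧸ (ptPrime h0).asIdeal) ≃ₗ[A] ↑A ⧸ LinearMap.range (sx f A) :=
      Submodule.quotEquivOfEq _ _ (hk.trans hI)
    let T := ↑A ⧸ (ptPrime h).asIdeal
    have hreg : IsSMulRegular T f := fun a b hab => by
      obtain ⟨a, rfl⟩ := Ideal.Quotient.mk_surjective a
      obtain ⟨b, rfl⟩ := Ideal.Quotient.mk_surjective b
      have h' : f * a - f * b ∈ (ptPrime h).asIdeal := Ideal.Quotient.eq.1 hab
      rw [← mul_sub] at h'
      exact Ideal.Quotient.eq.2 (((ptPrime h).2.mem_or_mem h').resolve_left hfξ)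
    have hf0 : f ≠ 0 := fun e => hfξ (e ▸ Ideal.zero_mem _)
    have hmeet : Meet (A := A) (↑A ⧸ LinearMap.range (sx f A)) T := fun p hp hp' => by
      rw [← e0.support_eq, mem_support_pt h0] at hp
      rw [mem_support_pt h] at hp'
      have hne' : ξ ≠ (CohB1.ProjSpaceOver 1 P).fromSpecStalk y p := fun e =>
        hout ξ hαξ (e ▸ hp.mem_closed (P1.sect P j).isClosedEmbedding.isClosed_range ⟨_, rfl⟩)
      have h' := (hP'.2.2 _ _ hp' hne').1
      have heq := eq_of_delta δ' hP' (specializes_fromSpecStalk p) (by omega)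
      exact congrArg PrimeSpectrum.asIdeal
        (((CohB1.ProjSpaceOver 1 P).fromSpecStalk y).isEmbedding.injective
          (heq.trans Scheme.fromSpecStalk_closedPoint.symm) : p = closedPoint _)
    rw [chi_congr e0 (LinearEquiv.refl A T), chi_hyper (fun a b hab => mul_left_cancel₀ hf0 hab) T hreg hmeet]
    congr 2
    let R := Cyc.LocQuot y ξ h
    let φ : T ≃ₗ[A] R := Submodule.quotEquivOfEq _ _ (ptPrime_asIdeal h)
    have hmap : (LinearMap.range (sx f T)).map φ.toLinearMap =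
        (Ideal.span {Ideal.Quotient.mk (RingHom.ker (Cyc.specMap y ξ h)) f}).restrictScalars A := by
      refine Submodule.ext fun r => ⟨?_, fun hr => ?_⟩
      · rintro ⟨_, ⟨a, rfl⟩, rfl⟩
        obtain ⟨a, rfl⟩ := Ideal.Quotient.mk_surjective a
        exact Ideal.mem_span_singleton'.2 ⟨Ideal.Quotient.mk _ a, by
          rw [mul_comm, ← map_mul]; rfl⟩
      · obtain ⟨b, rfl⟩ := Ideal.mem_span_singleton'.1 hr
        obtain ⟨b, rfl⟩ := Ideal.Quotient.mk_surjective b
        exact ⟨_, ⟨Ideal.Quotient.mk _ b, rfl⟩, by rw [mul_comm, ← map_mul]; rfl⟩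
    rw [(Submodule.Quotient.equiv _ _ φ hmap).length_eq, Ring.ord]
    refine (Submodule.Quotient.restrictScalarsEquiv A _).length_eq.trans ?_
    exact Module.length_eq_of_surjective (R := R) (S := A) Ideal.Quotient.mk_surjective
  let J := {p : ↥(CohB1.ProjSpaceOver 1 P) × ↥(CohB1.ProjSpaceOver 1 P) //
    p.1 ⤳ y ∧ p.2 ⤳ y ∧ δ' p.1 + δ' p.2 - (n + 1) = δ' y}
  let e : S → J := fun ξ => ⟨(ξ.1, P1.sect P j (genericPoint P)), ξ.2.1, h0,
    show δ' ξ.1 + δ' (P1.sect P j (genericPoint P)) - (n + 1) = δ' y by rw [hd0]; linarith [ξ.2.2]⟩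
  have he : Function.Injective e := fun a b hab => Subtype.ext (congrArg (fun p : J => p.1.1) hab)
  let F : J → ℤ := fun p => α p.1.1 * Set.indicator {P1.sect P j (genericPoint P)} 1 p.1.2 *
    _root_.IntMult.mult (_root_.IntMult.ptIdeal p.1.1) (_root_.IntMult.ptIdeal p.1.2) y
  let Gf : ↥(CohB1.ProjSpaceOver 1 P) → ℤ := fun ξ => α ξ * Cyc.secDivFun δ' L ξ (Cyc.gysinChoice L σ w ξ) y
  show ∑ᶠ p : J, F p = ∑ᶠ ξ, Gf ξ
  calc ∑ᶠ p : J, F p = ∑ᶠ p ∈ Set.range e, F p := by
        rw [← finsum_mem_univ]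
        refine finsum_mem_inter_support_eq' _ _ _ fun p hp => ⟨fun _ => ?_, fun _ => trivial⟩
        have h2 : p.1.2 = P1.sect P j (genericPoint P) := by
          by_contra h2
          exact hp (by simp [F, h2])
        refine ⟨⟨p.1.1, p.2.1, ?_⟩, Subtype.ext (Prod.ext rfl h2.symm)⟩
        have h3 := p.2.2.2
        rw [h2, hd0] at h3
        linarith
    _ = ∑ᶠ ξ : S, F (e ξ) := finsum_mem_range he
    _ = ∑ᶠ ξ : S, Gf ξ.1 := finsum_congr fun ξ => by
        show α ξ.1 * _ * _ = _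
        rw [Set.indicator_of_mem (Set.mem_singleton _), Pi.one_apply, mul_one]
        exact hterm ξ
    _ = ∑ᶠ ξ ∈ Set.range (Subtype.val : S → _), Gf ξ :=
        (finsum_mem_range Subtype.val_injective).symm
    _ = _ := by
        rw [← finsum_mem_univ Gf]
        refine finsum_mem_inter_support_eq' _ _ _ fun ξ hξ => ⟨fun _ => trivial, fun _ => ?_⟩
        have h2 : Cyc.secDivFun δ' L ξ (Cyc.gysinChoice L σ w ξ) y ≠ 0 := right_ne_zero_of_mul hξ
        obtain ⟨h3, h4⟩ := secDivFun_ne_zero δ' h2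
        exact ⟨⟨ξ, h3, h4⟩, rfl⟩

include fP hP hδP hn hP' hδ' in
theorem fibre_diff_ratEquivZero [QuasiCompact (CohB1.ProjSpaceOver.toBase 1 P)] (k : ℤ)
    (α : AlgebraicCycle (CohB1.ProjSpaceOver 1 P) ℤ) (hα : α ∈ Cyc.Zk _ δ' (k + 1))
    (h0 : _root_.IntMult.IntersectProperly δ' (n + 1) ⇑α (Set.indicator {P1.sect P 0 (genericPoint P)} 1))
    (h1 : _root_.IntMult.IntersectProperly δ' (n + 1) ⇑α (Set.indicator {P1.sect P 1 (genericPoint P)} 1))
    (γ : AlgebraicCycle (CohB1.ProjSpaceOver 1 P) ℤ)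
    (hγ : ⇑γ = _root_.IntMult.interProd δ' (n + 1) ⇑α (Set.indicator {P1.sect P 0 (genericPoint P)} 1) -
      _root_.IntMult.interProd δ' (n + 1) ⇑α (Set.indicator {P1.sect P 1 (genericPoint P)} 1)) :
    Cyc.RatEquivZero δP k (AlgebraicCycle.map (CohB1.ProjSpaceOver.toBase 1 P) δ' δP γ) := by
  classical
  haveI := hP.1
  haveI := hP'.1
  haveI : IsProper (CohB1.ProjSpaceOver.toBase 1 P) := Groth.L16.ProjSpace.isProper_toBase 1 P
  obtain ⟨L, σ, hL, hσ⟩ := Groth.L22.P1Zero.exists_sections P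
  choose w hw using fun ξ => exists_isGen hL ξ
  have hw0 : ∀ ξ, mk L (w ξ) ≠ 0 := fun ξ => mk_gen_ne_zero hL (hw ξ)
  choose c hc using fun j : Fin (1 + 1) => exists_cycle_c1Cap hP'.2.2 hL α
    (Cyc.gysinChoice L (σ j) fun ξ => mk L (w ξ)) (gysinChoice_ne_zero _ _ hw0)
  have hj : ∀ j, _root_.IntMult.IntersectProperly δ' (n + 1) ⇑α (Set.indicator {P1.sect P j (genericPoint P)} 1) := by
    intro j
    fin_cases j
    · exact h0
    · exact h1
  have hcj : ∀ j, ⇑(c j) =
      _root_.IntMult.interProd δ' (n + 1) ⇑α (Set.indicator {P1.sect P j (genericPoint P)} 1) := fun j => by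
    funext y
    rw [hc j, interProd_sect_eq_c1Cap fP δP hP hδP n hn δ' hP' hδ' j hL (σ j) (hσ j).2 _ _ (hj j) y]
  have hrat := Groth.L22.Cyc.ratEquiv_map (CohB1.ProjSpaceOver.toBase 1 P) hP'.2.2 hP.2.2 hδ' k (c 0) (c 1)
    (c1Cap_ratEquiv δ' hP'.2.2 hL k α hα _ _ (gysinChoice_ne_zero _ _ hw0)
      (gysinChoice_ne_zero _ _ hw0) (c 0) (c 1) (hc 0) (hc 1))
  have heq : AlgebraicCycle.map (CohB1.ProjSpaceOver.toBase 1 P) δ' δP γ =
      AlgebraicCycle.map (CohB1.ProjSpaceOver.toBase 1 P) δ' δP (c 0) -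
        AlgebraicCycle.map (CohB1.ProjSpaceOver.toBase 1 P) δ' δP (c 1) := by
    refine DFunLike.ext _ _ fun z => ?_
    let p := CohB1.ProjSpaceOver.toBase 1 P
    let m : ↥(CohB1.ProjSpaceOver 1 P) → ℤ := fun y => ((AlgebraicCycle.mapCoeff p δ' δP y : ℕ) : ℤ)
    show (∑ᶠ y ∈ p ⁻¹' {z}, γ y * m y) = (∑ᶠ y ∈ p ⁻¹' {z}, c 0 y * m y) - ∑ᶠ y ∈ p ⁻¹' {z}, c 1 y * m y
    have hfin : ∀ j, (p ⁻¹' {z} ∩ Function.support fun y => c j y * m y).Finite := fun j =>
      ((c j).locallyFiniteSupport.finite_inter_support_of_isCompact (p.isCompact_preimage_singleton z)).subset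
        fun y ⟨h1, h2⟩ => ⟨h1, left_ne_zero_of_mul h2⟩
    have hsplit : ∀ y, γ y * m y = c 0 y * m y + -(c 1 y * m y) := fun y => by
      rw [hγ, hcj 0, hcj 1, Pi.sub_apply, sub_mul, sub_eq_add_neg]
    rw [finsum_mem_congr rfl fun y _ => hsplit y, finsum_mem_add_distrib' (hfin 0)
      (by simpa [Function.support_neg] using hfin 1), sub_eq_add_neg]
    congr 1
    rw [finsum_mem_def, finsum_mem_def, ← finsum_neg_distrib]
    refine finsum_congr fun y => ?_
    by_cases hy : y ∈ p ⁻¹' {z}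
    · rw [Set.indicator_of_mem hy, Set.indicator_of_mem hy]
    · rw [Set.indicator_of_notMem hy, Set.indicator_of_notMem hy, neg_zero]
  rw [heq]
  exact hrat

end Groth.L22.IntMult.P1F
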