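import Groth.Agent.L22.IntMult.P1Divisor
import Groth.Agent.L22.Cyc.P1Family

/-!
The products of a cycle with the members at zero and at infinity of a family over `P¹` are rationally equivalent.
-/

set_option autoImplicit false
set_option linter.style.haveILetI false
set_option backward.isDefEq.respectTransparency false

universe u

open CategoryTheory CategoryTheory.Limits AlgebraicGeometry IsLocalRing Groth.L22.C1 Groth.L22.QuotLength

noncomputable section

namespace Groth.L22.IntMult.P1F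

/-- Finitely many maximal points of a closed set in an affine open. -/
theorem finite_maximal_inter {X : Scheme.{u}} [IsLocallyNoetherian X] {F : Set X} (hF : IsClosed F) (V : X.Opens)
    (hV : IsAffineOpen V) : ({y | y ∈ F ∧ ∀ y', y' ∈ F → y' ⤳ y → y' = y} ∩ (V : Set X)).Finite := by
  haveI : IsNoetherianRing Γ(X, V) := IsLocallyNoetherian.component_noetherian ⟨V, hV⟩
  haveI : TopologicalSpace.NoetherianSpace {x : X // x ∈ V} := noetherianSpace_of_isAffineOpen V hV
  let S : Set {x : X // x ∈ V} := {v | (v : X) ∈ F}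
  refine ((TopologicalSpace.NoetherianSpace.finite_irreducibleComponents (α := S)).preimage
    (f := fun a : S => closure ({a} : Set S)) fun a _ b _ h => ?_).image (fun a : S => (a.1 : X)) |>.subset ?_
  · exact (inseparable_iff_closure_eq.2 h).eq
  rintro y ⟨⟨hyF, hmax⟩, hyV⟩
  refine ⟨⟨⟨y, hyV⟩, hyF⟩, ?_, rfl⟩
  refine ⟨isIrreducible_singleton.closure, fun Z hZ hle => ?_⟩
  let φ : S → X := fun a => (a.1 : X)
  have hφ : Topology.IsEmbedding φ := Topology.IsEmbedding.subtypeVal.comp Topology.IsEmbedding.subtypeVal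
  have hirr : IsIrreducible (closure (φ '' Z)) := (hZ.image φ hφ.continuous.continuousOn).closure
  obtain ⟨g, hg⟩ := QuasiSober.sober hirr isClosed_closure
  have hgF : g ∈ F := closure_minimal (by rintro _ ⟨a, -, rfl⟩; exact a.2) hF (hg.mem)
  have hgy : g ⤳ y := hg.specializes (subset_closure ⟨_, hle (subset_closure rfl), rfl⟩)
  intro z hz
  have hgz : g ⤳ φ z := hg.specializes (subset_closure ⟨z, hz, rfl⟩)
  rw [hmax g hgF hgy] at hgz
  exact specializes_iff_mem_closure.1 (hφ.isInducing.specializes_iff.1 hgz)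

variable {P : Scheme.{u}} {K : Type u} [Field K] (fP : P ⟶ Spec (CommRingCat.of K)) [Smooth fP] [IsSeparated fP]
  [QuasiCompact fP] [IsIntegral P]

omit [Smooth fP] [IsSeparated fP] [QuasiCompact fP] [IsIntegral P] in
/-- A dominating family is not contained in a section. -/
theorem sect_notMem_of_dominant {W : Scheme.{u}} [IsIntegral W] (ιW : W ⟶ CohB1.ProjSpaceOver 1 P)
    (hdom : ∀ U : (CohB1.ProjSpaceOver 1 (Spec (CommRingCat.of K))).Opens,
      (U : Set ↥(CohB1.ProjSpaceOver 1 (Spec (CommRingCat.of K)))).Nonempty → ∃ w : W, (ιW ≫ P1.toP1 fP) w ∈ U)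
    (j : Fin (1 + 1)) : ιW (genericPoint W) ∉ Set.range (P1.sect P j) := by
  intro hmem
  haveI := isClosedImmersion_sect P j
  haveI := isClosedImmersion_sect (Spec (CommRingCat.of K)) j
  let U : (CohB1.ProjSpaceOver 1 (Spec (CommRingCat.of K))).Opens :=
    ⟨(Set.range (P1.sect (Spec (CommRingCat.of K)) j))ᶜ,
      (P1.sect (Spec (CommRingCat.of K)) j).isClosedEmbedding.isClosed_range.isOpen_compl⟩
  have hU : (U : Set ↥(CohB1.ProjSpaceOver 1 (Spec (CommRingCat.of K)))).Nonempty := by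
    let k0 : ↥(Spec (CommRingCat.of K)) := closedPoint K
    refine ⟨P1.sect _ (1 - j) k0, ?_⟩
    rintro ⟨k1, hk⟩
    rw [show k1 = k0 from Subsingleton.elim (α := PrimeSpectrum K) _ _] at hk
    obtain rfl | rfl : j = 0 ∨ j = 1 := by fin_cases j <;> simp
    · exact Groth.L22.P1Graph.sect_zero_ne_sect_one _ k0 hk
    · exact Groth.L22.P1Graph.sect_zero_ne_sect_one _ k0 hk.symm
  obtain ⟨w, hw⟩ := hdom U hU
  obtain ⟨x, hx⟩ := ((genericPoint_specializes w).map ιW.continuous).mem_closed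
    (P1.sect P j).isClosedEmbedding.isClosed_range hmem
  refine hw ⟨fP x, ?_⟩
  show P1.sect (Spec (CommRingCat.of K)) j (fP x) = P1.toP1 fP (ιW w)
  rw [← hx]
  exact congrArg (fun φ : P ⟶ CohB1.ProjSpaceOver 1 (Spec (CommRingCat.of K)) => φ x)
    (Groth.L22.P1Graph.isPullback_sect fP j).w

variable (δP : P → ℤ) (hP : Cyc.IsSetup P δP) (hδP : Cyc.DeltaCompat fP δP (fun _ => 0)) (n : ℤ)
  (hn : δP (genericPoint P) = n) (δ' : ↥(CohB1.ProjSpaceOver 1 P) → ℤ)
  (hδ' : Cyc.DeltaCompat (CohB1.ProjSpaceOver.toBase 1 P) δ' δP)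

omit fP [IsIntegral P] in
include hP hδ' in
theorem isSetup_line : Cyc.IsSetup (CohB1.ProjSpaceOver 1 P) δ' := by
  haveI : IsProper (CohB1.ProjSpaceOver.toBase 1 P) := Groth.L16.ProjSpace.isProper_toBase 1 P
  obtain ⟨δX, hX, hc⟩ := Groth.L22.Cyc.exists_setup (CohB1.ProjSpaceOver.toBase 1 P) hP
  have he : δ' = δX := funext fun x => by
    obtain ⟨a, ha, h1⟩ := hδ' x
    obtain ⟨b, hb, h2⟩ := hc x
    have : a = b := by exact_mod_cast ha.symm.trans hb
    rw [h1, h2, this]
  exact he ▸ hX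

include fP hP hδP hn hδ' in
theorem family_ratEquiv (r s : ℤ) (W : Scheme.{u}) [IsIntegral W] (ιW : W ⟶ CohB1.ProjSpaceOver 1 P)
    [IsClosedImmersion ιW] (hW : δ' (ιW (genericPoint W)) = s + 1)
    (hdom : ∀ U : (CohB1.ProjSpaceOver 1 (Spec (CommRingCat.of K))).Opens,
      (U : Set ↥(CohB1.ProjSpaceOver 1 (Spec (CommRingCat.of K)))).Nonempty → ∃ w : W, (ιW ≫ P1.toP1 fP) w ∈ U)
    (v : P) (hv : δP v = r)
    (hv01 : ∀ j : Fin (1 + 1), _root_.IntMult.IntersectProperly δP n (Set.indicator {v} 1)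
      (Cyc.subschemeFun δP s (pullback.snd ιW (P1.sect P j))))
    (γ : Fin (1 + 1) → AlgebraicCycle P ℤ) (hγ : ∀ j, ⇑(γ j) = _root_.IntMult.interProd δP n (Set.indicator {v} 1)
      (Cyc.subschemeFun δP s (pullback.snd ιW (P1.sect P j)))) :
    Cyc.RatEquiv δP (r + s - n) (γ 0) (γ 1) := by
  classical
  haveI := hP.1
  have hP' := isSetup_line δP hP δ' hδ'
  haveI := hP'.1
  haveI : IsProper (CohB1.ProjSpaceOver.toBase 1 P) := Groth.L16.ProjSpace.isProper_toBase 1 P
  haveI hsm : Smooth (CohB1.ProjSpaceOver.toBase 1 P) := Groth.L16.ProjSpace.smooth_toBase (n := 1) (S := P)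
  haveI : IsIntegral (CohB1.ProjSpaceOver 1 P) := isIntegral_line P fP
  haveI : ∀ j, IsClosedImmersion (P1.sect P j) := isClosedImmersion_sect P
  haveI : IsLocallyNoetherian W := LocallyOfFiniteType.isLocallyNoetherian ιW
  let p := CohB1.ProjSpaceOver.toBase 1 P
  let q := p ≫ fP
  have hδq : Cyc.DeltaCompat q δ' (fun _ => 0) := deltaCompat_trans _ fP hδ' hδP
  have hgQ : δ' (genericPoint (CohB1.ProjSpaceOver 1 P)) = n + 1 := by
    rw [delta_genericPoint P δP δ' hδ' hP', hn]
  -- the closure of `v` and the line over it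
  haveI := isIntegral_ptIdeal v
  let ι := (_root_.IntMult.ptIdeal v).subschemeι
  haveI : IsLocallyNoetherian (_root_.IntMult.ptIdeal v).subscheme := LocallyOfFiniteType.isLocallyNoetherian ι
  have hιr : ∀ x, x ∈ Set.range ι ↔ v ⤳ x := fun x => by
    rw [Scheme.IdealSheafData.range_subschemeι]
    exact mem_support_ptIdeal
  have hιv : ι (genericPoint (_root_.IntMult.ptIdeal v).subscheme) = v := by
    refine Inseparable.eq (Specializes.antisymm ?_ ((hιr _).1 ⟨_, rfl⟩))
    obtain ⟨x, hx⟩ := (hιr v).2 specializes_rfl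
    have h := (genericPoint_specializes x).map ι.continuous
    rwa [hx] at h
  have hnv : δP (ι (genericPoint (_root_.IntMult.ptIdeal v).subscheme)) = r := by rw [hιv, hv]
  obtain ⟨η, hη, hgen⟩ := exists_fibre_gen P v
  have hη2 : δ' η = r + 1 := by rw [delta_fibre_gen P δP δ' hδ' hP' hη hgen, hv]
  have hd : ∀ j z, δ' (P1.sect P j z) = δP z := delta_sect' P δP δ' hδ'
  have hd0g : ∀ j, δ' (P1.sect P j (genericPoint P)) = n := fun j => by rw [hd, hn]
  have h0r : ∀ j y, P1.sect P j (genericPoint P) ⤳ y → y ∈ Set.range (P1.sect P j) := fun j y hy =>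
    hy.mem_closed (P1.sect P j).isClosedEmbedding.isClosed_range ⟨_, rfl⟩
  have hC0 : ∀ (j : Fin (1 + 1)) (u : P), P1.sect P j u ∈ Set.range ιW → δP u ≤ s := fun j u ⟨c, hc⟩ => by
    have hne : ιW (genericPoint W) ≠ P1.sect P j u := fun e =>
      sect_notMem_of_dominant fP ιW hdom j ⟨u, e.symm⟩
    have h := (hP'.2.2 _ _ (hc ▸ (genericPoint_specializes c).map ιW.continuous) hne).1
    rw [hd, hW] at h
    omega
  have hWr : ∀ y, ιW (genericPoint W) ⤳ y → y ∈ Set.range ιW := fun y hy =>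
    hy.mem_closed ιW.isClosedEmbedding.isClosed_range ⟨_, rfl⟩
  have hηp : ∀ y, η ⤳ y → v ⤳ p y := fun y hy => hη ▸ hy.map p.continuous
  have hηs : ∀ (j : Fin (1 + 1)) (z : P), v ⤳ z → η ⤳ P1.sect P j z := fun j z hz =>
    (specializes_sect P δP δ' hδ' hP' j hη (by rw [hη2, hv])).trans (hz.map (P1.sect P j).continuous)
  have hsp : ∀ (j : Fin (1 + 1)) u, η ⤳ P1.sect P j u → v ⤳ u := fun j u h => by
    have := hηp _ h
    rwa [Groth.L22.P1Rat.toBase_sect P j u] at this
  have htriple : ∀ (j : Fin (1 + 1)) (u : P), P1.sect P j u ∈ Set.range ιW → v ⤳ u → δP u ≤ r + s - n :=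
    fun j u hu hu' => by
      have h := triple_le fP δP hP n δ' hP' hδ' j ιW s hW (hC0 j) ι r hnv (fun a b c ha hb h1 h2 => by
        have := hv01 j b a c (by rwa [hιv] at hb) ha h2 h1
        linarith) u hu (by rw [hιv]; exact hu')
      linarith
  -- points of `W ∩ (closure v × P¹)` near the two sections
  let inF : Set ↥(CohB1.ProjSpaceOver 1 P) := {y | ιW (genericPoint W) ⤳ y ∧ η ⤳ y}
  have hFc : IsClosed inF := by
    have : inF = closure {ιW (genericPoint W)} ∩ closure {η} := Set.ext fun y => by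
      simp only [inF, Set.mem_ofPred_eq, Set.mem_inter_iff, specializes_iff_mem_closure]
    rw [this]
    exact isClosed_closure.inter isClosed_closure
  have hlocal : ∀ (j : Fin (1 + 1)) (u : P) (z : ↥(CohB1.ProjSpaceOver 1 P)), z ∈ inF → z ⤳ P1.sect P j u →
      δ' z ≤ r + s - n + 1 := fun j u z hz hzu => by
    by_cases hout : z ∈ Set.range (P1.sect P j)
    · obtain ⟨x, rfl⟩ := hout
      have := htriple j x (hWr _ hz.1) (hsp j x hz.2)
      rw [hd]
      omega
    · obtain ⟨ξ, -, h2, h3⟩ := exists_immediate δP δ' hP' hδ' j hzu hout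
      have := htriple j ξ (hWr _ (hz.1.trans h2)) (hsp j ξ (hz.2.trans h2))
      omega
  let T : Set ↥(CohB1.ProjSpaceOver 1 P) :=
    {y | δ' y = r + s - n + 1} ∩ {y | y ∈ inF ∧ ∀ y', y' ∈ inF → y' ⤳ y → y' = y}
  have hT : ∀ (j : Fin (1 + 1)) (u : P) (y : ↥(CohB1.ProjSpaceOver 1 P)), y ∈ inF → y ⤳ P1.sect P j u →
      δ' y = r + s - n + 1 → y ∈ T := fun j u y hy hyu hyd => ⟨hyd, hy, fun y' hy' h => by
        exact eq_of_delta δ' hP' h (by rw [hyd]; exact hlocal j u y' hy' (h.trans hyu))⟩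
  let WZ := _root_.IntMult.interProd δ' (n + 1) (Set.indicator {ιW (genericPoint W)} 1) (Set.indicator {η} 1)
  obtain ⟨α, hα⟩ := exists_cycle (X := CohB1.ProjSpaceOver 1 P) (T.indicator WZ) fun x => by
    obtain ⟨V, hV, hxV, -⟩ := exists_isAffineOpen_mem_and_subset (x := x) (U := ⊤) trivial
    exact ⟨V, hxV, (finite_maximal_inter hFc V hV).subset fun y ⟨h1, h2⟩ =>
      ⟨(Set.support_indicator_subset h1).2, h2⟩⟩
  have hαT : ∀ y, α y ≠ 0 → y ∈ T := fun y hy => Set.support_indicator_subset (by rw [← hα]; exact hy)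
  have hαk : α ∈ Cyc.Zk _ δ' (r + s - n + 1) := fun y hy => by
    by_contra h
    exact hy (hαT y h).1
  have hprop : ∀ j, _root_.IntMult.IntersectProperly δ' (n + 1) ⇑α
      (Set.indicator {P1.sect P j (genericPoint P)} 1) := fun j a b z ha hb h1 h2 => by
    obtain rfl : b = P1.sect P j (genericPoint P) :=
      Set.mem_singleton_iff.1 (Set.mem_of_indicator_ne_zero hb)
    obtain ⟨had, ⟨haW, -⟩⟩ := hαT a ha
    obtain ⟨u, rfl⟩ := h0r j z h2
    have hu := htriple j u (hWr _ (haW.1.trans h1)) (hsp j u (haW.2.trans h1))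
    rw [Set.mem_ofPred_eq] at had
    rw [had, hd0g, hd]
    omega
  -- the cycles on `P¹_P`
  obtain ⟨L, σ, hL, hσ⟩ := Groth.L22.P1Zero.exists_sections P
  choose w hw using fun ξ => exists_isGen hL ξ
  have hw0 : ∀ ξ, mk L (w ξ) ≠ 0 := fun ξ => mk_gen_ne_zero hL (hw ξ)
  choose c hc using fun j : Fin (1 + 1) => exists_cycle_c1Cap hP'.2.2 hL α
    (Cyc.gysinChoice L (σ j) fun ξ => mk L (w ξ)) (gysinChoice_ne_zero _ _ hw0)
  have hcj : ∀ j, ⇑(c j) =
      _root_.IntMult.interProd δ' (n + 1) ⇑α (Set.indicator {P1.sect P j (genericPoint P)} 1) := fun j => by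
    funext y
    rw [hc j, interProd_sect_eq_c1Cap fP δP hP hδP n hn δ' hP' hδ' j hL (σ j) (hσ j).2 _ _ (hprop j) y]
  have hrat := Groth.L22.Cyc.ratEquiv_map p hP'.2.2 hP.2.2 hδ' (r + s - n) (c 0) (c 1)
    (c1Cap_ratEquiv δ' hP'.2.2 hL (r + s - n) α hαk _ _ (gysinChoice_ne_zero _ _ hw0)
      (gysinChoice_ne_zero _ _ hw0) (c 0) (c 1) (hc 0) (hc 1))
  -- their push-forwards
  have key : ∀ j, AlgebraicCycle.map p δ' δP (c j) = γ j := fun j => by
    refine DFunLike.coe_injective (funext fun z => ?_)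
    rw [Groth.L22.P1Rat.map_eq_of_support_sect P hδ' j (c j) (fun y hy => ?_) z]
    rotate_left
    · rw [hcj]
      refine finsum_eq_zero_of_forall_eq_zero fun pq => ?_
      by_cases h2 : pq.1.2 = P1.sect P j (genericPoint P)
      · exact absurd (h2 ▸ pq.2.2.1 : P1.sect P j (genericPoint P) ⤳ y) fun h => hy (h0r j y h)
      · simp [h2]
    let Fc := (Coh.push ιW).obj (Coh.structureModule W)
    let F := (Scheme.Modules.pullback (P1.sect P j)).obj Fc
    let G := (Coh.push ι).obj (Coh.structureModule (_root_.IntMult.ptIdeal v).subscheme)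
    have hFc' : Coh.IsCoh Fc := Groth.L16.CohClosedPush.isCoh_push ιW Groth.L16.CohClosedPush.isCoh_structure
    have hF : Coh.IsCoh F := Groth.L16.AffineBC.isCoh_pullback _ hFc'
    have hG : Coh.IsCoh G := Groth.L16.CohClosedPush.isCoh_push ι Groth.L16.CohClosedPush.isCoh_structure
    have hGr : ∀ x, Nontrivial (G.presheaf.stalk x) → v ⤳ x := fun x hx =>
      (hιr x).1 (Groth.L22.P1Sub.mem_range_of_nontrivial_push ι hx)
    rw [hcj, hγ, interProd_comm δP n, Groth.L22.P1Sub.subschemeFun_snd ιW (P1.sect P j) hL (hσ j).2 δP s,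
      show Set.indicator ({v} : Set P) (1 : P → ℤ) = Cyc.sheafFun δP r G by
        rw [sheafFun_push_integral ι δP hP r hnv, hιv],
      (sheaf_formula fP δP hδP hP n hn F G hF hG s r
        (fun x hx => hC0 j x (mem_of_nontrivial j ιW hx))
        (fun x hx => hv ▸ delta_le fP δP hδP (hGr x hx))
        (fun x hx hx' => by linarith [htriple j x (mem_of_nontrivial j ιW hx) (hGr x hx')])).2 z]
    by_cases hcase : P1.sect P j z ∈ Set.range ιW ∧ v ⤳ z ∧ δP z = r + s - n
    swap
    · rw [show _root_.IntMult.interProd δ' (n + 1) ⇑α (Set.indicator {P1.sect P j (genericPoint P)} 1)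
          (P1.sect P j z) = 0 from finsum_eq_zero_of_forall_eq_zero fun pq => by
        by_cases ha : α pq.1.1 = 0
        · simp [ha]
        by_cases h2 : pq.1.2 = P1.sect P j (genericPoint P)
        · obtain ⟨had, ⟨haW, -⟩⟩ := hαT _ ha
          rw [Set.mem_ofPred_eq] at had
          have h3 := pq.2.2.2
          rw [h2, had, hd0g, hd] at h3
          exact absurd ⟨hWr _ (haW.1.trans pq.2.1), hsp j z (haW.2.trans pq.2.1), by linarith⟩ hcase
        · simp [h2]]
      split_ifs with hdz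
      · symm
        refine chi_eq_zero_of_subsingleton _ _ ?_
        by_contra hnt
        rw [not_or, not_subsingleton_iff_nontrivial, not_subsingleton_iff_nontrivial] at hnt
        exact hcase ⟨mem_of_nontrivial j ιW hnt.1, hGr z hnt.2, by linarith⟩
      · rfl
    obtain ⟨hzW, hzv, hzd⟩ := hcase
    rw [if_pos (by linarith)]
    let y := P1.sect P j z
    haveI : IsRegularLocalRing ((CohB1.ProjSpaceOver 1 P).presheaf.stalk y) := Groth.L21.Smooth.regular_stalk q y
    have hC : ιW (genericPoint W) ⤳ y := by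
      obtain ⟨a, ha⟩ := hzW
      show _ ⤳ P1.sect P j z
      rw [← ha]
      exact (genericPoint_specializes a).map ιW.continuous
    have hZ : η ⤳ y := hηs j z hzv
    have h0 : P1.sect P j (genericPoint P) ⤳ y := (genericPoint_specializes z).map (P1.sect P j).continuous
    have hyd : δ' y = r + s - n := by rw [hd, hzd]
    have hm : ∀ w, P1.sect P j (genericPoint P) ⤳ w → ιW (genericPoint W) ⤳ w → η ⤳ w → δ' w ≤ δ' y :=
      fun w h1 h2 h3 => by
        obtain ⟨u, rfl⟩ := h0r j w h1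
        rw [hd, hyd]
        exact htriple j u (hWr _ h2) (hsp j u h3)
    have hswap : _root_.IntMult.interProd δ' (n + 1) ⇑α (Set.indicator {P1.sect P j (genericPoint P)} 1) y =
        _root_.IntMult.interProd δ' (n + 1) WZ (Set.indicator {P1.sect P j (genericPoint P)} 1) y := by
      refine finsum_congr fun pq => ?_
      by_cases h2 : pq.1.2 = P1.sect P j (genericPoint P)
      · congr 2
        have had : δ' pq.1.1 = r + s - n + 1 := by
          have h3 : δ' pq.1.1 + δ' pq.1.2 - (n + 1) = δ' y := pq.2.2.2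
          rw [h2, hd0g] at h3
          linarith
        rw [hα]
        by_cases hin : pq.1.1 ∈ inF
        · exact Set.indicator_of_mem (hT j z _ hin pq.2.1 had) WZ
        · rw [Set.indicator_of_notMem fun h => hin h.2.1]
          show (0 : ℤ) = _root_.IntMult.interProd δ' (n + 1) _ _ pq.1.1
          rw [interProd_single, if_neg fun h => hin ⟨h.1, h.2.1⟩]
      · simp [h2]
    show _root_.IntMult.interProd δ' (n + 1) ⇑α (Set.indicator {P1.sect P j (genericPoint P)} 1) y = _
    rw [hswap, interProd_comm δ' (n + 1) WZ,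
      interProd_left_eq q δ' hδq hP' (n + 1) hgQ h0 hC hZ (by rw [hyd, hd0g, hW, hη2]; ring)
        (fun w h1 h2 h3 => by rw [hW, hη2]; linarith [hlocal j z w ⟨h1, h2⟩ h3]) hm,
      tri_comm, assoc_stalk K q y _ _ _ (meet3_pt δ' hP' h0 hZ hC fun w h1 h2 h3 => hm w h1 h3 h2), tri_comm]
    exact fibre_value fP δP hP δ' hP' hδ' j ιW s hW (hC0 j) ι r hnv η (by rw [hιv]; exact hη) hη2 z hzW
      (by rw [hιv]; exact hzv) hZ hC h0 (meet3_pt δ' hP' hZ hC h0 fun w h1 h2 h3 => hm w h3 h2 h1)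
  rw [key 0, key 1] at hrat
  exact hrat

end Groth.L22.IntMult.P1F
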