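import Groth.Agent.L22.IntMult.PtPrime
import Groth.Agent.L22.Cyc.P1Rat
import Groth.Agent.L22.Cyc.P1Graph
import Groth.Agent.L11.REq.P1Spread
import Groth.Agent.L16.SecComp.Smooth

/-!
The projective line over a variety: the generic point of a fibre, and the zero section.
-/

set_option autoImplicit false
set_option linter.style.haveILetI false
set_option backward.isDefEq.respectTransparency false

universe u

open CategoryTheory CategoryTheory.Limits AlgebraicGeometry IsLocalRing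

noncomputable section

namespace Groth.L22.IntMult.P1F

variable (P : Scheme.{u})

theorem isClosedImmersion_sect (i : Fin (1 + 1)) : IsClosedImmersion (P1.sect P i) :=
  (Groth.L22.P1Graph.sect_spec P i).1

theorem exists_equation (j : Fin (1 + 1)) (z : P) :
    ∃ g : CommRingCat.carrier ((CohB1.ProjSpaceOver 1 P).presheaf.stalk (P1.sect P j z)),
    RingHom.ker ((P1.sect P j).stalkMap z).hom = Ideal.span {g} := by
  obtain ⟨t, g, -, -, hg⟩ := (Groth.L22.P1Graph.sect_spec P j).2.2 z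
  exact ⟨g, hg⟩

theorem exists_fibre_gen (ξ : P) :
    ∃ η : ↥(CohB1.ProjSpaceOver 1 P), (CohB1.ProjSpaceOver.toBase 1 P) η = ξ ∧ ∀ y : ↥(CohB1.ProjSpaceOver 1 P), (CohB1.ProjSpaceOver.toBase 1 P) y = ξ → η ⤳ y := by
  haveI := Groth.L11.REqHom.isIntegral_projSpaceOver_spec 1 (P.residueField ξ)
  let F := CohB1.ProjSpaceOver 1 (Spec (CommRingCat.of (P.residueField ξ)))
  let h : Spec (CommRingCat.of (P.residueField ξ)) ⟶ P := P.fromSpecResidueField ξ
  have hm := Groth.L16.ProjSpace.isPullback_overMap 1 h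
  let m : F ⟶ (CohB1.ProjSpaceOver 1 P) := Groth.L16.ProjSpace.overMap 1 h
  have hrange : Set.range m = (CohB1.ProjSpaceOver.toBase 1 P) ⁻¹' {ξ} := by
    have e : hm.isoPullback.hom ≫ pullback.fst (CohB1.ProjSpaceOver.toBase 1 P) h = m := hm.isoPullback_hom_fst
    rw [← e, show ⇑(hm.isoPullback.hom ≫ pullback.fst (CohB1.ProjSpaceOver.toBase 1 P) h) =
      ⇑(pullback.fst (CohB1.ProjSpaceOver.toBase 1 P) h) ∘ ⇑hm.isoPullback.hom from rfl,
      hm.isoPullback.hom.surjective.range_comp, Scheme.Pullback.range_fst]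
    congr 1
    exact P.range_fromSpecResidueField ξ
  refine ⟨m (genericPoint F), hrange.le ⟨_, rfl⟩, fun y hy => ?_⟩
  obtain ⟨w, rfl⟩ := hrange.ge hy
  exact (genericPoint_specializes w).map m.continuous

theorem stalkMap_sigma_bijective (j : Fin (1 + 1)) (z : P) :
    Function.Bijective (((P1.sect P j).stalkMap z).hom.comp ((CohB1.ProjSpaceOver.toBase 1 P).stalkMap (P1.sect P j z)).hom) := by
  haveI : IsIso (P1.sect P j ≫ (CohB1.ProjSpaceOver.toBase 1 P)) := by
    rw [Groth.L07.BlowLib.sect_toBase]; infer_instance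
  have h : ((P1.sect P j ≫ (CohB1.ProjSpaceOver.toBase 1 P)).stalkMap z).hom =
      ((P1.sect P j).stalkMap z).hom.comp ((CohB1.ProjSpaceOver.toBase 1 P).stalkMap (P1.sect P j z)).hom := by
    rw [Scheme.Hom.stalkMap_comp]
    rfl
  rw [← h]
  exact ConcreteCategory.bijective_of_isIso ((P1.sect P j ≫ (CohB1.ProjSpaceOver.toBase 1 P)).stalkMap z)

theorem ptPrime_eq_max {X : Scheme.{u}} {a x : X} (h : a ⤳ x) (e : a = x) :
    (ptPrime h).asIdeal = maximalIdeal (X.presheaf.stalk x) := by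
  subst e
  show (maximalIdeal _).comap _ = _
  rw [TopCat.Presheaf.stalkSpecializes_refl]
  rfl

theorem ptPrime_congr {X : Scheme.{u}} {a b x : X} (h : a ⤳ x) (h' : b ⤳ x) (e : a = b) :
    (ptPrime h).asIdeal = (ptPrime h').asIdeal := by
  subst e
  rfl

variable (δP : P → ℤ) (δ' : ↥(CohB1.ProjSpaceOver 1 P) → ℤ) (hδ' : Cyc.DeltaCompat (CohB1.ProjSpaceOver.toBase 1 P) δ' δP) (hQ : Cyc.IsSetup (CohB1.ProjSpaceOver 1 P) δ')

include hδ' in
theorem delta_sect' (j : Fin (1 + 1)) (z : P) : δ' (P1.sect P j z) = δP z := by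
  haveI := isClosedImmersion_sect P j
  exact Groth.L22.P1Rat.delta_sect P hδ' j z

include hδ' hQ in
theorem delta_fibre_gen {ξ : P} {η : ↥(CohB1.ProjSpaceOver 1 P)} (hη : (CohB1.ProjSpaceOver.toBase 1 P) η = ξ) (hgen : ∀ y : ↥(CohB1.ProjSpaceOver 1 P), (CohB1.ProjSpaceOver.toBase 1 P) y = ξ → η ⤳ y) :
    δ' η = δP ξ + 1 := by
  haveI := hQ.1
  haveI := isClosedImmersion_sect P 0
  have hps : ∀ (j : Fin (1 + 1)), (CohB1.ProjSpaceOver.toBase 1 P) (P1.sect P j ξ) = ξ := fun j => Groth.L22.P1Rat.toBase_sect P j ξ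
  have h0 : η ⤳ P1.sect P 0 ξ := hgen _ (hps 0)
  have hne : η ≠ P1.sect P 0 ξ := fun e => by
    have h1 := (hQ.2.2 η (P1.sect P 1 ξ) (hgen _ (hps 1))
      (e ▸ Groth.L22.P1Graph.sect_zero_ne_sect_one P ξ)).1
    rw [e, delta_sect' P δP δ' hδ', delta_sect' P δP δ' hδ'] at h1
    exact lt_irrefl _ h1
  rw [(hQ.2.2 η _ h0 hne).2 fun v hv hv' => ?_, delta_sect' P δP δ' hδ']
  have hpv : (CohB1.ProjSpaceOver.toBase 1 P) v = ξ := by
    refine Inseparable.eq (Specializes.antisymm ?_ ?_)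
    · rw [← hps 0]
      exact hv'.map (CohB1.ProjSpaceOver.toBase 1 P).continuous
    · rw [← hη]
      exact hv.map (CohB1.ProjSpaceOver.toBase 1 P).continuous
  let B := (CohB1.ProjSpaceOver 1 P).presheaf.stalk (P1.sect P 0 ξ)
  obtain ⟨g, hg⟩ := exists_equation P 0 ξ
  let φ := ((CohB1.ProjSpaceOver.toBase 1 P).stalkMap (P1.sect P 0 ξ)).hom
  let J : Ideal B := (maximalIdeal _).map φ
  have hJ : ∀ (w : ↥(CohB1.ProjSpaceOver 1 P)) (hw : w ⤳ P1.sect P 0 ξ), (CohB1.ProjSpaceOver.toBase 1 P) w = ξ → J ≤ (ptPrime hw).asIdeal := fun w hw hpw => by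
    refine Ideal.map_le_iff_le_comap.2 ?_
    rw [comap_stalkMap_ptPrime, ptPrime_eq_max _ (hpw.trans (hps 0).symm)]
  have hgm : g ∈ maximalIdeal B := by
    rw [mem_maximalIdeal, mem_nonunits_iff]
    intro hu
    have h1 : ((P1.sect P 0).stalkMap ξ).hom g = 0 :=
      RingHom.mem_ker.1 (hg.ge (Ideal.mem_span_singleton_self g))
    have := hu.map ((P1.sect P 0).stalkMap ξ).hom
    rw [h1] at this
    exact not_isUnit_zero this
  have hmax : maximalIdeal B ≤ J ⊔ Ideal.span {g} := fun b hb => by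
    obtain ⟨a, ha⟩ := (stalkMap_sigma_bijective P 0 ξ).2 (((P1.sect P 0).stalkMap ξ).hom b)
    have hb' : ¬ IsUnit (((P1.sect P 0).stalkMap ξ).hom b) := fun hu =>
      (mem_maximalIdeal _).1 hb ((isUnit_map_iff ((P1.sect P 0).stalkMap ξ).hom b).1 hu)
    have ha' : a ∈ maximalIdeal _ := (mem_maximalIdeal _).2 fun hu => hb' (ha ▸ hu.map _)
    rw [← sub_add_cancel b (φ a), sup_comm]
    refine Submodule.add_mem_sup (hg ▸ RingHom.mem_ker.2 ?_) (Ideal.mem_map_of_mem φ ha')
    rw [map_sub, sub_eq_zero]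
    exact ha.symm
  by_cases hgv : g ∈ (ptPrime hv').asIdeal
  · right
    have hq : ptPrime hv' = closedPoint B := PrimeSpectrum.ext (le_antisymm (le_maximalIdeal (ptPrime hv').2.ne_top)
      (hmax.trans (sup_le (hJ v hv' hpv) ((Ideal.span_singleton_le_iff_mem _).2 hgv))))
    rw [← fromSpecStalk_ptPrime hv', hq]
    exact Scheme.fromSpecStalk_closedPoint
  · left
    have hle : (ptPrime hv').asIdeal ≤ (ptPrime h0).asIdeal := by
      refine Submodule.le_of_le_smul_of_le_jacobson_bot (I := maximalIdeal B) (IsNoetherian.noetherian _)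
        (maximalIdeal_le_jacobson _) fun b hb => ?_
      obtain ⟨j, hj, c, hc, rfl⟩ := Submodule.mem_sup.1 (hmax (le_maximalIdeal (ptPrime hv').2.ne_top hb))
      obtain ⟨c, rfl⟩ := Ideal.mem_span_singleton'.1 hc
      have hcg : c * g ∈ (ptPrime hv').asIdeal := by
        have := sub_mem hb (hJ v hv' hpv hj)
        rwa [add_sub_cancel_left] at this
      refine Submodule.add_mem_sup (hJ η h0 hη hj) ?_
      rw [mul_comm]
      exact Submodule.smul_mem_smul hgm (((ptPrime hv').2.mem_or_mem hcg).resolve_right hgv)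
    have hge : ptPrime h0 ≤ ptPrime hv' := (ptPrime_le_iff h0 _).2 (by rw [fromSpecStalk_ptPrime]; exact hv)
    rw [← fromSpecStalk_ptPrime hv', ← le_antisymm hge hle, fromSpecStalk_ptPrime]

include hδ' hQ in
/-- A point of maximal dimension in a fibre specializes to the section. -/
theorem specializes_sect (j : Fin (1 + 1)) {ξ : P} {ζ : ↥(CohB1.ProjSpaceOver 1 P)} (h1 : (CohB1.ProjSpaceOver.toBase 1 P) ζ = ξ) (h2 : δ' ζ = δP ξ + 1) : ζ ⤳ P1.sect P j ξ := by
  obtain ⟨η, hη, hgen⟩ := exists_fibre_gen P ξ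
  have hd := delta_fibre_gen P δP δ' hδ' hQ hη hgen
  have e : η = ζ := by
    by_contra hne
    have := (hQ.2.2 η ζ (hgen ζ h1) hne).1
    rw [hd, h2] at this
    exact lt_irrefl _ this
  exact e ▸ hgen _ (Groth.L22.P1Rat.toBase_sect P j ξ)

include hδ' hQ in
/-- The prime of `ξ × P¹` cuts the zero section in the prime of `ξ`. -/
theorem map_ptPrime_sect (j : Fin (1 + 1)) {ξ z : P} {ζ : ↥(CohB1.ProjSpaceOver 1 P)} (h1 : (CohB1.ProjSpaceOver.toBase 1 P) ζ = ξ) (h2 : δ' ζ = δP ξ + 1) (hz : ξ ⤳ z)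
    (h : ζ ⤳ P1.sect P j z) :
    (ptPrime h).asIdeal.map ((P1.sect P j).stalkMap z).hom = (ptPrime hz).asIdeal := by
  refine le_antisymm (Ideal.map_le_iff_le_comap.2 ?_) fun a ha => ?_
  · rw [comap_stalkMap_ptPrime]
    refine (ptPrime_le_iff h _).2 ?_
    rw [fromSpecStalk_ptPrime]
    exact specializes_sect P δP δ' hδ' hQ j h1 h2
  · obtain ⟨a', rfl⟩ := (stalkMap_sigma_bijective P j z).2 a
    have h3 : a' ∈ ((ptPrime hz).asIdeal.comap ((P1.sect P j).stalkMap z).hom).comap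
        ((CohB1.ProjSpaceOver.toBase 1 P).stalkMap (P1.sect P j z)).hom := ha
    rw [comap_stalkMap_ptPrime, comap_stalkMap_ptPrime,
      ptPrime_congr _ (h.map (CohB1.ProjSpaceOver.toBase 1 P).continuous) ((Groth.L22.P1Rat.toBase_sect P j ξ).trans h1.symm),
      ← comap_stalkMap_ptPrime (CohB1.ProjSpaceOver.toBase 1 P) h] at h3
    exact Ideal.mem_map_of_mem _ h3

variable {K : Type u} [Field K] (fP : P ⟶ Spec (CommRingCat.of K)) [Smooth fP] [IsIntegral P]

include fP in
theorem isIntegral_line : IsIntegral (CohB1.ProjSpaceOver 1 P) := by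
  haveI : Smooth (CohB1.ProjSpaceOver.toBase 1 P) := Groth.L16.ProjSpace.smooth_toBase (n := 1) (S := P)
  haveI : Smooth ((CohB1.ProjSpaceOver.toBase 1 P) ≫ fP) := inferInstance
  haveI : IsReduced (CohB1.ProjSpaceOver 1 P) := Groth.L16.SecComp.isReduced_of_smooth ((CohB1.ProjSpaceOver.toBase 1 P) ≫ fP)
  obtain ⟨η, hη, hgen⟩ := exists_fibre_gen P (genericPoint P)
  have hall : ∀ y : ↥(CohB1.ProjSpaceOver 1 P), η ⤳ y := fun y => by
    obtain ⟨y', hy', hpy'⟩ := Flat.generalizingMap (CohB1.ProjSpaceOver.toBase 1 P) (genericPoint_specializes ((CohB1.ProjSpaceOver.toBase 1 P) y))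
    exact (hgen y' hpy').trans hy'
  haveI : IrreducibleSpace (CohB1.ProjSpaceOver 1 P) := by
    haveI : Nonempty (CohB1.ProjSpaceOver 1 P) := ⟨η⟩
    haveI : PreirreducibleSpace (CohB1.ProjSpaceOver 1 P) := ⟨by
      have he : closure ({η} : Set (CohB1.ProjSpaceOver 1 P)) = Set.univ := Set.eq_univ_of_forall fun y => (hall y).mem_closure
      rw [← he]
      exact (isIrreducible_singleton.closure).2⟩
    exact ⟨⟨η⟩⟩
  exact isIntegral_of_irreducibleSpace_of_isReduced _

include hδ' hQ in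
theorem delta_genericPoint [IsIntegral (CohB1.ProjSpaceOver 1 P)] : δ' (genericPoint (CohB1.ProjSpaceOver 1 P)) = δP (genericPoint P) + 1 := by
  obtain ⟨η, hη, hgen⟩ := exists_fibre_gen P (genericPoint P)
  have hp : (CohB1.ProjSpaceOver.toBase 1 P) (genericPoint (CohB1.ProjSpaceOver 1 P)) = genericPoint P := by
    refine Inseparable.eq (Specializes.antisymm ?_ (genericPoint_specializes _))
    rw [← hη]
    exact (genericPoint_specializes η).map (CohB1.ProjSpaceOver.toBase 1 P).continuous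
  rw [Inseparable.eq (Specializes.antisymm (genericPoint_specializes η) (hgen _ hp))]
  exact delta_fibre_gen P δP δ' hδ' hQ hη hgen

end Groth.L22.IntMult.P1F
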