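import Groth.Agent.L22.IntMult.AssocDiag

/-!
The iterated Euler characteristic against a hypersurface, and change to the hypersurface.
-/

set_option autoImplicit false
set_option linter.style.haveILetI false
set_option backward.isDefEq.respectTransparency false

universe u

open CategoryTheory CategoryTheory.Limits IsLocalRing
open scoped TensorProduct

namespace Groth.L22.IntMult

variable {A : Type u} [CommRing A] [IsRegularLocalRing A]
variable {M P Q : Type u} [AddCommGroup M] [Module A M] [AddCommGroup P] [Module A P] [AddCommGroup Q] [Module A Q]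
  [Module.Finite A M] [Module.Finite A P] [Module.Finite A Q]

/-- Moving an element from one factor of `Tor` to the other. -/
theorem tri_regular {x : A} (hP : IsSMulRegular P x) (hQ : IsSMulRegular Q x)
    (h1 : Meet3 (A := A) M P (Q ⧸ LinearMap.range (sx x Q)))
    (h2 : Meet3 (A := A) M Q (P ⧸ LinearMap.range (sx x P))) :
    tri (A := A) M P (Q ⧸ LinearMap.range (sx x Q)) = tri (A := A) M Q (P ⧸ LinearMap.range (sx x P)) := by
  obtain ⟨d, hd⟩ := Groth.L01.exists_dim_eq_nat (R := A)
  haveI hsQ : Subsingleton (LinearMap.ker (sx x Q)) := by rw [ker_sx hQ]; infer_instance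
  haveI hsP : Subsingleton (LinearMap.ker (sx x P)) := by rw [ker_sx hP]; infer_instance
  have e1 := step (M := M) (P := P) (Q := Q) x h1
    (fun p _ _ hp => absurd hp (by rw [Module.support_eq_empty_iff.2 hsQ]; exact id)) hd
  have e2 := step (M := M) (P := Q) (Q := P) x h2
    (fun p _ _ hp => absurd hp (by rw [Module.support_eq_empty_iff.2 hsP]; exact id)) hd
  rw [tri_subsingleton M P (LinearMap.ker (sx x Q)), sub_zero] at e1
  rw [tri_subsingleton M Q (LinearMap.ker (sx x P)), sub_zero] at e2
  rw [← e1, ← e2]
  refine Finset.sum_congr rfl fun i _ => ?_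
  obtain ⟨e⟩ := nonempty_tor_comm (A := A) i P Q
  rw [eps_congr x e]

omit [Module.Finite A M] in
/-- Tor-independence from a hypersurface. -/
theorem subsingleton_tor_quot {x : A} (hx : IsSMulRegular A x) (hM : IsSMulRegular M x) (q : ℕ) (hq : 0 < q) :
    Subsingleton (DRing.Tor A q M (A ⧸ LinearMap.range (sx x A))) := by
  have hA : Function.Injective (sx x A) := hx
  let g := (LinearMap.range (sx x A)).mkQ
  have hfg : Function.Exact (sx x A) g := LinearMap.exact_map_mkQ_range (sx x A)
  obtain ⟨-, hall⟩ := exact_tmap (sx x A) g M hA (Submodule.mkQ_surjective _) hfg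
  obtain ⟨j, rfl⟩ := Nat.exists_eq_add_of_le' hq
  obtain ⟨-, δ, hgd, hdf⟩ := hall j
  refine subsingleton_of_forall_eq 0 fun z => ?_
  haveI := subsingleton_tor_of_flat_right (A := A) M A (j + 1) (by omega)
  have hinj : Function.Injective (sx x (DRing.Tor A j M A)) := by
    cases j with
    | zero =>
      obtain ⟨e⟩ := nonempty_tor_zero (A := A) M A
      let e' := e ≪≫ₗ TensorProduct.rid A M
      intro a b hab
      refine e'.injective (hM ?_)
      show x • e' a = x • e' b
      rw [← map_smul, ← map_smul]
      exact congrArg e' hab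
    | succ j =>
      haveI := subsingleton_tor_of_flat_right (A := A) M A (j + 1) (by omega)
      exact fun a b _ => Subsingleton.elim a b
  have h0 : δ z = 0 := hinj (by
    rw [← tmap_sx, hdf.apply_apply_eq_zero, map_zero])
  obtain ⟨w, rfl⟩ := (hgd z).1 h0
  rw [Subsingleton.elim w 0, map_zero]

omit [IsRegularLocalRing A] [Module.Finite A M] in
/-- Passing to a surjective base change. -/
theorem chi_surjective {B : Type u} [CommRing B] [Algebra A B] (hs : Function.Surjective (algebraMap A B))
    (h : ∀ q : ℕ, 0 < q → Subsingleton (DRing.Tor A q M B)) (N : Type u) [AddCommGroup N] [Module B N] [Module A N]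
    [IsScalarTower A B N] :
    _root_.IntMult.chi A M N = _root_.IntMult.chi B (B ⊗[A] M) N := by
  refine finsum_congr fun n => ?_
  obtain ⟨φ, hφ⟩ := Groth.Agent.S3537.result A B M N h n
  rw [length_eq_of_semilinear φ hφ fun b y => (hs b).imp fun a ha => by rw [ha]]

end Groth.L22.IntMult
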