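import Groth.Agent.L22.IntMult.P1Fibre
import Groth.Agent.L22.IntMult.TriRegular
import Groth.Agent.L22.Cyc.P1Sub
import Groth.Agent.L16.CohClosedPush
import Groth.Agent.L16.AffineBC.Pullback

/-!
The fibre at zero of a product on `P × P¹` is the product of the fibres at zero.
-/

set_option autoImplicit false
set_option linter.style.haveILetI false
set_option backward.isDefEq.respectTransparency false

universe u

open CategoryTheory CategoryTheory.Limits AlgebraicGeometry IsLocalRing Groth.L22.QuotLength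
open scoped TensorProduct Pointwise

noncomputable section

namespace Groth.L22.IntMult.P1F

variable {A : Type u} [CommRing A]

/-- The stalk of an integral closed subscheme at a point named from outside. -/
theorem push_stalk_at {W X : Scheme.{u}} [IsIntegral W] (g : W ⟶ X) [IsClosedImmersion g] {y : X}
    (hy : y ∈ Set.range g) (h : g (genericPoint W) ⤳ y) :
    Nonempty (((Coh.push g).obj (Coh.structureModule W)).presheaf.stalk y ≃ₗ[X.presheaf.stalk y]
      ↑(X.presheaf.stalk y) ⧸ (ptPrime h).asIdeal) := by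
  obtain ⟨w, rfl⟩ := hy
  exact push_stalk_integral g w

/-- Dimension functions compose. -/
theorem deltaCompat_trans {W X Y : Scheme.{u}} (f : W ⟶ X) (g : X ⟶ Y) {δW : W → ℤ} {δX : X → ℤ} {δY : Y → ℤ}
    (hf : Cyc.DeltaCompat f δW δX) (hg : Cyc.DeltaCompat g δX δY) : Cyc.DeltaCompat (f ≫ g) δW δY := by
  intro x
  obtain ⟨a, ha, h1⟩ := hf x
  obtain ⟨b, hb, h2⟩ := hg (f x)
  refine ⟨b + a, ?_, ?_⟩
  · show Groth.L22.Cyc.rtrdeg (f ≫ g) x = ((b + a : ℕ) : Cardinal.{u})
    rw [Groth.L22.Cyc.rtrdeg_comp, show Groth.L22.Cyc.rtrdeg g (f x) = (b : Cardinal.{u}) from hb,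
      show Groth.L22.Cyc.rtrdeg f x = (a : Cardinal.{u}) from ha, Nat.cast_add]
  · rw [h1, h2]
    push_cast
    exact (add_assoc _ _ _).trans rfl

variable {P : Scheme.{u}} {K : Type u} [Field K] (fP : P ⟶ Spec (CommRingCat.of K)) [Smooth fP] [IsSeparated fP]
  [QuasiCompact fP] [IsIntegral P] (δP : P → ℤ) (hP : Cyc.IsSetup P δP)
  (hδP : Cyc.DeltaCompat fP δP (fun _ => 0)) (N : ℤ) (hN : δP (genericPoint P) = N)
  (δ' : ↥(CohB1.ProjSpaceOver 1 P) → ℤ) (hP' : Cyc.IsSetup (CohB1.ProjSpaceOver 1 P) δ')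
  (hδ' : Cyc.DeltaCompat (CohB1.ProjSpaceOver.toBase 1 P) δ' δP) (j : Fin (1 + 1))

include hP' hδ' in
/-- Krull: a point off the section above a point of the section has a specialization of codimension one in it. -/
theorem exists_immediate {v : ↥(CohB1.ProjSpaceOver 1 P)} {u : P} (hC : v ⤳ P1.sect P j u)
    (hout : v ∉ Set.range (P1.sect P j)) :
    ∃ ξ : P, ξ ⤳ u ∧ v ⤳ P1.sect P j ξ ∧ δP ξ + 1 = δ' v := by
  haveI := isClosedImmersion_sect P j
  haveI := hP'.1
  let A := (CohB1.ProjSpaceOver 1 P).presheaf.stalk (P1.sect P j u)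
  obtain ⟨g, hg⟩ := exists_equation P j u
  have hker : (ptPrime ((genericPoint_specializes u).map (P1.sect P j).continuous)).asIdeal = Ideal.span {g} :=
    (ker_stalkMap_eq_ptPrime (P1.sect P j) u).symm.trans hg
  have hrange : ∀ q : PrimeSpectrum A, g ∈ q.asIdeal →
      (CohB1.ProjSpaceOver 1 P).fromSpecStalk (P1.sect P j u) q ∈ Set.range (P1.sect P j) := fun q hq =>
    ((ptPrime_le_iff ((genericPoint_specializes u).map (P1.sect P j).continuous) q).1
      (show _ ≤ q.asIdeal by rw [hker]; exact (Ideal.span_singleton_le_iff_mem _).2 hq)).mem_closed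
      (P1.sect P j).isClosedEmbedding.isClosed_range ⟨_, rfl⟩
  have hgC : g ∉ (ptPrime hC).asIdeal := fun hgC => hout (by
    have := hrange _ hgC
    rwa [fromSpecStalk_ptPrime] at this)
  have hle : (ptPrime hC).asIdeal ⊔ Ideal.span {g} ≤ maximalIdeal A :=
    sup_le (le_maximalIdeal (ptPrime hC).2.ne_top)
      (hker ▸ le_maximalIdeal (ptPrime ((genericPoint_specializes u).map (P1.sect P j).continuous)).2.ne_top)
  obtain ⟨q, hq, -⟩ := Ideal.exists_minimalPrimes_le hle
  let qq : PrimeSpectrum A := ⟨q, hq.1.1⟩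
  have hgq : g ∈ q := hq.1.2 (Submodule.mem_sup_right (Ideal.mem_span_singleton_self g))
  obtain ⟨ξ, hξ⟩ := hrange qq hgq
  have hsp := specializes_fromSpecStalk qq
  have hCv : v ⤳ (CohB1.ProjSpaceOver 1 P).fromSpecStalk (P1.sect P j u) qq :=
    (ptPrime_le_iff hC qq).1 (show _ ≤ q from le_sup_left.trans hq.1.2)
  refine ⟨ξ, ?_, hξ ▸ hCv, ?_⟩
  · exact (P1.sect P j).isClosedEmbedding.isInducing.specializes_iff.1 (hξ ▸ hsp)
  · have hne : v ≠ (CohB1.ProjSpaceOver 1 P).fromSpecStalk (P1.sect P j u) qq := fun e =>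
      hgC (by rw [← eq_ptPrime (p := qq) e.symm hC]; exact hgq)
    have him := (hP'.2.2 _ _ hCv hne).2 fun w h1 h2 => ?_
    · rw [← hξ, delta_sect' P δP δ' hδ'] at him
      exact him.symm
    · by_contra hv
      rw [not_or] at hv
      have hvu : w ⤳ P1.sect P j u := h2.trans hsp
      let q' := ptPrime hvu
      have hCq' : ptPrime hC ≤ q' := (ptPrime_le_iff hC _).2 (by rw [fromSpecStalk_ptPrime]; exact h1)
      have hq'q : q' ≤ qq := (ptPrime_le_iff hvu _).2 h2
      have hlt1 : (ptPrime hC).asIdeal < q'.asIdeal := hCq'.lt_of_ne fun e => hv.1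
        ((fromSpecStalk_ptPrime hvu).symm.trans ((congrArg _ e.symm).trans
          (fromSpecStalk_ptPrime hC)))
      have hlt2 : q'.asIdeal < q := hq'q.lt_of_ne fun e => hv.2
        ((fromSpecStalk_ptPrime hvu).symm.trans (congrArg _ e))
      haveI := hq.1.1
      haveI : (ptPrime hC).asIdeal.IsPrime := (ptPrime hC).2
      have hker' : RingHom.ker (Ideal.Quotient.mk (ptPrime hC).asIdeal) ≤ q'.asIdeal := by
        rw [Ideal.mk_ker]; exact hCq'
      have hker'' : RingHom.ker (Ideal.Quotient.mk (ptPrime hC).asIdeal) ≤ q := hker'.trans hlt2.le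
      haveI := Ideal.map_isPrime_of_surjective (f := Ideal.Quotient.mk (ptPrime hC).asIdeal)
        Ideal.Quotient.mk_surjective hker'
      haveI := Ideal.map_isPrime_of_surjective (f := Ideal.Quotient.mk (ptPrime hC).asIdeal)
        Ideal.Quotient.mk_surjective hker''
      have hcm : ∀ J : Ideal A, RingHom.ker (Ideal.Quotient.mk (ptPrime hC).asIdeal) ≤ J →
          (J.map (Ideal.Quotient.mk (ptPrime hC).asIdeal)).comap (Ideal.Quotient.mk (ptPrime hC).asIdeal) = J :=
        fun J hJ => by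
          rw [Ideal.comap_map_of_surjective _ Ideal.Quotient.mk_surjective, ← RingHom.ker_eq_comap_bot, sup_eq_left.2 hJ]
      have hA : q'.asIdeal.map (Ideal.Quotient.mk (ptPrime hC).asIdeal) <
          q.map (Ideal.Quotient.mk (ptPrime hC).asIdeal) :=
        (Ideal.map_mono hlt2.le).lt_of_ne fun e => hlt2.ne (by rw [← hcm _ hker', e, hcm _ hker''])
      have hB : (⊥ : Ideal (↑A ⧸ (ptPrime hC).asIdeal)) < q'.asIdeal.map (Ideal.Quotient.mk (ptPrime hC).asIdeal) :=
        bot_lt_iff_ne_bot.2 fun e => hlt1.ne' (by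
          rw [← hcm _ hker', e, ← RingHom.ker_eq_comap_bot, Ideal.mk_ker])
      have h1' := Ideal.map_height_le_one_of_mem_minimalPrimes hq
      have h2' := Ideal.height_strict_mono_of_isPrime hB
      have h3' := Ideal.height_strict_mono_of_isPrime hA
      have h4' : (1 : ℕ∞) ≤ (q'.asIdeal.map (Ideal.Quotient.mk (ptPrime hC).asIdeal)).height :=
        Order.one_le_iff_pos.2 (lt_of_le_of_lt bot_le h2')
      exact absurd (h4'.trans_lt h3') h1'.not_gt

variable {C' : Scheme.{u}} [IsIntegral C'] (ι' : C' ⟶ CohB1.ProjSpaceOver 1 P) [IsClosedImmersion ι'] (r : ℤ)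
  (hr : δ' (ι' (genericPoint C')) = r + 1)
  (hC0 : ∀ u : P, P1.sect P j u ∈ Set.range ι' → δP u ≤ r)

include hP' hδ' hC0 hr in
theorem notMem_sect : ι' (genericPoint C') ∉ Set.range (P1.sect P j) := by
  rintro ⟨u, hu⟩
  have h1 := hC0 u ⟨_, hu.symm⟩
  have h2 := delta_sect' P δP δ' hδ' j u
  rw [hu, hr] at h2
  omega

theorem nontrivial_fibre {u : P} (h : P1.sect P j u ∈ Set.range ι') :
    Nontrivial (((Scheme.Modules.pullback (P1.sect P j)).obj
      ((Coh.push ι').obj (Coh.structureModule C'))).presheaf.stalk u) := by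
  haveI := isClosedImmersion_sect P j
  obtain ⟨c, hc⟩ := h
  have hgen : ι' (genericPoint C') ⤳ P1.sect P j u := hc ▸ (genericPoint_specializes c).map ι'.continuous
  obtain ⟨e⟩ := push_stalk_at ι' ⟨c, hc⟩ hgen
  letI := ((P1.sect P j).stalkMap u).hom.toAlgebra
  haveI : Nontrivial (((Coh.push ι').obj (Coh.structureModule C')).presheaf.stalk (P1.sect P j u)) :=
    haveI : Nontrivial (↑((CohB1.ProjSpaceOver 1 P).presheaf.stalk (P1.sect P j u)) ⧸ (ptPrime hgen).asIdeal) :=
      Ideal.Quotient.nontrivial_iff.2 (ptPrime hgen).2.ne_top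
    e.toEquiv.nontrivial
  let eS := ((Groth.L00.PullStalk.stalkIso (P1.sect P j) u).app
    ((Coh.push ι').obj (Coh.structureModule C'))).toLinearEquiv
  have hsurj : Function.Surjective (algebraMap ((CohB1.ProjSpaceOver 1 P).presheaf.stalk (P1.sect P j u))
      (P.presheaf.stalk u)) := (P1.sect P j).stalkMap_surjective u
  suffices h : Nontrivial (P.presheaf.stalk u ⊗[(CohB1.ProjSpaceOver 1 P).presheaf.stalk (P1.sect P j u)]
      ((Coh.push ι').obj (Coh.structureModule C')).presheaf.stalk (P1.sect P j u)) by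
    exact @Equiv.nontrivial _ _ eS.toEquiv h
  let Ay := (CohB1.ProjSpaceOver 1 P).presheaf.stalk (P1.sect P j u)
  let M := ((Coh.push ι').obj (Coh.structureModule C')).presheaf.stalk (P1.sect P j u)
  let κ : P.presheaf.stalk u ⊗[Ay] (↑Ay ⧸ (ptPrime hgen).asIdeal) ≃ₗ[Ay] P.presheaf.stalk u ⊗[Ay] M :=
    TensorProduct.congr (LinearEquiv.refl Ay _) e.symm
  haveI : Nontrivial (P.presheaf.stalk u ⊗[Ay] (↑Ay ⧸ (ptPrime hgen).asIdeal)) := by
    haveI : Nontrivial (↑(P.presheaf.stalk u) ⧸ (ptPrime hgen).asIdeal.map (algebraMap Ay (P.presheaf.stalk u))) := by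
      refine Ideal.Quotient.nontrivial_iff.2 (ne_top_of_le_ne_top (maximalIdeal.isMaximal _).ne_top
        (Ideal.map_le_iff_le_comap.2 fun a ha => ?_))
      exact (mem_maximalIdeal _).2 fun hu => (mem_maximalIdeal _).1 (le_maximalIdeal (ptPrime hgen).2.ne_top ha)
        ((isUnit_map_iff ((P1.sect P j).stalkMap u).hom a).1 hu)
    exact (Algebra.TensorProduct.quotIdealMapEquivTensorQuot (P.presheaf.stalk u)
      (ptPrime hgen).asIdeal).toEquiv.symm.nontrivial
  exact κ.toEquiv.symm.nontrivial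

theorem mem_of_nontrivial {u : P}
    (h : Nontrivial (((Scheme.Modules.pullback (P1.sect P j)).obj
      ((Coh.push ι').obj (Coh.structureModule C'))).presheaf.stalk u)) : P1.sect P j u ∈ Set.range ι' :=
  haveI := isClosedImmersion_sect P j
  Groth.L22.P1Sub.mem_range_of_nontrivial_push ι' (Groth.L22.P1Sub.nontrivial_of_pullback (P1.sect P j) h)

include hP' hδ' hr hC0 in
theorem exists_top_generization {u : P} (h : P1.sect P j u ∈ Set.range ι') :
    ∃ ξ : P, ξ ⤳ u ∧ δP ξ = r ∧ P1.sect P j ξ ∈ Set.range ι' := by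
  obtain ⟨c, hc⟩ := h
  obtain ⟨ξ, h1, h2, h3⟩ := exists_immediate δP δ' hP' hδ' j (v := ι' (genericPoint C')) (u := u)
    (hc ▸ (genericPoint_specializes c).map ι'.continuous) (notMem_sect δP δ' hP' hδ' j ι' r hr hC0)
  exact ⟨ξ, h1, by rw [hr] at h3; omega, h2.mem_closed ι'.isClosedEmbedding.isClosed_range ⟨_, rfl⟩⟩

variable {X : Scheme.{u}} [IsIntegral X] (ι : X ⟶ P) [IsClosedImmersion ι] (n : ℤ)
  (hn : δP (ι (genericPoint X)) = n) (ζX : ↥(CohB1.ProjSpaceOver 1 P))
  (hζ1 : CohB1.ProjSpaceOver.toBase 1 P ζX = ι (genericPoint X)) (hζ2 : δ' ζX = n + 1)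

include fP hP hP' hδ' hr hC0 hn in
omit [IsSeparated fP] [QuasiCompact fP] in
theorem triple_le
    (h3 : _root_.IntMult.IntersectProperly δP N (Cyc.subschemeFun δP r (pullback.snd ι' (P1.sect P j)))
      (Set.indicator {ι (genericPoint X)} 1)) (u : P) (hu : P1.sect P j u ∈ Set.range ι')
    (hu' : ι (genericPoint X) ⤳ u) : δP u ≤ r + n - N := by
  haveI := hP.1
  haveI := hP'.1
  haveI : IsLocallyNoetherian C' := LocallyOfFiniteType.isLocallyNoetherian ι'
  obtain ⟨ξ, hξu, hξr, hξC⟩ := exists_top_generization δP δ' hP' hδ' j ι' r hr hC0 hu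
  have hne : Cyc.subschemeFun δP r (pullback.snd ι' (P1.sect P j)) ξ ≠ 0 := by
    haveI := isClosedImmersion_sect P j
    obtain ⟨L, σ, hL, hσ⟩ := Groth.L22.P1Zero.exists_sections P
    rw [Groth.L22.P1Sub.subschemeFun_snd ι' (P1.sect P j) hL (hσ j).2, Cyc.sheafFun, if_pos hξr]
    let F := (Scheme.Modules.pullback (P1.sect P j)).obj ((Coh.push ι').obj (Coh.structureModule C'))
    have hF : Coh.IsCoh F :=
      Groth.L16.AffineBC.isCoh_pullback _ (Groth.L16.CohClosedPush.isCoh_push ι' Groth.L16.CohClosedPush.isCoh_structure)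
    haveI := Groth.L15.Ref.finite_stalk hF ξ
    haveI : IsRegularLocalRing (P.presheaf.stalk ξ) := Groth.L21.Smooth.regular_stalk fP ξ
    haveI : Nontrivial (F.presheaf.stalk ξ) := nontrivial_fibre j ι' hξC
    have hfin : Module.length (P.presheaf.stalk ξ) (F.presheaf.stalk ξ) ≠ ⊤ :=
      length_ne_top_of_support _ fun p hp => by
        have h1 := hC0 _ (mem_of_nontrivial j ι' ((mem_support_iff_nontrivial hF p).1 hp))
        have heq := eq_of_delta δP hP (specializes_fromSpecStalk p) (by rw [hξr]; exact h1)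
        exact congrArg PrimeSpectrum.asIdeal
          ((P.fromSpecStalk ξ).isEmbedding.injective (heq.trans Scheme.fromSpecStalk_closedPoint.symm) :
            p = closedPoint _)
    have hpos : Module.length (P.presheaf.stalk ξ) (F.presheaf.stalk ξ) ≠ 0 :=
      Module.length_pos.ne'
    exact_mod_cast fun e => (ENat.toNat_eq_zero.1 e).elim hpos hfin
  have h := h3 ξ (ι (genericPoint X)) u hne (by simp) hξu hu'
  rw [hξr, hn] at h
  exact h

include fP hP hP' hδ' hr hC0 hn hζ1 hζ2 in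
/-- The local value: on `P × P¹` against the section, and on `P`. -/
theorem fibre_value (z : P) (hzC : P1.sect P j z ∈ Set.range ι') (hzX : ι (genericPoint X) ⤳ z)
    (hZ : ζX ⤳ P1.sect P j z) (hC : ι' (genericPoint C') ⤳ P1.sect P j z)
    (h0 : P1.sect P j (genericPoint P) ⤳ P1.sect P j z)
    [IsRegularLocalRing ((CohB1.ProjSpaceOver 1 P).presheaf.stalk (P1.sect P j z))]
    (hmeet : Meet3 (A := (CohB1.ProjSpaceOver 1 P).presheaf.stalk (P1.sect P j z))
      (↑((CohB1.ProjSpaceOver 1 P).presheaf.stalk (P1.sect P j z)) ⧸ (ptPrime hZ).asIdeal)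
      (↑((CohB1.ProjSpaceOver 1 P).presheaf.stalk (P1.sect P j z)) ⧸ (ptPrime hC).asIdeal)
      (↑((CohB1.ProjSpaceOver 1 P).presheaf.stalk (P1.sect P j z)) ⧸ (ptPrime h0).asIdeal)) :
    tri (A := (CohB1.ProjSpaceOver 1 P).presheaf.stalk (P1.sect P j z))
      (↑((CohB1.ProjSpaceOver 1 P).presheaf.stalk (P1.sect P j z)) ⧸ (ptPrime hZ).asIdeal)
      (↑((CohB1.ProjSpaceOver 1 P).presheaf.stalk (P1.sect P j z)) ⧸ (ptPrime hC).asIdeal)
      (↑((CohB1.ProjSpaceOver 1 P).presheaf.stalk (P1.sect P j z)) ⧸ (ptPrime h0).asIdeal) =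
    _root_.IntMult.chi (P.presheaf.stalk z)
      (((Scheme.Modules.pullback (P1.sect P j)).obj
        ((Coh.push ι').obj (Coh.structureModule C'))).presheaf.stalk z)
      (((Coh.push ι).obj (Coh.structureModule X)).presheaf.stalk z) := by
  haveI hs : IsClosedImmersion (P1.sect P j) := isClosedImmersion_sect P j
  haveI := hP.1
  haveI := hP'.1
  let A' := (CohB1.ProjSpaceOver 1 P).presheaf.stalk (P1.sect P j z)
  haveI : IsDomain A' := Groth.L01.isDomain_of_regular A'
  haveI : IsRegularLocalRing (P.presheaf.stalk z) := Groth.L21.Smooth.regular_stalk fP z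
  haveI : IsLocallyNoetherian C' := LocallyOfFiniteType.isLocallyNoetherian ι'
  letI : Algebra A' (P.presheaf.stalk z) := ((P1.sect P j).stalkMap z).hom.toAlgebra
  have hsurj : Function.Surjective (algebraMap A' (P.presheaf.stalk z)) := (P1.sect P j).stalkMap_surjective z
  let Fc := (Coh.push ι').obj (Coh.structureModule C')
  let F := (Scheme.Modules.pullback (P1.sect P j)).obj Fc
  let G := (Coh.push ι).obj (Coh.structureModule X)
  obtain ⟨c, hc⟩ := hzC
  have h0r : ∀ y, P1.sect P j (genericPoint P) ⤳ y → y ∈ Set.range (P1.sect P j) := fun y hy =>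
    hy.mem_closed (P1.sect P j).isClosedEmbedding.isClosed_range ⟨_, rfl⟩
  obtain ⟨g, hg⟩ := exists_equation P j z
  have hker : (ptPrime h0).asIdeal = Ideal.span {g} := (ker_stalkMap_eq_ptPrime (P1.sect P j) z).symm.trans hg
  have hmem : ∀ {v} (hv : v ⤳ P1.sect P j z), g ∈ (ptPrime hv).asIdeal → v ∈ Set.range (P1.sect P j) := fun {v} hv hgv => by
    have h := (ptPrime_le_iff h0 (ptPrime hv)).1 (show _ ≤ (ptPrime hv).asIdeal by
      rw [hker]; exact (Ideal.span_singleton_le_iff_mem _).2 hgv)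
    rw [fromSpecStalk_ptPrime] at h
    exact h0r v h
  have hgC : g ∉ (ptPrime hC).asIdeal := fun h => notMem_sect δP δ' hP' hδ' j ι' r hr hC0 (hmem hC h)
  have hgZ : g ∉ (ptPrime hZ).asIdeal := fun h => by
    obtain ⟨v, hv⟩ := hmem hZ h
    have h1 : v = ι (genericPoint X) := by
      rw [← hζ1, ← hv, Groth.L22.P1Rat.toBase_sect P j v]
    have := delta_sect' P δP δ' hδ' j v
    rw [hv, hζ2, h1, hn] at this
    omega
  let MZ := ↑A' ⧸ (ptPrime hZ).asIdeal
  let MC := ↑A' ⧸ (ptPrime hC).asIdeal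
  have hreg : ∀ p : PrimeSpectrum A', g ∉ p.asIdeal → IsSMulRegular (↑A' ⧸ p.asIdeal) g := fun p hp a b hab => by
    obtain ⟨a, rfl⟩ := Ideal.Quotient.mk_surjective a
    obtain ⟨b, rfl⟩ := Ideal.Quotient.mk_surjective b
    have h : g * a - g * b ∈ p.asIdeal := Ideal.Quotient.eq.1 hab
    rw [← mul_sub] at h
    exact Ideal.Quotient.eq.2 ((p.2.mem_or_mem h).resolve_left hp)
  have hg0 : g ≠ 0 := fun e => hgC (e ▸ Ideal.zero_mem _)
  have hgA : IsSMulRegular A' g := fun a b hab => mul_left_cancel₀ hg0 hab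
  have hI : (Ideal.span {g} : Submodule A' A') = LinearMap.range (sx g A') := by
    rw [range_sx, ← Submodule.ideal_span_singleton_smul, smul_eq_mul, Ideal.mul_top]
  let e0 : (↑A' ⧸ (ptPrime h0).asIdeal) ≃ₗ[A'] ↑A' ⧸ LinearMap.range (sx g A') :=
    Submodule.quotEquivOfEq _ _ (hker.trans hI)
  have hm1 : Meet3 (A := A') MZ MC (↑A' ⧸ LinearMap.range (sx g A')) := fun p h1 h1' h1'' =>
    hmeet p h1 h1' (by rw [e0.support_eq]; exact h1'')
  have hm2 : Meet3 (A := A') MZ A' (MC ⧸ LinearMap.range (sx g MC)) := fun p h1 _ h1'' => by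
    obtain ⟨h4, h5⟩ := mem_support_range_sx.1 h1''
    exact hm1 p h1 h4 (mem_support_range_sx.2 ⟨by rw [Module.support_of_algebra]; exact fun x hx => (show x = 0 from hx) ▸ zero_mem _, h5⟩)
  rw [tri_congr (LinearEquiv.refl A' MZ) (LinearEquiv.refl A' MC) e0,
    tri_regular (hreg (ptPrime hC) hgC) hgA hm1 hm2, tri_self_middle]
  -- passing to the zero section
  let l := Algebra.linearMap A' (P.presheaf.stalk z)
  have hlk : LinearMap.ker l = Ideal.span {g} := hg
  let eB : (↑A' ⧸ LinearMap.range (sx g A')) ≃ₗ[A'] P.presheaf.stalk z :=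
    (Submodule.quotEquivOfEq _ _ (hlk.trans hI).symm).trans (l.quotKerEquivOfSurjective hsurj)
  have hvan : ∀ i : ℕ, 0 < i → Subsingleton (DRing.Tor A' i MZ (P.presheaf.stalk z)) := fun i hi =>
    haveI := subsingleton_tor_quot (A := A') hgA (hreg (ptPrime hZ) hgZ) i hi
    (torCongr i (LinearEquiv.refl A' MZ) eB).symm.injective.subsingleton
  obtain ⟨eC⟩ := push_stalk_at ι' ⟨c, hc⟩ hC
  let N := P.presheaf.stalk z ⊗[A'] Fc.presheaf.stalk (P1.sect P j z)
  let eN : N ≃ₗ[A'] MC ⧸ LinearMap.range (sx g MC) :=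
    (TensorProduct.congr ((Submodule.quotEquivOfEq _ _ hlk.symm).trans (l.quotKerEquivOfSurjective hsurj)).symm eC).trans
      ((TensorProduct.quotTensorEquivQuotSMul MC (Ideal.span {g})).trans
        (Submodule.quotEquivOfEq _ _ (by rw [range_sx, Submodule.ideal_span_singleton_smul])))
  rw [chi_congr (LinearEquiv.refl A' MZ) eN.symm, chi_surjective hsurj hvan N]
  obtain ⟨eG⟩ := push_stalk_at ι (hzX.mem_closed ι.isClosedEmbedding.isClosed_range ⟨_, rfl⟩) hzX
  let eZ : (P.presheaf.stalk z ⊗[A'] MZ) ≃ₗ[P.presheaf.stalk z] ↑(P.presheaf.stalk z) ⧸ (ptPrime hzX).asIdeal :=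
    ((Algebra.TensorProduct.quotIdealMapEquivTensorQuot (P.presheaf.stalk z) (ptPrime hZ).asIdeal).toLinearEquiv.symm).trans
      (Submodule.quotEquivOfEq _ _ (map_ptPrime_sect P δP δ' hδ' hP' j hζ1 (by rw [hζ2, hn]) hzX hZ))
  let eF : F.presheaf.stalk z ≃ₗ[P.presheaf.stalk z] N :=
    ((Groth.L00.PullStalk.stalkIso (P1.sect P j) z).app Fc).toLinearEquiv
  rw [chi_congr (eZ.trans eG.symm) eF.symm, chi_comm]


variable (NP rn nn : ℕ)

include fP hP hδP hP' hδ' hn hζ1 hζ2 in
theorem fibre_zero_eq [QuasiCompact (CohB1.ProjSpaceOver.toBase 1 P)] (hNP : δP (genericPoint P) = NP)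
    (hr : δ' (ι' (genericPoint C')) = rn + 1)
    (hC0 : ∀ w : ↥(pullback ι' (P1.sect P 0)), δP (pullback.snd ι' (P1.sect P 0) w) ≤ rn) (hnn : n = nn)
    (h2 : _root_.IntMult.ProperInt (closure {ι' (genericPoint C')})
      (⇑(CohB1.ProjSpaceOver.toBase 1 P) ⁻¹' Set.range ⇑ι) (NP + 1) (rn + 1) (nn + 1))
    (h3 : _root_.IntMult.IntersectProperly δP NP (Cyc.subschemeFun δP rn (pullback.snd ι' (P1.sect P 0)))
      (Set.indicator {ι (genericPoint X)} 1))
    (B : AlgebraicCycle (CohB1.ProjSpaceOver 1 P) ℤ)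
    (hB : ⇑B = _root_.IntMult.interProd δ' (NP + 1)
      (_root_.IntMult.interProd δ' (NP + 1) (Set.indicator {ι' (genericPoint C')} 1) (Set.indicator {ζX} 1))
      (Set.indicator {P1.sect P 0 (genericPoint P)} 1)) :
    ⇑(AlgebraicCycle.map (CohB1.ProjSpaceOver.toBase 1 P) δ' δP B) =
      _root_.IntMult.interProd δP NP (Cyc.subschemeFun δP rn (pullback.snd ι' (P1.sect P 0)))
        (Set.indicator {ι (genericPoint X)} 1) := by
  subst hnn
  have hC0' : ∀ u : P, P1.sect P 0 u ∈ Set.range ι' → δP u ≤ (rn : ℤ) := fun u h => by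
    have h' : u ∈ Set.range (pullback.snd ι' (P1.sect P 0)) := by
      rw [Scheme.Pullback.range_snd]
      exact h
    obtain ⟨w, rfl⟩ := h'
    exact hC0 w
  haveI hs : IsClosedImmersion (P1.sect P 0) := isClosedImmersion_sect P 0
  haveI := hP.1
  haveI := hP'.1
  haveI hsm : Smooth (CohB1.ProjSpaceOver.toBase 1 P) := Groth.L16.ProjSpace.smooth_toBase (n := 1) (S := P)
  haveI : IsProper (CohB1.ProjSpaceOver.toBase 1 P) := Groth.L16.ProjSpace.isProper_toBase 1 P
  let q := CohB1.ProjSpaceOver.toBase 1 P ≫ fP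
  haveI : IsLocallyNoetherian C' := LocallyOfFiniteType.isLocallyNoetherian ι'
  haveI : IsLocallyNoetherian X := LocallyOfFiniteType.isLocallyNoetherian ι
  haveI : IsIntegral (CohB1.ProjSpaceOver 1 P) := isIntegral_line P fP
  have hδq : Cyc.DeltaCompat q δ' (fun _ => 0) := deltaCompat_trans _ fP hδ' hδP
  have hgQ : δ' (genericPoint (CohB1.ProjSpaceOver 1 P)) = (NP : ℤ) + 1 := by
    rw [delta_genericPoint P δP δ' hδ' hP', hNP]
  have hd0 := delta_sect' P δP δ' hδ' 0
  have hd0g : δ' (P1.sect P 0 (genericPoint P)) = NP := by rw [hd0, hNP]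
  have hXs : ∀ z : P, ι (genericPoint X) ⤳ z → ζX ⤳ P1.sect P 0 z := fun z hz =>
    (specializes_sect P δP δ' hδ' hP' 0 hζ1 (by rw [hζ2, hn])).trans (hz.map (P1.sect P 0).continuous)
  have hXp : ∀ y : ↥(CohB1.ProjSpaceOver 1 P), ζX ⤳ y →
      ι (genericPoint X) ⤳ CohB1.ProjSpaceOver.toBase 1 P y := fun y hy =>
    hζ1 ▸ hy.map (CohB1.ProjSpaceOver.toBase 1 P).continuous
  have hXr : ∀ z : P, z ∈ Set.range ι → ι (genericPoint X) ⤳ z := fun z ⟨x, hx⟩ =>
    hx ▸ (genericPoint_specializes x).map ι.continuous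
  have hCr : ∀ y, ι' (genericPoint C') ⤳ y → y ∈ Set.range ι' := fun y hy =>
    hy.mem_closed ι'.isClosedEmbedding.isClosed_range ⟨_, rfl⟩
  have h0r : ∀ y, P1.sect P 0 (genericPoint P) ⤳ y → y ∈ Set.range (P1.sect P 0) := fun y hy =>
    hy.mem_closed (P1.sect P 0).isClosedEmbedding.isClosed_range ⟨_, rfl⟩
  have hbc : ∀ y, ι' (genericPoint C') ⤳ y → P1.sect P 0 (genericPoint P) ⤳ y →
      δ' y ≤ δ' (ι' (genericPoint C')) + δ' (P1.sect P 0 (genericPoint P)) - ((NP : ℤ) + 1) := fun y h1 h2' => by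
    obtain ⟨u, rfl⟩ := h0r y h2'
    have := hC0' _ (hCr _ h1)
    rw [hr, hd0g, hd0]
    omega
  have hab : ∀ y, ζX ⤳ y → ι' (genericPoint C') ⤳ y →
      δ' y ≤ δ' ζX + δ' (ι' (genericPoint C')) - ((NP : ℤ) + 1) := fun y h1 h1' => by
    have hy : y ∈ closure {ι' (genericPoint C')} ∩
        ⇑(CohB1.ProjSpaceOver.toBase 1 P) ⁻¹' Set.range ⇑ι :=
      ⟨h1'.mem_closure, (hXp y h1).mem_closed ι.isClosedEmbedding.isClosed_range ⟨_, rfl⟩⟩
    obtain ⟨hle, hdim⟩ := h2 ⟨y, hy⟩
    obtain ⟨d, hd, hdy⟩ := Groth.Agent.S1919.delta_eq_dim K _ q δ' hδq y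
    have hsub : closure ({y} : Set ↥(CohB1.ProjSpaceOver 1 P)) ⊆ closure {ι' (genericPoint C')} ∩
        ⇑(CohB1.ProjSpaceOver.toBase 1 P) ⁻¹' Set.range ⇑ι :=
      closure_minimal (Set.singleton_subset_iff.2 hy) (isClosed_closure.inter
        (ι.isClosedEmbedding.isClosed_range.preimage (CohB1.ProjSpaceOver.toBase 1 P).continuous))
    have h := ((Topology.IsEmbedding.inclusion hsub).isInducing.topologicalKrullDim_le).trans hdim
    rw [hd] at h
    have : d ≤ rn + 1 + (nn + 1) - (NP + 1) := by exact_mod_cast h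
    rw [hr, hζ2, hdy]
    omega
  have htriple := triple_le fP δP hP (NP : ℤ) δ' hP' hδ' 0 ι' (rn : ℤ) hr hC0' ι (nn : ℤ) hn h3
  have hkey : ∀ y : ↥(CohB1.ProjSpaceOver 1 P), _root_.IntMult.interProd δ' ((NP : ℤ) + 1)
      (_root_.IntMult.interProd δ' ((NP : ℤ) + 1) (Set.indicator {ι' (genericPoint C')} 1) (Set.indicator {ζX} 1))
      (Set.indicator {P1.sect P 0 (genericPoint P)} 1) y =
      _root_.IntMult.interProd δ' ((NP : ℤ) + 1) (Set.indicator {ζX} 1)
      (_root_.IntMult.interProd δ' ((NP : ℤ) + 1) (Set.indicator {ι' (genericPoint C')} 1)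
        (Set.indicator {P1.sect P 0 (genericPoint P)} 1)) y := fun y => by
    rw [interProd_comm δ' _ (Set.indicator {ι' (genericPoint C')} 1) (Set.indicator {ζX} 1)]
    refine (congrFun (interProd_assoc q δ' hδq hP' _ hgQ ζX (ι' (genericPoint C')) (P1.sect P 0 (genericPoint P))
      hab hbc fun z h1 h1' h1'' => ?_) y).symm
    obtain ⟨u, rfl⟩ := h0r z h1''
    have h := htriple u (hCr _ h1') (by
      have := hXp _ h1
      rwa [Groth.L22.P1Rat.toBase_sect P 0 u] at this)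
    rw [hd0, hζ2, hr, hd0g]
    linarith
  funext z
  rw [Groth.L22.P1Rat.map_eq_of_support_sect P hδ' 0 B (fun y hy => ?_) z, hB, hkey]
  rotate_left
  · rw [hB, hkey]
    refine interProd_left_eq_zero δ' _ fun h => hy (h0r y h.2.2.1)
  obtain ⟨L, σ, hL, hσ⟩ := Groth.L22.P1Zero.exists_sections P
  let Fc := (Coh.push ι').obj (Coh.structureModule C')
  let F := (Scheme.Modules.pullback (P1.sect P 0)).obj Fc
  let G := (Coh.push ι).obj (Coh.structureModule X)
  have hFc : Coh.IsCoh Fc := Groth.L16.CohClosedPush.isCoh_push ι' Groth.L16.CohClosedPush.isCoh_structure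
  have hF : Coh.IsCoh F := Groth.L16.AffineBC.isCoh_pullback _ hFc
  have hG : Coh.IsCoh G := Groth.L16.CohClosedPush.isCoh_push ι Groth.L16.CohClosedPush.isCoh_structure
  have hGr : ∀ x, Nontrivial (G.presheaf.stalk x) → x ∈ Set.range ι := fun x hx =>
    Groth.L22.P1Sub.mem_range_of_nontrivial_push ι hx
  rw [Groth.L22.P1Sub.subschemeFun_snd ι' (P1.sect P 0) hL (hσ 0).2 δP rn,
    ← sheafFun_push_integral ι δP hP (nn : ℤ) hn,
    (sheaf_formula fP δP hδP hP NP hNP F G hF hG rn nn (fun x hx => hC0' _ (mem_of_nontrivial 0 ι' hx))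
      (fun x hx => hn ▸ delta_le fP δP hδP (hXr x (hGr x hx)))
      (fun x hx hx' => htriple x (mem_of_nontrivial 0 ι' hx) (hXr x (hGr x hx')))).2 z]
  -- the degenerate cases
  by_cases hcase : P1.sect P 0 z ∈ Set.range ι' ∧ ι (genericPoint X) ⤳ z ∧ δP z = (rn : ℤ) + nn - NP
  swap
  · rw [interProd_left_eq_zero δ' _ fun h => hcase ⟨hCr _ h.2.1, by
        have := hXp _ h.1
        rwa [Groth.L22.P1Rat.toBase_sect P 0 z] at this, by
        have := h.2.2.2
        rw [hd0, hζ2, hr, hd0g] at this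
        linarith⟩]
    split_ifs with hd
    · symm
      refine chi_eq_zero_of_subsingleton _ _ ?_
      by_contra hnt
      rw [not_or, not_subsingleton_iff_nontrivial, not_subsingleton_iff_nontrivial] at hnt
      exact hcase ⟨mem_of_nontrivial 0 ι' hnt.1, hXr z (hGr z hnt.2), hd⟩
    · rfl
  obtain ⟨hzC, hzX, hzd⟩ := hcase
  rw [if_pos hzd]
  -- the main case
  let A' := (CohB1.ProjSpaceOver 1 P).presheaf.stalk (P1.sect P 0 z)
  haveI : IsRegularLocalRing A' := Groth.L21.Smooth.regular_stalk q (P1.sect P 0 z)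
  have hZ := hXs z hzX
  have h0 : P1.sect P 0 (genericPoint P) ⤳ P1.sect P 0 z :=
    (genericPoint_specializes z).map (P1.sect P 0).continuous
  obtain ⟨c, hc⟩ := hzC
  have hC : ι' (genericPoint C') ⤳ P1.sect P 0 z := hc ▸ (genericPoint_specializes c).map ι'.continuous
  have hm : ∀ w, ζX ⤳ w → ι' (genericPoint C') ⤳ w → P1.sect P 0 (genericPoint P) ⤳ w →
      δ' w ≤ δ' (P1.sect P 0 z) := fun w h1 h1' h1'' => by
    obtain ⟨u, rfl⟩ := h0r w h1''
    rw [hd0, hd0, hzd]
    exact htriple u (hCr _ h1') (by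
      have := hXp _ h1
      rwa [Groth.L22.P1Rat.toBase_sect P 0 u] at this)
  rw [interProd_left_eq q δ' hδq hP' _ hgQ hZ hC h0 (by rw [hd0, hζ2, hr, hd0g]; linarith) (fun w h1 h1' _ => hbc w h1 h1') hm]
  exact fibre_value fP δP hP δ' hP' hδ' 0 ι' rn hr hC0' ι nn hn ζX hζ1 hζ2 z ⟨c, hc⟩ hzX hZ hC h0
    (meet3_pt δ' hP' hZ hC h0 hm)

end Groth.L22.IntMult.P1F
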