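import Groth.Agent.L22.IntMult.FlatTor
import Groth.Agent.L22.IntMult.FlatShift
import Groth.Agent.L22.Kron.Prod
import Groth.Agent.L22.ExtProd.Rat
import Groth.Agent.S6477

/-!
Intersection of cycles pulled back from the two factors of a product.
-/

set_option autoImplicit false
set_option linter.style.haveILetI false
set_option backward.isDefEq.respectTransparency false

universe u

open CategoryTheory CategoryTheory.Limits AlgebraicGeometry IsLocalRing
open scoped TensorProduct
open Groth.L22.Chern (Shift)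

noncomputable section

namespace Groth.L22.IntMult

variable {K : Type u} [Field K] {X Y P : Scheme.{u}} {q1 : P ⟶ X} {q2 : P ⟶ Y}
  {f : X ⟶ Spec (CommRingCat.of K)} {g : Y ⟶ Spec (CommRingCat.of K)}
  [LocallyOfFiniteType f] [LocallyOfFiniteType g] (sq : IsPullback q1 q2 f g)

include sq in
/-- Flatness over the second factor of the part over a point of the first. -/
theorem flat_fibre_quot (z : P) :
    ((Ideal.Quotient.mk ((maximalIdeal (X.presheaf.stalk (q1 z))).map (q1.stalkMap z).hom)).comp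
      (q2.stalkMap z).hom).Flat := by
  let W := Groth.L22.Cyc.clSub (q1 z)
  let ι : W ⟶ X := Groth.L22.Cyc.clι (q1 z)
  let j : pullback q1 ι ⟶ P := pullback.fst q1 ι
  let qW : pullback q1 ι ⟶ W := pullback.snd q1 ι
  obtain ⟨w, hw⟩ : z ∈ Set.range j := (Scheme.Pullback.range_fst q1 ι).ge ⟨_, Groth.L22.Cyc.clι_genericPoint _⟩
  haveI hfl : Flat (j ≫ q2) := Groth.L22.Kron.flat_piece sq.flip (IsPullback.of_hasPullback q1 ι)
  have hq : q1 (j w) = ι (qW w) := congrArg (fun m : pullback q1 ι ⟶ X => m w) pullback.condition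
  have hg : qW w = genericPoint W := ι.isClosedEmbedding.injective
    (hq.symm.trans ((congrArg q1 hw).trans (Groth.L22.Cyc.clι_genericPoint _).symm))
  have hη : Groth.L20.SeeNormal.sI ι.ker (ι (qW w)) = maximalIdeal (X.presheaf.stalk (ι (qW w))) := by
    rw [← Groth.L20.Infinitesimal.ker_stalkMap]
    have hf : IsField (W.presheaf.stalk (qW w)) := by
      rw [hg]
      exact Field.toIsField W.functionField
    exact IsLocalRing.eq_maximalIdeal
      (Ideal.Quotient.maximal_of_isField _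
        ((RingHom.quotientKerEquivOfSurjective (ι.stalkMap_surjective (qW w))).toMulEquiv.isField hf))
  have hker : RingHom.ker (j.stalkMap w).hom =
      (maximalIdeal (X.presheaf.stalk (q1 (j w)))).map (q1.stalkMap (j w)).hom := by
    rw [Groth.L22.C1.ker_stalkMap_fst]
    refine congrArg (Ideal.map _) ?_
    show Groth.L20.SeeNormal.sI ι.ker (q1 (j w)) = maximalIdeal (X.presheaf.stalk (q1 (j w)))
    rw [hq, hη]
  rw [← hw]
  have hfl' : ((j.stalkMap w).hom.comp (q2.stalkMap (j w)).hom).Flat := by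
    have h := Flat.stalkMap (j ≫ q2) w
    rw [Scheme.Hom.stalkMap_comp] at h
    exact h
  let e := (Ideal.quotEquivOfEq hker.symm).trans (RingHom.quotientKerEquivOfSurjective (j.stalkMap_surjective w))
  exact (RingHom.Flat.comp_iff_of_bijective_left (g := e.toRingHom) e.bijective).1 hfl'

theorem nontrivial_of_pullback {V Z : Scheme.{u}} (p : V ⟶ Z) (H : Z.Modules) (v : V)
    (h : Nontrivial (((Scheme.Modules.pullback p).obj H).presheaf.stalk v)) :
    Nontrivial (H.presheaf.stalk (p v)) := by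
  letI : Algebra (Z.presheaf.stalk (p v)) (V.presheaf.stalk v) := (p.stalkMap v).hom.toAlgebra
  by_contra h0
  haveI := not_nontrivial_iff_subsingleton.1 h0
  haveI : Subsingleton (V.presheaf.stalk v ⊗[Z.presheaf.stalk (p v)] H.presheaf.stalk (p v)) :=
    subsingleton_of_forall_eq 0 fun z => by
      induction z using TensorProduct.induction_on with
      | zero => rfl
      | tmul a b => rw [Subsingleton.elim b 0, TensorProduct.tmul_zero]
      | add a b ha hb => rw [ha, hb, add_zero]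
  let eH : ((Scheme.Modules.pullback p).obj H).presheaf.stalk v ≃ₗ[V.presheaf.stalk v]
      V.presheaf.stalk v ⊗[Z.presheaf.stalk (p v)] H.presheaf.stalk (p v) :=
    ((Groth.L00.PullStalk.stalkIso p v).app H).toLinearEquiv
  exact not_subsingleton_iff_nontrivial.2 h eH.injective.subsingleton

/-- The stalk of a module whose cycle is a point, at that point. -/
theorem stalk_residue {Z : Scheme.{u}} (δ : Z → ℤ) (F : Z.Modules) (ξ : Z)
    (h : Cyc.sheafFun δ (δ ξ) F = ind ξ) :
    Nonempty (F.presheaf.stalk ξ ≃ₗ[Z.presheaf.stalk ξ]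
      Z.presheaf.stalk ξ ⧸ maximalIdeal (Z.presheaf.stalk ξ)) := by
  have h1 := congrFun h ξ
  rw [Cyc.sheafFun, if_pos rfl, ind, if_pos rfl] at h1
  have h2 : (Module.length (Z.presheaf.stalk ξ) (F.presheaf.stalk ξ)).toNat = 1 := by exact_mod_cast h1
  have h3 : Module.length (Z.presheaf.stalk ξ) (F.presheaf.stalk ξ) = 1 := by
    rw [← ENat.coe_toNat (n := Module.length (Z.presheaf.stalk ξ) (F.presheaf.stalk ξ)) fun e => by
      rw [e] at h2; exact absurd h2 (by simp), h2]
    rfl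
  obtain ⟨m, hm, ⟨e⟩⟩ := isSimpleModule_iff_quot_maximal.1 (Module.length_eq_one_iff.1 h3)
  exact ⟨e.trans (Submodule.quotEquivOfEq _ _ (IsLocalRing.eq_maximalIdeal hm))⟩

include sq in
theorem chi_prod [Flat q1] [Flat q2] (F : X.Modules) (G : Y.Modules) (z : P)
    (eF : F.presheaf.stalk (q1 z) ≃ₗ[X.presheaf.stalk (q1 z)]
      X.presheaf.stalk (q1 z) ⧸ maximalIdeal (X.presheaf.stalk (q1 z)))
    (eG : G.presheaf.stalk (q2 z) ≃ₗ[Y.presheaf.stalk (q2 z)]
      Y.presheaf.stalk (q2 z) ⧸ maximalIdeal (Y.presheaf.stalk (q2 z))) :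
    _root_.IntMult.chi (P.presheaf.stalk z) (((Scheme.Modules.pullback q1).obj F).presheaf.stalk z)
      (((Scheme.Modules.pullback q2).obj G).presheaf.stalk z) = Groth.L22.Kron.lenSup q1 q2 z := by
  let I := (maximalIdeal (X.presheaf.stalk (q1 z))).map (q1.stalkMap z).hom
  let J := (maximalIdeal (Y.presheaf.stalk (q2 z))).map (q2.stalkMap z).hom
  letI : Algebra (X.presheaf.stalk (q1 z)) (P.presheaf.stalk z) := (q1.stalkMap z).hom.toAlgebra
  letI : Algebra (Y.presheaf.stalk (q2 z)) (P.presheaf.stalk z) := (q2.stalkMap z).hom.toAlgebra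
  haveI : Module.Flat (Y.presheaf.stalk (q2 z)) (P.presheaf.stalk z) := Flat.stalkMap q2 z
  haveI : Module.Flat (Y.presheaf.stalk (q2 z)) (P.presheaf.stalk z ⧸ I) := flat_fibre_quot sq z
  let eF1 : ((Scheme.Modules.pullback q1).obj F).presheaf.stalk z ≃ₗ[P.presheaf.stalk z]
      P.presheaf.stalk z ⊗[X.presheaf.stalk (q1 z)] F.presheaf.stalk (q1 z) :=
    ((Groth.L00.PullStalk.stalkIso q1 z).app F).toLinearEquiv
  let eG1 : ((Scheme.Modules.pullback q2).obj G).presheaf.stalk z ≃ₗ[P.presheaf.stalk z]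
      P.presheaf.stalk z ⊗[Y.presheaf.stalk (q2 z)] G.presheaf.stalk (q2 z) :=
    ((Groth.L00.PullStalk.stalkIso q2 z).app G).toLinearEquiv
  let eI : ((Scheme.Modules.pullback q1).obj F).presheaf.stalk z ≃ₗ[P.presheaf.stalk z] P.presheaf.stalk z ⧸ I :=
    eF1.trans ((TensorProduct.AlgebraTensorModule.congr (LinearEquiv.refl _ (P.presheaf.stalk z)) eF).trans
      (Algebra.TensorProduct.quotIdealMapEquivTensorQuot (P.presheaf.stalk z)
        (maximalIdeal (X.presheaf.stalk (q1 z)))).toLinearEquiv.symm)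
  let eJ' : P.presheaf.stalk z ⊗[Y.presheaf.stalk (q2 z)] G.presheaf.stalk (q2 z) ≃ₗ[P.presheaf.stalk z]
      P.presheaf.stalk z ⧸ J :=
    (TensorProduct.AlgebraTensorModule.congr (LinearEquiv.refl _ (P.presheaf.stalk z)) eG).trans
      (Algebra.TensorProduct.quotIdealMapEquivTensorQuot (P.presheaf.stalk z)
        (maximalIdeal (Y.presheaf.stalk (q2 z)))).toLinearEquiv.symm
  let e := (Algebra.TensorProduct.quotIdealMapEquivTensorQuot (P.presheaf.stalk z ⧸ I) J).toLinearEquiv.restrictScalars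
    (P.presheaf.stalk z)
  rw [chi_congr eI eG1, chi_flat_left, (TensorProduct.congr (LinearEquiv.refl _ _) eJ').length_eq, ← e.length_eq,
    Groth.L22.Kron.lenSup]
  congr 2
  exact (DoubleQuot.quotQuotEquivQuotSupₐ (P.presheaf.stalk z) I J).toLinearEquiv.length_eq

variable {δX : X → ℤ} {δY : Y → ℤ} {δP : P → ℤ}
  (hX : Cyc.DeltaCompat f δX fun _ => 0) (hY : Cyc.DeltaCompat g δY fun _ => 0)
  (hP : Cyc.DeltaCompat (q1 ≫ f) δP fun _ => 0)

include sq hX hY hP in
theorem le_prod [IsLocallyNoetherian P] (hdP : Cyc.IsDimFun P δP) (z : P) : δP z ≤ δX (q1 z) + δY (q2 z) := by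
  let ι := Groth.L22.Cyc.clι (q2 z)
  haveI : IsLocallyNoetherian (pullback q2 ι) := LocallyOfFiniteType.isLocallyNoetherian (pullback.fst q2 ι)
  have hsh := Groth.L22.Kron.shift_piece sq hX hY hP (IsPullback.of_hasPullback q2 ι)
  obtain ⟨w, hw⟩ : z ∈ Set.range (pullback.fst q2 ι) := by
    rw [Scheme.Pullback.range_fst, Set.mem_preimage]
    exact ⟨genericPoint _, Groth.L22.Cyc.clι_genericPoint _⟩
  have hd : Cyc.IsDimFun (pullback q2 ι) (fun t => δP (pullback.fst q2 ι t)) :=
    Groth.L22.Cyc.isDimFun_closedImmersion (pullback.fst q2 ι) hdP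
  have h := Groth.L22.Cyc.le_shift (p := pullback.fst q2 ι ≫ q1) hd hsh w
  rw [Groth.L22.Cyc.clι_genericPoint] at h
  simp only [Scheme.Hom.comp_apply, hw] at h
  exact h


include sq hX hY hP in
/-- The dimension of the product. -/
theorem delta_generic_prod [IsIntegral X] [IsIntegral Y] [IsIntegral P] [IsLocallyNoetherian P] [Flat q1] :
    δP (genericPoint P) = δX (genericPoint X) + δY (genericPoint Y) := by
  have hsh := Groth.L22.Kron.shift_piece sq hX hY hP (W := Y) (E := P) (ι := 𝟙 Y) (j := 𝟙 P) (pW := q2)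
    (IsPullback.of_horiz_isIso ⟨by simp⟩)
  have hfib : Groth.L22.Cyc.FibGen (𝟙 P ≫ q1) (genericPoint P) := fun y _ hy =>
    (hy.antisymm (genericPoint_specializes y)).eq
  have hq : q1 (genericPoint P) = genericPoint X := by
    obtain ⟨p, hp, hpq⟩ := Flat.generalizingMap q1 (genericPoint_specializes (q1 (genericPoint P)))
    rw [← hpq, (hp.antisymm (genericPoint_specializes p)).eq]
  have h := hsh _ hfib
  simp only [Category.id_comp] at h
  rw [hq] at h
  simpa using h

include sq hX hY hP in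
/-- The product of the cycles pulled back from the two factors is the exterior product. -/
theorem prod_formula [Smooth (q1 ≫ f)] [IsSeparated (q1 ≫ f)] [QuasiCompact (q1 ≫ f)] [IsIntegral P]
    [IsIntegral X] [IsIntegral Y] [Flat q1] [Flat q2] (hsX : Cyc.IsSetup X δX) (hsY : Cyc.IsSetup Y δY)
    (hsP : Cyc.IsSetup P δP) {n m : ℤ} (hn : δX (genericPoint X) = n) (hm : δY (genericPoint Y) = m)
    (hnm : δP (genericPoint P) = n + m) {r s : ℤ} (α : AlgebraicCycle X ℤ) (β : AlgebraicCycle Y ℤ)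
    (hα : α ∈ Cyc.Zk X δX r) (hβ : β ∈ Cyc.Zk Y δY s) :
    _root_.IntMult.IntersectProperly δP (n + m) (Cyc.pullFun q1 δP δX m ⇑α) (Cyc.pullFun q2 δP δY n ⇑β) ∧
      _root_.IntMult.interProd δP (n + m) (Cyc.pullFun q1 δP δX m ⇑α) (Cyc.pullFun q2 δP δY n ⇑β) =
        Groth.L22.Kron.prodVal q1 q2 δX δY δP ⇑α ⇑β := by
  haveI := hsX.1
  haveI := hsY.1
  haveI := hsP.1
  have hs1 : Shift q1 δP δX m := by
    have h := shift_flat q1 (q1 ≫ f) f hP hX
    rwa [hnm, hn, add_sub_cancel_left] at h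
  have hs2 : Shift q2 δP δY n := by
    have h := shift_flat q2 (q1 ≫ f) g hP hY
    rwa [hnm, hm, add_sub_cancel_right] at h
  have hle := le_prod sq hX hY hP hsP.2.2
  have hne : ∀ {Z : Scheme.{u}} (q : P ⟶ Z) (δ : Z → ℤ) (c : ℤ) (a : Z → ℤ) (w : P),
      Cyc.pullFun q δP δ c a w ≠ 0 → δP w = δ (q w) + c ∧ a (q w) ≠ 0 := by
    intro Z q δ c a w h
    unfold Cyc.pullFun at h
    split_ifs at h with h1
    · exact ⟨h1, left_ne_zero_of_mul h⟩
    · exact absurd rfl h
  refine ⟨fun ξ η ζ h1 h2 h3 h4 => ?_, ?_⟩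
  · obtain ⟨e1, a1⟩ := hne _ _ _ _ _ h1
    obtain ⟨e2, a2⟩ := hne _ _ _ _ _ h2
    have hr : δX (q1 ξ) = r := by_contra fun hc => a1 (hα _ hc)
    have hs : δY (q2 η) = s := by_contra fun hc => a2 (hβ _ hc)
    have hx : δX (q1 ζ) ≤ δX (q1 ξ) := by
      by_cases hh : q1 ξ = q1 ζ
      · rw [hh]
      · exact (hsX.2.2 _ _ (h3.map q1.continuous) hh).1.le
    have hy : δY (q2 ζ) ≤ δY (q2 η) := by
      by_cases hh : q2 η = q2 ζ
      · rw [hh]
      · exact (hsY.2.2 _ _ (h4.map q2.continuous) hh).1.le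
    have := hle ζ
    omega
  funext z
  classical
  choose F hF hsupF hfunF using fun ξ : X => exists_module δX hsX.2.2 ξ
  choose G hG hsupG hfunG using fun η : Y => exists_module δY hsY.2.2 η
  have hbF : ∀ ξ y : X, Nontrivial ((F ξ).presheaf.stalk y) → δX y ≤ δX ξ := fun ξ y h => by
    by_cases hh : ξ = y
    · rw [hh]
    · exact (hsX.2.2 ξ y (hsupF ξ y h) hh).1.le
  have hbG : ∀ η y : Y, Nontrivial ((G η).presheaf.stalk y) → δY y ≤ δY η := fun η y h => by
    by_cases hh : η = y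
    · rw [hh]
    · exact (hsY.2.2 η y (hsupG η y h) hh).1.le
  have hPF := fun ξ => Groth.Agent.S6477.result X P q1 δX δP hsX hsP m hs1 (δX ξ) (F ξ) (hF ξ) (hbF ξ)
  have hPG := fun η => Groth.Agent.S6477.result Y P q2 δY δP hsY hsP n hs2 (δY η) (G η) (hG η) (hbG η)
  have hp1 : ∀ ξ, Cyc.pullFun q1 δP δX m (ind ξ) =
      Cyc.sheafFun δP (δX ξ + m) ((Scheme.Modules.pullback q1).obj (F ξ)) := fun ξ => by
    rw [← hfunF ξ]; exact (hPF ξ).2
  have hp2 : ∀ η, Cyc.pullFun q2 δP δY n (ind η) =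
      Cyc.sheafFun δP (δY η + n) ((Scheme.Modules.pullback q2).obj (G η)) := fun η => by
    rw [← hfunG η]; exact (hPG η).2
  set S := (finite_gen_cycle α (q1 z)).toFinset with hSd
  set T := (finite_gen_cycle β (q2 z)).toFinset with hTd
  have hlin : ∀ {Z : Scheme.{u}} [IsIntegral Z] (q : P ⟶ Z) (δ : Z → ℤ) (c : ℤ) (a : AlgebraicCycle Z ℤ) (w : P), w ⤳ z →
      Cyc.pullFun q δP δ c (⇑a) w = ∑ ξ ∈ (finite_gen_cycle a (q z)).toFinset, a ξ * Cyc.pullFun q δP δ c (ind ξ) w := by
    intro Z _ q δ c a w hw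
    unfold Cyc.pullFun
    split_ifs
    · rw [sum_ind (⇑a) _ (q w) (fun h => (finite_gen_cycle a (q z)).mem_toFinset.2 ⟨hw.map q.continuous, h⟩), Finset.sum_mul]
      exact Finset.sum_congr rfl fun ξ _ => mul_assoc _ _ _
    · simp
  rw [interProd_bilin δP (n + m) z S T (⇑α) (⇑β) (fun ξ => Cyc.pullFun q1 δP δX m (ind ξ))
    (fun η => Cyc.pullFun q2 δP δY n (ind η)) _ _ (hlin q1 δX m α) (hlin q2 δY n β)
    (fun ξ _ => by
      rw [hp1 ξ]
      haveI : Coh.IsQCoh (F ξ) := (hF ξ).1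
      exact finite_sheafFun_gen δP hsP.2.2 _ _ (Groth.L16.AffineBC.isCoh_pullback q1 (hF ξ)) (hPF ξ).1 z)
    (fun η _ => by
      rw [hp2 η]
      haveI : Coh.IsQCoh (G η) := (hG η).1
      exact finite_sheafFun_gen δP hsP.2.2 _ _ (Groth.L16.AffineBC.isCoh_pullback q2 (hG η)) (hPG η).1 z)]
  have hterm : ∀ ξ ∈ S, ∀ η ∈ T, _root_.IntMult.interProd δP (n + m) (Cyc.pullFun q1 δP δX m (ind ξ))
      (Cyc.pullFun q2 δP δY n (ind η)) z =
        if δP z = r + s ∧ ξ = q1 z ∧ η = q2 z then Groth.L22.Kron.lenSup q1 q2 z else 0 := by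
    intro ξ hξ η hη
    rw [hSd, Set.Finite.mem_toFinset] at hξ
    rw [hTd, Set.Finite.mem_toFinset] at hη
    have hr : δX ξ = r := by_contra fun hc => hξ.2 (hα _ hc)
    have hs : δY η = s := by_contra fun hc => hη.2 (hβ _ hc)
    haveI : Coh.IsQCoh (F ξ) := (hF ξ).1
    haveI : Coh.IsQCoh (G η) := (hG η).1
    rw [hp1 ξ, hp2 η, (sheaf_formula (q1 ≫ f) δP hP hsP (n + m) hnm _ _
      (Groth.L16.AffineBC.isCoh_pullback q1 (hF ξ)) (Groth.L16.AffineBC.isCoh_pullback q2 (hG η))
      (δX ξ + m) (δY η + n) (hPF ξ).1 (hPG η).1 (fun w h1 h2 => by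
        have := hle w
        have := hbF ξ _ (nontrivial_of_pullback q1 _ w h1)
        have := hbG η _ (nontrivial_of_pullback q2 _ w h2)
        omega)).2 z]
    by_cases hd : δP z = r + s
    swap
    · rw [if_neg (by omega), if_neg fun h => hd h.1]
    rw [if_pos (by omega)]
    by_cases hc : ξ = q1 z ∧ η = q2 z
    · rw [if_pos ⟨hd, hc⟩]
      obtain ⟨rfl, rfl⟩ := hc
      obtain ⟨eF⟩ := stalk_residue δX (F (q1 z)) (q1 z) (hfunF _)
      obtain ⟨eG⟩ := stalk_residue δY (G (q2 z)) (q2 z) (hfunG _)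
      exact chi_prod sq _ _ z eF eG
    · rw [if_neg fun h => hc h.2]
      refine chi_eq_zero_of_subsingleton _ _ ?_
      by_contra h0
      rw [not_or, not_subsingleton_iff_nontrivial, not_subsingleton_iff_nontrivial] at h0
      have h1 := nontrivial_of_pullback q1 _ z h0.1
      have h2 := nontrivial_of_pullback q2 _ z h0.2
      have := hle z
      have l1 := hbF ξ _ h1
      have l2 := hbG η _ h2
      refine hc ⟨by_contra fun hne' => ?_, by_contra fun hne' => ?_⟩
      · have := (hsX.2.2 ξ (q1 z) (hsupF ξ _ h1) hne').1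
        omega
      · have := (hsY.2.2 η (q2 z) (hsupG η _ h2) hne').1
        omega
  rw [Finset.sum_congr rfl fun ξ hξ => Finset.sum_congr rfl fun η hη => by rw [hterm ξ hξ η hη],
    Groth.L22.Kron.prodVal]
  by_cases hd : δP z = r + s
  · rw [Finset.sum_eq_single (q1 z) (fun ξ _ hne' => Finset.sum_eq_zero fun η _ => by
      rw [if_neg fun h => hne' h.2.1, mul_zero]) (fun hq => by
      have h0 : α (q1 z) = 0 := by
        by_contra h
        exact hq ((Set.Finite.mem_toFinset _).2 ⟨specializes_rfl, h⟩)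
      simp [h0]),
      Finset.sum_eq_single (q2 z) (fun η _ hne' => by rw [if_neg fun h => hne' h.2.2, mul_zero]) (fun hq => by
      have h0 : β (q2 z) = 0 := by
        by_contra h
        exact hq ((Set.Finite.mem_toFinset _).2 ⟨specializes_rfl, h⟩)
      simp [h0]), if_pos ⟨hd, rfl, rfl⟩]
    split_ifs with h
    · rfl
    · by_cases hr : δX (q1 z) = r
      · rw [hβ _ fun hs => h (by omega), mul_zero, zero_mul]
      · rw [hα _ hr, zero_mul, zero_mul]
  · rw [Finset.sum_eq_zero fun ξ _ => Finset.sum_eq_zero fun η _ => by rw [if_neg fun h => hd h.1, mul_zero]]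
    split_ifs with h
    · by_cases hr : δX (q1 z) = r
      · rw [hβ _ fun hs => hd (by omega), mul_zero, zero_mul]
      · rw [hα _ hr, zero_mul, zero_mul]
    · rfl

end Groth.L22.IntMult
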