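import Groth.Agent.L22.IntMult.PushFinite
import Groth.Agent.L22.IntMult.CyclePull
import Groth.Agent.L22.IntMult.DiagProd
import Groth.Agent.L22.IntMult.FlatGraph
import Groth.Agent.L16.Exist.PushPull

/-!
The projection formula for cycles along a proper flat morphism.
-/

set_option autoImplicit false
set_option linter.style.haveILetI false
set_option backward.isDefEq.respectTransparency false
set_option maxHeartbeats 800000

universe u

open CategoryTheory CategoryTheory.Limits AlgebraicGeometry IsLocalRing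
open Groth.L22.Chern (Shift)

noncomputable section

namespace Groth.L22.IntMult

variable {K : Type u} [Field K] {X Y : Scheme.{u}} (f : X ⟶ Y) [IsProper f] [Flat f]
  (gX : X ⟶ Spec (CommRingCat.of K)) (gY : Y ⟶ Spec (CommRingCat.of K))
  [Smooth gX] [IsSeparated gX] [QuasiCompact gX] [IsIntegral X]
  [Smooth gY] [IsSeparated gY] [QuasiCompact gY] [IsIntegral Y] {δX : X → ℤ} {δY : Y → ℤ}
  (hX : Cyc.IsSetup X δX) (hY : Cyc.IsSetup Y δY)
  (hδX : Cyc.DeltaCompat gX δX (fun _ => 0)) (hδY : Cyc.DeltaCompat gY δY (fun _ => 0))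
  (hδ : Cyc.DeltaCompat f δX δY) {n m : ℤ} {e : ℤ} (hn : δX (genericPoint X) = n)
  (hm : δY (genericPoint Y) = m) (he : e = n - m) (hsh : Shift f δX δY e)

theorem subsingleton_push_of_fibre (M : X.Modules) (hT : IsClosed (CohB1.support M)) (y : Y)
    (h : ∀ x, f x = y → x ∉ CohB1.support M) : Subsingleton (((Coh.push f).obj M).presheaf.stalk y) := by
  have hb := Groth.L22.Cyc.fibStalk_bijective f M f.isClosedMap hT y (∅ : Finset X) (by simp)
    (fun x hx hxT => absurd hxT (h x hx)) (fun i => absurd i.2 (Finset.notMem_empty _))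
    (fun i => absurd i.2 (Finset.notMem_empty _)) (fun i => absurd i.2 (Finset.notMem_empty _))
  exact ⟨fun a b => hb.1 (funext fun i => absurd i.2 (Finset.notMem_empty _))⟩

include hX in
/-- A point at which the dimension is maximal on a closed subset is isolated in its fibre. -/
theorem finite_fibre_of_top {V : Scheme.{u}} (ι : V ⟶ X) [IsClosedImmersion ι] [IsProper f] (y : Y) (T : Set X)
    (hT : IsClosed T) (hVT : ∀ t, f (ι t) = y → ι t ∈ T) (hb : ∀ x ∈ T, x ∈ Set.range ι → δX x ≤ δY y)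
    (heq : ∀ t, f (ι t) = y → δX (ι t) = δY y) : ((ι ≫ f) ⁻¹' {y}).Finite := by
  classical
  haveI := hX.1
  have hnhd : ∀ t, f (ι t) = y → ∃ N : X.Opens, ι t ∈ N ∧ ∀ t', f (ι t') = y → ι t' ∈ N → t' = t := by
    intro t ht
    have hmax : ∀ z ∈ T ∩ Set.range ι, z ⤳ ι t → z = ι t := by
      intro z hz hzx
      by_contra hne
      have h1 := (hX.2.2 z (ι t) hzx hne).1
      have h2 := hb z hz.1 hz.2
      have h3 := heq t ht
      omega
    obtain ⟨N, hN, hNT⟩ := Groth.L22.Cyc.exists_nhd_component (hT.inter ι.isClosedEmbedding.isClosed_range) hmax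
    refine ⟨N, hN, fun t' ht' hN' => ι.isClosedEmbedding.injective ?_⟩
    by_contra hne
    have h1 := (hX.2.2 (ι t) (ι t') (hNT _ hN' ⟨hVT t' ht', t', rfl⟩) (Ne.symm hne)).1
    have h2 := heq t ht
    have h3 := heq t' ht'
    omega
  choose N hN hNu using hnhd
  let O : V → Set V := fun t => if h : f (ι t) = y then ι ⁻¹' (N t h : Set X) else ∅
  have hO : ∀ t, IsOpen (O t) := fun t => by
    unfold O
    split_ifs
    · exact (N t _).2.preimage ι.continuous
    · exact isOpen_empty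
  have hc : IsCompact ((ι ≫ f) ⁻¹' {y}) := by
    rw [← Scheme.Hom.range_fiberι]
    exact isCompact_range ((ι ≫ f).fiberι y).continuous
  obtain ⟨s, hs⟩ := hc.elim_finite_subcover O hO fun t ht => Set.mem_iUnion.2 ⟨t, by
    show t ∈ O t
    unfold O
    rw [dif_pos (show f (ι t) = y from ht)]
    exact hN t ht⟩
  refine s.finite_toSet.subset fun t ht => ?_
  obtain ⟨t0, ht0, hmem⟩ := Set.mem_iUnion₂.1 (hs ht)
  unfold O at hmem
  split_ifs at hmem with h
  · exact (hNu t0 h t ht hmem) ▸ ht0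
  · exact hmem.elim

include gX gY hX hY hδX hδY hδ hn hm he hsh in
open Classical in
/-- The projection formula for a pair of points. -/
theorem pair_formula (ξ : X) (η : Y) (φ : AlgebraicCycle X ℤ) (hφ : ⇑φ = ind ξ)
    (hpair : ∀ x : X, ξ ⤳ x → η ⤳ f x → δX x ≤ δX ξ + δY η + e - n) (y : Y) :
    _root_.IntMult.interProd δY m ⇑(AlgebraicCycle.map f δX δY φ) (ind η) y =
      ∑ᶠ x ∈ f ⁻¹' {y}, _root_.IntMult.interProd δX n (ind ξ) (Cyc.pullFun f δX δY e (ind η)) x *
        ((AlgebraicCycle.mapCoeff f δX δY x : ℕ) : ℤ) := by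
  haveI := hX.1
  haveI := hY.1
  obtain ⟨V, ι, hι, hV, hgen, hrange⟩ := Groth.L16.CohClosedPush.exists_integral ξ
  haveI : IsLocallyNoetherian V := LocallyOfFiniteType.isLocallyNoetherian ι
  set F := (Coh.push ι).obj (Coh.structureModule V) with hFd
  have hF : Coh.IsCoh F := Groth.L16.CohClosedPush.isCoh_push ι Groth.L16.CohClosedPush.isCoh_structure
  have hsupF : ∀ x : X, Nontrivial (F.presheaf.stalk x) → ξ ⤳ x := fun x hx => by
    have h := Groth.L16.CohClosedPush.support_push_subset ι _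
      (show x ∈ CohB1.support _ from not_subsingleton_iff_nontrivial.2 hx)
    rw [hrange] at h
    exact specializes_iff_mem_closure.2 h
  have hbF : ∀ x : X, Nontrivial (F.presheaf.stalk x) → δX x ≤ δX ξ := fun x hx => by
    by_cases hh : ξ = x
    · rw [hh]
    · exact (hX.2.2 ξ x (hsupF x hx) hh).1.le
  have hcF : Cyc.sheafFun δX (δX ξ) F = ind ξ := by
    funext x
    unfold Cyc.sheafFun ind
    by_cases hx : x = ξ
    · subst hx
      rw [if_pos rfl, if_pos rfl]
      have h1 := Groth.L16.CohClosedPush.len_push_structure ι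
      rw [hgen] at h1
      show ((Groth.L16.CohSupport.len _ _).toNat : ℤ) = 1
      rw [h1]
      rfl
    · rw [if_neg hx]
      split_ifs with hd
      · rw [Module.length_eq_zero_iff.2 (not_nontrivial_iff_subsingleton.1 fun hn' => ?_)]
        · rfl
        · have := (hX.2.2 ξ x (hsupF x hn') (Ne.symm hx)).1
          omega
      · rfl
  obtain ⟨G, hG, hsupG, hcG⟩ := exists_module δY hY.2.2 η
  have hbG : ∀ y' : Y, Nontrivial (G.presheaf.stalk y') → δY y' ≤ δY η := fun y' h => by
    by_cases hh : η = y'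
    · rw [hh]
    · exact (hY.2.2 η y' (hsupG y' h) hh).1.le
  set H := (Coh.push f).obj F with hHd
  have hH : Coh.IsCoh H := Groth.L16.Exist.isCoh_pushforward f hF
  have hTF : IsClosed (CohB1.support F) := Groth.L16.CohSupport.isClosed_support F hF.2
  have hsupH : ∀ y' : Y, Nontrivial (H.presheaf.stalk y') → ∃ x, f x = y' ∧ Nontrivial (F.presheaf.stalk x) := by
    intro y' hy'
    by_contra h
    refine not_subsingleton_iff_nontrivial.2 hy' (subsingleton_push_of_fibre f F hTF y' fun x hx hxT => h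
      ⟨x, hx, not_subsingleton_iff_nontrivial.1 hxT⟩)
  have hdle : ∀ x, δY (f x) ≤ δX x := fun x => by
    obtain ⟨k, -, hk⟩ := hδ x
    omega
  have hbH : ∀ y' : Y, Nontrivial (H.presheaf.stalk y') → δY y' ≤ δX ξ := fun y' h => by
    obtain ⟨x, rfl, hx⟩ := hsupH y' h
    exact (hdle x).trans (hbF x hx)
  have hHG : ∀ y' : Y, Nontrivial (H.presheaf.stalk y') → Nontrivial (G.presheaf.stalk y') →
      δY y' ≤ δX ξ + δY η - m := fun y' h1 h2 => by
    obtain ⟨x, rfl, hx⟩ := hsupH y' h1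
    have := hpair x (hsupF x hx) (hsupG _ h2)
    have := hdle x
    omega
  have hpG := Groth.Agent.S6477.result Y X f δY δX hY hX e hsh (δY η) G hG hbG
  haveI : Coh.IsQCoh G := hG.1
  have hpull : Cyc.pullFun f δX δY e (ind η) =
      Cyc.sheafFun δX (δY η + e) ((Scheme.Modules.pullback f).obj G) := by
    rw [← hcG]; exact hpG.2
  rw [Groth.L22.Cyc.map_sheafFun f F δX δY hX hδ (δX ξ) hF hbF φ (hφ.trans hcF.symm), ← hHd, hpull, ← hcF,
    ← hcG, (sheaf_formula gY δY hδY hY m hm H G hH hG (δX ξ) (δY η) hbH hbG hHG).2 y]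
  have hval : ∀ x : X, _root_.IntMult.interProd δX n (Cyc.sheafFun δX (δX ξ) F)
      (Cyc.sheafFun δX (δY η + e) ((Scheme.Modules.pullback f).obj G)) x =
        if δX x = δX ξ + (δY η + e) - n then _root_.IntMult.chi (X.presheaf.stalk x) (F.presheaf.stalk x)
          (((Scheme.Modules.pullback f).obj G).presheaf.stalk x) else 0 :=
    (sheaf_formula gX δX hδX hX n hn F _ hF (Groth.L16.AffineBC.isCoh_pullback f hG) (δX ξ) (δY η + e) hbF
      hpG.1 (fun x h1 h2 => by
        have := hpair x (hsupF x h1) (hsupG _ (nontrivial_of_pullback f G x h2))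
        omega)).2
  simp only [hval]
  by_cases hy : δY y = δX ξ + δY η - m
  swap
  · rw [if_neg hy]
    refine (finsum_mem_eq_zero_of_forall_eq_zero fun x hx => ?_).symm
    rw [AlgebraicCycle.mapCoeff]
    split_ifs with h1 h2
    · exact absurd (by rw [show f x = y from hx] at h2; omega) hy
    all_goals simp
  rw [if_pos hy]
  by_cases hGy : Subsingleton (G.presheaf.stalk y)
  · rw [chi_eq_zero_of_subsingleton _ _ (Or.inr hGy)]
    refine (finsum_mem_eq_zero_of_forall_eq_zero fun x hx => ?_).symm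
    split_ifs
    · rw [chi_eq_zero_of_subsingleton _ _ (Or.inr ?_), zero_mul]
      by_contra h
      have h' := nontrivial_of_pullback f G x (not_subsingleton_iff_nontrivial.1 h)
      rw [show f x = y from hx] at h'
      exact not_subsingleton_iff_nontrivial.2 h' hGy
    · simp
  have hηy : η ⤳ y := hsupG y (not_subsingleton_iff_nontrivial.1 hGy)
  have hmemV : ∀ t, ξ ⤳ ι t := fun t => hgen ▸ (genericPoint_specializes t).map ι.continuous
  have hpt : ∀ t, f (ι t) = y → δX (ι t) = δY y ∧ f.residueDegree (ι t) ≠ 0 := by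
    intro t ht
    have := hpair (ι t) (hmemV t) (ht.symm ▸ hηy)
    obtain ⟨d, hd, hde⟩ := hδ (ι t)
    rw [ht] at hde
    have hd0 : d = 0 := by omega
    subst hd0
    refine ⟨by omega, (Groth.L22.Cyc.rtrdeg_eq_zero_iff f (ι t)).1 ?_⟩
    simpa [Groth.L22.Cyc.rtrdeg] using hd
  have hfib : ((ι ≫ f) ⁻¹' {y}).Finite := finite_fibre_of_top (δY := δY) f hX ι y (f ⁻¹' closure {η})
    (isClosed_closure.preimage f.continuous)
    (fun t ht => by rw [Set.mem_preimage, ht]; exact specializes_iff_mem_closure.1 hηy)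
    (fun x hx hxV => by
      obtain ⟨t, rfl⟩ := hxV
      have := hpair (ι t) (hmemV t) (specializes_iff_mem_closure.2 hx)
      omega)
    fun t ht => (hpt t ht).1
  haveI : IsRegularLocalRing (Y.presheaf.stalk y) := Groth.L21.Smooth.regular_stalk gY y
  haveI : Module.Finite (Y.presheaf.stalk y) (H.presheaf.stalk y) := Groth.L15.Ref.finite_stalk hH y
  haveI : Module.Finite (Y.presheaf.stalk y) (G.presheaf.stalk y) := Groth.L15.Ref.finite_stalk hG y
  obtain ⟨d, hd⟩ := exists_dim_nat (S := Y.presheaf.stalk y)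
  have hmeet : Meet (A := Y.presheaf.stalk y) (H.presheaf.stalk y) (G.presheaf.stalk y) := by
    intro q hq hq'
    have hle := hHG _ ((mem_support_iff_nontrivial hH q).1 hq) ((mem_support_iff_nontrivial hG q).1 hq')
    have heq := eq_of_delta δY hY (specializes_fromSpecStalk q) (by omega)
    exact congrArg PrimeSpectrum.asIdeal
      ((Y.fromSpecStalk y).isEmbedding.injective (heq.trans Scheme.fromSpecStalk_closedPoint.symm) :
        q = closedPoint _)
  rw [chi_push_fibre f ι y hfib (G.presheaf.stalk y) d (fun k hk => by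
      haveI := Groth.L04.hasProjectiveDimensionLE_of_regularLocal hd (ModuleCat.of (Y.presheaf.stalk y) (G.presheaf.stalk y))
      exact ModuleCat.subsingleton_of_isZero (Groth.L22.TorPd.isZero_tor_of_hasProjectiveDimensionLE
        (ModuleCat.of (Y.presheaf.stalk y) (H.presheaf.stalk y)) d
        (ModuleCat.of (Y.presheaf.stalk y) (G.presheaf.stalk y)) k hk))
    (fun k => length_tor_ne_top hmeet k)]
  have hval' : ∀ t : hfib.toFinset,
      letI := (fibMapV f ι (t : V) (hfib.mem_toFinset.1 t.2)).toAlgebra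
      _root_.IntMult.chi (Y.presheaf.stalk y) (V.presheaf.stalk (t : V)) (G.presheaf.stalk y) =
        (f.residueDegree (ι (t : V)) : ℤ) * _root_.IntMult.chi (X.presheaf.stalk (ι (t : V)))
          (F.presheaf.stalk (ι (t : V))) (((Scheme.Modules.pullback f).obj G).presheaf.stalk (ι (t : V))) := by
    intro t
    have ht : f (ι (t : V)) = y := hfib.mem_toFinset.1 t.2
    letI : Algebra (X.presheaf.stalk (ι (t : V))) (V.presheaf.stalk (t : V)) := (ι.stalkMap (t : V)).hom.toAlgebra
    obtain ⟨eM⟩ := push_stalk ι (t : V)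
    rw [chi_congr eM (LinearEquiv.refl _ _)]
    exact chi_local f (ι (t : V)) ht (hpt _ ht).2 G (V.presheaf.stalk (t : V))
  rw [Finset.sum_congr rfl fun t _ => hval' t]
  refine Eq.symm ((finsum_eq_sum_of_support_subset _ (s := hfib.toFinset.image ι) fun x hx => ?_).trans ?_)
  · rw [Function.mem_support, finsum_eq_if] at hx
    split_ifs at hx with h1 h2
    · rw [Finset.mem_coe, Finset.mem_image]
      by_cases hxV : x ∈ Set.range ι
      · obtain ⟨t, rfl⟩ := hxV
        exact ⟨t, hfib.mem_toFinset.2 h1, rfl⟩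
      · exact absurd (by
          rw [chi_eq_zero_of_subsingleton _ _ (Or.inl (not_nontrivial_iff_subsingleton.1 fun hn' => hxV (by
            rw [hrange]; exact specializes_iff_mem_closure.1 (hsupF x hn')))), zero_mul]) hx
    all_goals simp at hx
  · rw [Finset.sum_image fun a _ b _ h => ι.isClosedEmbedding.injective h, ← Finset.sum_coe_sort hfib.toFinset]
    refine Finset.sum_congr rfl fun t _ => ?_
    have ht : f (ι (t : V)) = y := hfib.mem_toFinset.1 t.2
    rw [finsum_eq_if, if_pos (show ι (t : V) ∈ f ⁻¹' {y} from ht), if_pos (by have := (hpt _ ht).1; omega),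
      AlgebraicCycle.mapCoeff, if_pos (by rw [(hpt _ ht).1]; exact congrArg δY ht.symm)]
    ring


theorem finsum_mem_sum {α β : Type*} (s : Set α) (t : Finset β) (g : β → α → ℤ)
    (h : ∀ b ∈ t, (s ∩ Function.support (g b)).Finite) :
    ∑ᶠ a ∈ s, ∑ b ∈ t, g b a = ∑ b ∈ t, ∑ᶠ a ∈ s, g b a := by
  classical
  induction t using Finset.induction with
  | empty => simp
  | insert b t hb ih =>
    simp only [Finset.sum_insert hb]
    rw [finsum_mem_add_distrib' (h b (Finset.mem_insert_self b t)), ih fun c hc => h c (Finset.mem_insert_of_mem hc)]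
    refine ((t.finite_toSet.biUnion fun c hc => h c (Finset.mem_insert_of_mem hc)).subset fun a ha => ?_)
    obtain ⟨c, hc, hne⟩ := Finset.exists_ne_zero_of_sum_ne_zero ha.2
    exact Set.mem_biUnion hc ⟨ha.1, hne⟩

include hY in
/-- A generic point of the pulled back point. -/
theorem exists_gen_over [IsLocallyNoetherian X] (hsh : Shift f δX δY e) (η : Y) (x : X) (h : η ⤳ f x) :
    ∃ z : X, z ⤳ x ∧ f z = η ∧ δX z = δY η + e ∧ ∀ β : Y → ℤ, β η ≠ 0 → Cyc.pullFun f δX δY e β z ≠ 0 := by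
  obtain ⟨w, hwx, hw⟩ := Flat.generalizingMap f h
  obtain ⟨z, hzw, hzs, hg⟩ := Groth.L22.Cyc.exists_fibGen f w
  have hfz : f z = η := hzw.trans hw
  refine ⟨z, hzs.trans hwx, hfz, hfz ▸ hsh z hg, fun β hβ => ?_⟩
  rw [Groth.L22.Cyc.pullFun_eq' f hsh]
  exact mul_ne_zero (hfz.symm ▸ hβ) (Int.natCast_ne_zero.2 (Groth.L22.Cyc.toNat_mult_pos hg).ne')

include gX gY hX hY hδX hδY hδ hn hm he hsh in
open Classical in
theorem pair_finite (ξ : X) (η : Y)
    (hpair : ∀ x : X, ξ ⤳ x → η ⤳ f x → δX x ≤ δX ξ + δY η + e - n) (y : Y) :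
    {x : X | f x = y ∧ _root_.IntMult.interProd δX n (ind ξ) (Cyc.pullFun f δX δY e (ind η)) x *
        ((AlgebraicCycle.mapCoeff f δX δY x : ℕ) : ℤ) ≠ 0}.Finite := by
  haveI := hX.1
  set S := {x : X | f x = y ∧ _root_.IntMult.interProd δX n (ind ξ) (Cyc.pullFun f δX δY e (ind η)) x *
        ((AlgebraicCycle.mapCoeff f δX δY x : ℕ) : ℤ) ≠ 0} with hS
  have hx : ∀ x ∈ S, ξ ⤳ x ∧ η ⤳ y ∧ δX x = δY y ∧ δX x = δX ξ + δY η + e - n := by
    rintro x ⟨hxy, hne⟩
    obtain ⟨h1, h2⟩ := mul_ne_zero_iff.1 hne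
    obtain ⟨p, hp⟩ : ∃ p, _ ≠ (0 : ℤ) := by_contra fun h => h1 (finsum_eq_zero_of_forall_eq_zero fun p => not_not.1 (not_exists.1 h p))
    obtain ⟨h11, h12⟩ := mul_ne_zero_iff.1 (left_ne_zero_of_mul hp)
    have e1 : p.1.1 = ξ := by
      by_contra h
      exact h11 (if_neg h)
    unfold Cyc.pullFun at h12
    split_ifs at h12 with hd
    swap; · exact absurd rfl h12
    have e2 : f p.1.2 = η := by
      by_contra h
      exact left_ne_zero_of_mul h12 (if_neg h)
    have hd' := p.2.2.2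
    rw [e1, hd, e2] at hd'
    have hcoef : δX x = δY (f x) := by
      by_contra h
      exact h2 (by rw [AlgebraicCycle.mapCoeff, if_neg h]; rfl)
    rw [hxy] at hcoef
    exact ⟨(specializes_of_eq e1.symm).trans p.2.1,
      (specializes_of_eq e2.symm).trans ((p.2.2.1.map f.continuous).trans (specializes_of_eq hxy)), hcoef, by omega⟩
  rcases S.eq_empty_or_nonempty with h | ⟨x0, hx0⟩
  · rw [h]; exact Set.finite_empty
  obtain ⟨hξ0, hηy, hd0, hd0'⟩ := hx x0 hx0
  obtain ⟨V, ι, hι, hV, hgen, hrange⟩ := Groth.L16.CohClosedPush.exists_integral ξ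
  have hmem : ∀ t, ξ ⤳ ι t := fun t => hgen ▸ (genericPoint_specializes t).map ι.continuous
  have hfib : ((ι ≫ f) ⁻¹' {y}).Finite := finite_fibre_of_top (δY := δY) f hX ι y (f ⁻¹' closure {η})
    (isClosed_closure.preimage f.continuous)
    (fun t ht => by rw [Set.mem_preimage, ht]; exact specializes_iff_mem_closure.1 hηy)
    (fun x hxT hxV => by
      obtain ⟨t, rfl⟩ := hxV
      have := hpair (ι t) (hmem t) (specializes_iff_mem_closure.2 hxT)
      omega)
    fun t ht => by
      have := hpair (ι t) (hmem t) (ht.symm ▸ hηy)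
      obtain ⟨d, -, hde⟩ := hδ (ι t)
      rw [ht] at hde
      omega
  refine (hfib.image ι).subset fun x hxS => ?_
  obtain ⟨t, rfl⟩ : x ∈ Set.range ι := by rw [hrange]; exact specializes_iff_mem_closure.1 (hx x hxS).1
  exact ⟨t, hxS.1, rfl⟩

include gX gY hX hY hδX hδY hδ hn hm he hsh in
open Classical in
/-- The projection formula. -/
theorem proj_formula {r s : ℤ} (α : AlgebraicCycle X ℤ) (β : AlgebraicCycle Y ℤ) (hα : α ∈ Cyc.Zk X δX r)
    (hβ : β ∈ Cyc.Zk Y δY s) (hprop : _root_.IntMult.IntersectProperly δX n ⇑α (Cyc.pullFun f δX δY e ⇑β))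
    (γ : AlgebraicCycle X ℤ) (hγ : ⇑γ = _root_.IntMult.interProd δX n ⇑α (Cyc.pullFun f δX δY e ⇑β)) :
    _root_.IntMult.IntersectProperly δY m ⇑(AlgebraicCycle.map f δX δY α) ⇑β ∧
      _root_.IntMult.interProd δY m ⇑(AlgebraicCycle.map f δX δY α) ⇑β = ⇑(AlgebraicCycle.map f δX δY γ) := by
  haveI := hX.1
  haveI := hY.1
  have hpair : ∀ ξ η, α ξ ≠ 0 → β η ≠ 0 → ∀ x : X, ξ ⤳ x → η ⤳ f x → δX x ≤ δX ξ + δY η + e - n := by
    intro ξ η h1 h2 x hξ hη
    obtain ⟨z, hzx, hfz, hdz, hne⟩ := exists_gen_over f hY hsh η x hη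
    have := hprop ξ z x h1 (hne _ h2) hξ hzx
    omega
  refine ⟨fun y' η ζ h1 h2 h3 h4 => ?_, funext fun y => ?_⟩
  · obtain ⟨x, hx, hne⟩ := exists_ne_zero_of_finsum_mem_ne_zero (s := f ⁻¹' {y'}) h1
    obtain ⟨w, hxw, hw⟩ := f.isClosedMap.specializingMap (show f x ⤳ ζ from (specializes_of_eq hx).trans h3)
    have hb := hpair x η (left_ne_zero_of_mul hne) h2 w hxw (h4.trans (specializes_of_eq hw.symm))
    have hc : δX x = δY (f x) := by
      by_contra h
      exact right_ne_zero_of_mul hne (by simp [AlgebraicCycle.mapCoeff, h])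
    obtain ⟨d, -, hde⟩ := hδ w
    rw [hw] at hde
    rw [show f x = y' from hx] at hc
    omega
  obtain ⟨U, hU, hyU, -⟩ := exists_isAffineOpen_mem_and_subset (x := y) (U := ⊤) trivial
  have hS := α.locallyFiniteSupport.finite_inter_support_of_isCompact (f.isCompact_preimage hU.isCompact)
  set S := hS.toFinset with hSd
  set T := (finite_gen_cycle β y).toFinset with hTd
  choose φ hφ using fun ξ : X => Groth.L22.C1.exists_cycle (ind ξ) fun x => ⟨⊤, trivial,
    (Set.finite_singleton ξ).subset fun z hz => by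
      by_contra h
      exact hz.1 (if_neg h)⟩
  choose ψ hψ using fun η : Y => Groth.L22.C1.exists_cycle (ind η) fun x => ⟨⊤, trivial,
    (Set.finite_singleton η).subset fun z hz => by
      by_contra h
      exact hz.1 (if_neg h)⟩
  have memS : ∀ z : X, f z ⤳ y → α z ≠ 0 → z ∈ S := fun z hz h => hS.mem_toFinset.2 ⟨hz.mem_open U.2 hyU, h⟩
  have memT : ∀ z : Y, z ⤳ y → β z ≠ 0 → z ∈ T := fun z hz h => (finite_gen_cycle β y).mem_toFinset.2 ⟨hz, h⟩
  have hmap : ∀ z : Y, z ⤳ y → AlgebraicCycle.map f δX δY α z = ∑ ξ ∈ S, α ξ * AlgebraicCycle.map f δX δY (φ ξ) z := by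
    intro z hz
    have h2 : ∀ ξ, AlgebraicCycle.map f δX δY (φ ξ) z =
        ∑ᶠ x ∈ f ⁻¹' {z}, ind ξ x * ((AlgebraicCycle.mapCoeff f δX δY x : ℕ) : ℤ) := fun ξ => by rw [← hφ ξ]; rfl
    have e1 : ∀ x ∈ f ⁻¹' {z}, α x * ((AlgebraicCycle.mapCoeff f δX δY x : ℕ) : ℤ) =
        ∑ ξ ∈ S, α ξ * (ind ξ x * ((AlgebraicCycle.mapCoeff f δX δY x : ℕ) : ℤ)) := fun x hx => by
      rw [sum_ind (⇑α) S x (memS x ((specializes_of_eq hx).trans hz)), Finset.sum_mul]
      exact Finset.sum_congr rfl fun ξ _ => mul_assoc _ _ _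
    simp only [h2]
    show (∑ᶠ x ∈ f ⁻¹' {z}, α x * _) = _
    rw [finsum_mem_congr rfl e1]
    have hfin : ∀ ξ : X, ((f ⁻¹' {z}) ∩ Function.support fun x =>
        α ξ * (ind ξ x * ((AlgebraicCycle.mapCoeff f δX δY x : ℕ) : ℤ))).Finite := fun ξ =>
      (Set.finite_singleton ξ).subset fun x hx => by
        by_contra h
        exact left_ne_zero_of_mul (right_ne_zero_of_mul hx.2) (if_neg h)
    rw [finsum_mem_sum _ _ _ fun ξ _ => hfin ξ]
    exact Finset.sum_congr rfl fun ξ _ => (mul_finsum_mem _ _).symm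
  rw [interProd_bilin δY m y S T (⇑α) (⇑β) (fun ξ => ⇑(AlgebraicCycle.map f δX δY (φ ξ))) ind _ _ hmap
    (fun z h => sum_ind _ _ z (memT z h))
    (fun ξ _ => (Set.finite_singleton (f ξ)).subset fun z hz => by
      obtain ⟨x, hx, hne⟩ := exists_ne_zero_of_finsum_mem_ne_zero (s := f ⁻¹' {z}) hz.2
      have hxe : x = ξ := by
        by_contra h
        exact left_ne_zero_of_mul hne (by rw [hφ]; exact if_neg h)
      exact (show f x = z from hx).symm.trans (by rw [hxe]))
    (fun η _ => (Set.finite_singleton η).subset fun z h => by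
      by_contra hz
      exact h.2 (if_neg hz))]
  show _ = ∑ᶠ x ∈ f ⁻¹' {y}, γ x * ((AlgebraicCycle.mapCoeff f δX δY x : ℕ) : ℤ)
  have e2 : ∀ x ∈ f ⁻¹' {y}, γ x * ((AlgebraicCycle.mapCoeff f δX δY x : ℕ) : ℤ) =
      ∑ p ∈ S ×ˢ T, α p.1 * β p.2 * (_root_.IntMult.interProd δX n (ind p.1) (Cyc.pullFun f δX δY e (ind p.2)) x *
        ((AlgebraicCycle.mapCoeff f δX δY x : ℕ) : ℤ)) := by
    intro x hx
    have hfx : f x = y := hx
    rw [hγ, interProd_bilin δX n x S T (⇑α) (⇑β) ind (fun η => Cyc.pullFun f δX δY e (ind η)) _ _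
      (fun z h => sum_ind _ _ z (memS z ((h.map f.continuous).trans (specializes_of_eq hfx))))
      (fun z h => ?_) (fun ξ _ => (Set.finite_singleton ξ).subset fun z h => by
        by_contra hz
        exact h.2 (if_neg hz)) (fun η _ => by
        have h := finite_gen_cycle (Groth.L22.Chern.pullC f hsh (ψ η)) x
        rw [Groth.L22.Chern.pullC_coe, hψ] at h
        exact h), Finset.sum_mul, Finset.sum_product]
    · refine Finset.sum_congr rfl fun ξ _ => ?_
      rw [Finset.sum_mul]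
      exact Finset.sum_congr rfl fun η _ => by ring
    · unfold Cyc.pullFun
      split_ifs
      · rw [sum_ind (⇑β) T (f z) (memT (f z) ((h.map f.continuous).trans (specializes_of_eq hfx))), Finset.sum_mul]
        exact Finset.sum_congr rfl fun η _ => mul_assoc _ _ _
      · simp
  rw [finsum_mem_congr rfl e2, finsum_mem_sum _ _ _ fun p hp => ?_, Finset.sum_product]
  · refine Finset.sum_congr rfl fun ξ hξ => Finset.sum_congr rfl fun η hη => ?_
    rw [← mul_finsum_mem, pair_formula f gX gY hX hY hδX hδY hδ hn hm he hsh ξ η (φ ξ) (hφ ξ)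
      (hpair ξ η (hS.mem_toFinset.1 hξ).2 ((finite_gen_cycle β y).mem_toFinset.1 hη).2) y]
  · rw [Finset.mem_product] at hp
    refine (pair_finite f gX gY hX hY hδX hδY hδ hn hm he hsh p.1 p.2
      (hpair p.1 p.2 (hS.mem_toFinset.1 hp.1).2 ((finite_gen_cycle β y).mem_toFinset.1 hp.2).2) y).subset fun x hx =>
        ⟨hx.1, right_ne_zero_of_mul hx.2⟩

end Groth.L22.IntMult
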