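import Groth.Agent.L22.IntMult.AssocGeom
import Groth.Agent.L22.IntMult.FlatTor

/-!
Primes of generizations under morphisms; a coherent sheaf against a prime cycle.
-/

set_option autoImplicit false
set_option linter.style.haveILetI false
set_option backward.isDefEq.respectTransparency false

universe u

open CategoryTheory CategoryTheory.Limits AlgebraicGeometry IsLocalRing Groth.L22.QuotLength
open scoped TensorProduct

noncomputable section

namespace Groth.L22.IntMult

variable {W X : Scheme.{u}}

theorem comap_stalkMap_ptPrime (g : W ⟶ X) {a x : W} (h : a ⤳ x) :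
    (ptPrime h).asIdeal.comap (g.stalkMap x).hom = (ptPrime (h.map g.continuous)).asIdeal := by
  show ((maximalIdeal _).comap _).comap _ = (maximalIdeal _).comap _
  rw [Ideal.comap_comap, ← CommRingCat.hom_comp, ← Scheme.Hom.stalkSpecializes_stalkMap, CommRingCat.hom_comp,
    ← Ideal.comap_comap]
  congr 1
  ext r
  rw [Ideal.mem_comap, mem_maximalIdeal, mem_maximalIdeal, mem_nonunits_iff, mem_nonunits_iff, isUnit_map_iff]

theorem ptPrime_genericPoint [IsIntegral W] (x : W) : (ptPrime (genericPoint_specializes x)).asIdeal = ⊥ := by
  show (maximalIdeal W.functionField).comap _ = ⊥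
  rw [show maximalIdeal W.functionField = ⊥ from IsLocalRing.maximalIdeal_eq_bot, ← RingHom.ker_eq_comap_bot, ← RingHom.injective_iff_ker_eq_bot]
  exact IsFractionRing.injective (W.presheaf.stalk x) W.functionField

theorem ker_stalkMap_eq_ptPrime [IsIntegral W] (g : W ⟶ X) (w : W) :
    RingHom.ker (g.stalkMap w).hom = (ptPrime ((genericPoint_specializes w).map g.continuous)).asIdeal := by
  rw [← comap_stalkMap_ptPrime g (genericPoint_specializes w), ptPrime_genericPoint, RingHom.ker_eq_comap_bot]

/-- The stalk of the direct image of an integral closed subscheme. -/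
theorem push_stalk_integral [IsIntegral W] (g : W ⟶ X) [IsClosedImmersion g] (w : W) :
    Nonempty (((Coh.push g).obj (Coh.structureModule W)).presheaf.stalk (g w) ≃ₗ[X.presheaf.stalk (g w)]
      ↑(X.presheaf.stalk (g w)) ⧸ (ptPrime ((genericPoint_specializes w).map g.continuous)).asIdeal) := by
  letI := (g.stalkMap w).hom.toAlgebra
  obtain ⟨e⟩ := push_stalk g w
  let l := Algebra.linearMap (X.presheaf.stalk (g w)) (W.presheaf.stalk w)
  have hk : LinearMap.ker l = (ptPrime ((genericPoint_specializes w).map g.continuous)).asIdeal :=
    ker_stalkMap_eq_ptPrime g w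
  exact ⟨e.trans ((Submodule.quotEquivOfEq _ _ hk.symm).trans
    (l.quotKerEquivOfSurjective (g.stalkMap_surjective w))).symm⟩

theorem sheafFun_push_integral [IsIntegral W] (g : W ⟶ X) [IsClosedImmersion g] (δ : X → ℤ) (hX : Cyc.IsSetup X δ)
    (r : ℤ) (hr : δ (g (genericPoint W)) = r) :
    Cyc.sheafFun δ r ((Coh.push g).obj (Coh.structureModule W)) = Set.indicator {g (genericPoint W)} 1 := by
  funext x
  unfold Cyc.sheafFun
  by_cases hx : x ∈ Set.range g
  · obtain ⟨w, rfl⟩ := hx
    split_ifs with hk
    · have heq : g (genericPoint W) = g w := by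
        by_contra hne
        have := (hX.2.2 _ _ ((genericPoint_specializes w).map g.continuous) hne).1
        rw [hr, hk] at this
        exact lt_irrefl _ this
      have hw : genericPoint W = w := g.isClosedEmbedding.injective heq
      subst hw
      obtain ⟨e⟩ := push_stalk_integral g (genericPoint W)
      rw [e.length_eq, Set.indicator_of_mem (Set.mem_singleton _)]
      have hmax : (ptPrime ((genericPoint_specializes (genericPoint W)).map g.continuous)).asIdeal =
          maximalIdeal (X.presheaf.stalk (g (genericPoint W))) := by
        show (maximalIdeal _).comap _ = _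
        rw [TopCat.Presheaf.stalkSpecializes_refl]
        rfl
      rw [(Submodule.quotEquivOfEq _ _ hmax).length_eq]
      haveI : IsSimpleModule (X.presheaf.stalk (g (genericPoint W)))
          (↑(X.presheaf.stalk (g (genericPoint W))) ⧸ maximalIdeal (X.presheaf.stalk (g (genericPoint W)))) :=
        isSimpleModule_iff_isCoatom.2 (Ideal.isMaximal_def.1 (maximalIdeal.isMaximal _))
      rw [Module.length_eq_one]
      rfl
    · rw [Set.indicator_of_notMem]
      exact fun h => hk (by rw [Set.mem_singleton_iff.1 h, hr])
  · haveI : Subsingleton (((Coh.push g).obj (Coh.structureModule W)).presheaf.stalk x) :=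
      Groth.L17.ClosedPush.subsingleton_stalk_push g _ hx
    rw [Module.length_eq_zero, Set.indicator_of_notMem fun h => hx ⟨_, (Set.mem_singleton_iff.1 h).symm⟩]
    simp

end Groth.L22.IntMult
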