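import Groth.Agent.L22.IntMult.SemiLocal
import Groth.Agent.L22.IntMult.FlatTor
import Groth.Agent.L22.Cyc.PushSheaf
import Groth.Agent.L22.Cyc.NormDiv
import Groth.Agent.L16.CohClosedPush
import Groth.Agent.L20.ModStalk

/-!
Tor with the direct image of a closed subvariety which is finite over the base point.
-/

set_option autoImplicit false
set_option linter.style.haveILetI false
set_option backward.isDefEq.respectTransparency false

universe u

open CategoryTheory CategoryTheory.Limits AlgebraicGeometry IsLocalRing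
open scoped TensorProduct

noncomputable section

namespace Groth.L22.IntMult

variable {X Y V : Scheme.{u}} (f : X ⟶ Y) (ι : V ⟶ X)

/-- The map of local rings from the base point to a point of the closed subscheme. -/
def fibMapV {y : Y} (t : V) (ht : f (ι t) = y) : Y.presheaf.stalk y →+* V.presheaf.stalk t :=
  (ι.stalkMap t).hom.comp (Groth.L22.Cyc.fibMap f (ι t) ht)

theorem fibMapV_germ {y : Y} (t : V) (ht : f (ι t) = y) {U : Y.Opens} (hy : y ∈ U) (b : Γ(Y, U)) :
    fibMapV f ι t ht (Y.presheaf.germ U y hy b) =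
      V.presheaf.germ (ι ⁻¹ᵁ (f ⁻¹ᵁ U)) t (show f (ι t) ∈ U from ht ▸ hy) (ι.app (f ⁻¹ᵁ U) (f.app U b)) := by
  subst ht
  show (ι.stalkMap t) ((f.stalkMap (ι t)) (Y.presheaf.stalkSpecializes _ (Y.presheaf.germ U (f (ι t)) hy b))) = _
  rw [TopCat.Presheaf.germ_stalkSpecializes_apply, Scheme.Hom.germ_stalkMap_apply, Scheme.Hom.germ_stalkMap_apply]

theorem isLocalHom_fibMapV {y : Y} (t : V) (ht : f (ι t) = y) : IsLocalHom (fibMapV f ι t ht) := by
  subst ht
  unfold fibMapV Groth.L22.Cyc.fibMap
  rw [TopCat.Presheaf.stalkSpecializes_refl]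
  haveI := f.toLRSHom.prop (ι t)
  haveI := ι.toLRSHom.prop t
  exact RingHom.isLocalHom_comp _ _

variable [IsProper f] [IsClosedImmersion ι] [IsLocallyNoetherian V] [IsLocallyNoetherian X]

/-- The stalk of the direct image splits in Euler characteristics over the fibre. -/
theorem chi_push_fibre (y : Y) (hfib : ((ι ≫ f) ⁻¹' {y}).Finite) (N : Type u) [AddCommGroup N]
    [Module (Y.presheaf.stalk y) N] (d : ℕ)
    (hd : ∀ k, d < k → Subsingleton (DRing.Tor (Y.presheaf.stalk y) k
      (((Coh.push f).obj ((Coh.push ι).obj (Coh.structureModule V))).presheaf.stalk y) N))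
    (hfin : ∀ k, Module.length (Y.presheaf.stalk y) (DRing.Tor (Y.presheaf.stalk y) k
      (((Coh.push f).obj ((Coh.push ι).obj (Coh.structureModule V))).presheaf.stalk y) N) ≠ ⊤) :
    letI := fun t : hfib.toFinset => (fibMapV f ι (t : V) (hfib.mem_toFinset.1 t.2)).toAlgebra
    _root_.IntMult.chi (Y.presheaf.stalk y)
        (((Coh.push f).obj ((Coh.push ι).obj (Coh.structureModule V))).presheaf.stalk y) N =
      ∑ t : hfib.toFinset, _root_.IntMult.chi (Y.presheaf.stalk y) (V.presheaf.stalk (t : V)) N := by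
  obtain ⟨U, hyU, hU, hW, hfinU⟩ := Groth.L22.Cyc.exists_isFinite_appLE (ι ≫ f) y hfib
  set H := (Coh.push f).obj ((Coh.push ι).obj (Coh.structureModule V)) with hH
  let A := Y.presheaf.stalk y
  let B := Γ(Y, U)
  let W : V.Opens := (ι ≫ f) ⁻¹ᵁ U
  let R := Γ(V, W)
  let φ : B →+* R := ((ι ≫ f).app U).hom
  letI : Algebra B R := φ.toAlgebra
  haveI : Module.Finite B R := by
    exact hfinU
  letI : Algebra B A := (Y.presheaf.germ U y hyU).hom.toAlgebra
  haveI : IsLocalization.AtPrime A (hU.primeIdealOf ⟨y, hyU⟩).asIdeal := hU.isLocalization_stalk ⟨y, hyU⟩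
  have hWt : ∀ t : hfib.toFinset, (t : V) ∈ W := fun t => by
    show f (ι (t : V)) ∈ U
    rw [show f (ι (t : V)) = y from hfib.mem_toFinset.1 t.2]
    exact hyU
  letI algA : ∀ t : hfib.toFinset, Algebra A (V.presheaf.stalk (t : V)) :=
    fun t => (fibMapV f ι (t : V) (hfib.mem_toFinset.1 t.2)).toAlgebra
  letI algR : ∀ t : hfib.toFinset, Algebra R (V.presheaf.stalk (t : V)) :=
    fun t => (V.presheaf.germ W (t : V) (hWt t)).hom.toAlgebra
  letI algB : ∀ t : hfib.toFinset, Algebra B (V.presheaf.stalk (t : V)) :=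
    fun t => ((V.presheaf.germ W (t : V) (hWt t)).hom.comp φ).toAlgebra
  haveI : ∀ t : hfib.toFinset, IsScalarTower B R (V.presheaf.stalk (t : V)) :=
    fun t => IsScalarTower.of_algebraMap_eq' rfl
  haveI : ∀ t : hfib.toFinset, IsScalarTower B A (V.presheaf.stalk (t : V)) :=
    fun t => IsScalarTower.of_algebraMap_eq fun b => ((fibMapV_germ f ι (t : V) _ hyU b).trans rfl).symm
  let p : hfib.toFinset → PrimeSpectrum R := fun t => hW.primeIdealOf ⟨(t : V), hWt t⟩
  haveI : ∀ t : hfib.toFinset, IsLocalization.AtPrime (V.presheaf.stalk (t : V)) (p t).asIdeal :=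
    fun t => hW.isLocalization_stalk ⟨(t : V), hWt t⟩
  have hpt : ∀ t, hW.fromSpec (p t) = (t : V) := fun t => hW.fromSpec_primeIdealOf _
  -- the stalk
  haveI hq : Coh.IsQCoh H := by
    haveI : Coh.IsQCoh ((Coh.push ι).obj (Coh.structureModule V)) :=
      (Groth.L16.CohClosedPush.isCoh_push ι Groth.L16.CohClosedPush.isCoh_structure).1
    exact Groth.L16.QcqsPush.isQCoh_push _ f
  letI := Groth.L20.ModStalk.stalkModule H hyU
  haveI : IsScalarTower B A (H.presheaf.stalk y) := IsScalarTower.of_algebraMap_smul fun _ _ => rfl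
  haveI := Groth.L20.ModStalk.isLocalizedModule_germ H hU hyU
  have hbc : IsBaseChange A (Groth.L20.ModStalk.germₗ H hyU) :=
    IsLocalizedModule.isBaseChange (hU.primeIdealOf ⟨y, hyU⟩).asIdeal.primeCompl A _
  let eM : Γ(H, U) ≃ₗ[B] R :=
    { toFun := fun m => m
      invFun := fun m => m
      map_add' := fun _ _ => rfl
      map_smul' := fun r m => rfl }
  let e : H.presheaf.stalk y ≃ₗ[A] A ⊗[B] R :=
    hbc.equiv.symm.trans (TensorProduct.AlgebraTensorModule.congr (LinearEquiv.refl A A) eM)
  rw [chi_congr e (LinearEquiv.refl A N)]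
  refine chi_semilocal (hU.primeIdealOf ⟨y, hyU⟩).asIdeal p (fun t : hfib.toFinset => V.presheaf.stalk (t : V))
    (fun s t h => Subtype.ext ((hpt s).symm.trans ((congrArg hW.fromSpec h).trans (hpt t)))) (fun t => ?_)
    (fun P hP => ?_) N d (fun k hk => ?_) fun k => ?_
  · rw [← IsLocalization.AtPrime.under_maximalIdeal (V.presheaf.stalk (t : V)) (p t).asIdeal,
      ← IsLocalization.AtPrime.under_maximalIdeal A (hU.primeIdealOf ⟨y, hyU⟩).asIdeal, Ideal.comap_comap,
      ← IsScalarTower.algebraMap_eq, IsScalarTower.algebraMap_eq B A (V.presheaf.stalk (t : V)), ← Ideal.comap_comap]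
    have hlh : IsLocalHom (algebraMap A (V.presheaf.stalk (t : V))) :=
      isLocalHom_fibMapV f ι (t : V) (hfib.mem_toFinset.1 t.2)
    exact congrArg _ (((local_hom_TFAE (algebraMap A (V.presheaf.stalk (t : V)))).out 0 4).1 hlh)
  · let Q : Spec R := P
    have hg : (ι ≫ f) (hW.fromSpec Q) = y := by
      have h : hU.fromSpec (Spec.map ((ι ≫ f).appLE U W le_rfl) Q) = (ι ≫ f) (hW.fromSpec Q) :=
        congrArg (fun m : Spec R ⟶ Y => m Q) (IsAffineOpen.SpecMap_appLE_fromSpec (ι ≫ f) hU hW le_rfl)
      rw [← h]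
      refine Eq.trans ?_ (hU.fromSpec_primeIdealOf ⟨y, hyU⟩)
      refine congrArg hU.fromSpec (PrimeSpectrum.ext ?_)
      show P.asIdeal.comap ((ι ≫ f).appLE U W le_rfl).hom = _
      rw [← Scheme.Hom.app_eq_appLE]
      exact hP
    refine ⟨⟨hW.fromSpec Q, hfib.mem_toFinset.2 hg⟩, ?_⟩
    exact hW.fromSpec.isOpenEmbedding.injective (hpt _)
  · haveI := hd k hk
    exact subsingleton_of_length k e
  · rw [← length_tor_congr k e (LinearEquiv.refl A N)]
    exact hfin k
where
  subsingleton_of_length {A : Type u} [CommRing A] {M M' N : Type u} [AddCommGroup M] [Module A M]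
      [AddCommGroup M'] [Module A M'] [AddCommGroup N] [Module A N] (k : ℕ) (e : M ≃ₗ[A] M')
      [Subsingleton (DRing.Tor A k M N)] : Subsingleton (DRing.Tor A k M' N) := by
    have h := length_tor_congr k e (LinearEquiv.refl A N)
    rw [Module.length_eq_zero] at h
    exact Module.length_eq_zero_iff.1 h.symm

/-- At a point of the source, passing to the source multiplies by the residue degree. -/
theorem chi_local [Flat f] {y : Y} (x : X) (hx : f x = y) (hdeg : f.residueDegree x ≠ 0) (G : Y.Modules)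
    (M : Type u) [AddCommGroup M] [Module (X.presheaf.stalk x) M] :
    letI := Module.compHom M (Groth.L22.Cyc.fibMap f x hx)
    _root_.IntMult.chi (Y.presheaf.stalk y) M (G.presheaf.stalk y) =
      (f.residueDegree x : ℤ) *
        _root_.IntMult.chi (X.presheaf.stalk x) M (((Scheme.Modules.pullback f).obj G).presheaf.stalk x) := by
  subst hx
  letI : Algebra (Y.presheaf.stalk (f x)) (X.presheaf.stalk x) := (f.stalkMap x).hom.toAlgebra
  letI : Module (Y.presheaf.stalk (f x)) M := Module.compHom _ (Groth.L22.Cyc.fibMap f x rfl)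
  haveI : IsScalarTower (Y.presheaf.stalk (f x)) (X.presheaf.stalk x) M :=
    IsScalarTower.of_algebraMap_smul fun r m => by
      show (f.stalkMap x).hom r • m = Groth.L22.Cyc.fibMap f x rfl r • m
      rw [Groth.L22.Cyc.fibMap, TopCat.Presheaf.stalkSpecializes_refl]
      rfl
  haveI : IsLocalHom (algebraMap (Y.presheaf.stalk (f x)) (X.presheaf.stalk x)) := f.toLRSHom.prop x
  haveI : Module.Flat (Y.presheaf.stalk (f x)) (X.presheaf.stalk x) := Flat.stalkMap f x
  letI : Algebra (Y.residueField (f x)) (X.residueField x) := (f.residueFieldMap x).hom.toAlgebra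
  have halg : algebraMap (ResidueField (Y.presheaf.stalk (f x)))
      (ResidueField (X.presheaf.stalk x)) = (f.residueFieldMap x).hom := by
    refine Ideal.Quotient.ringHom_ext (RingHom.ext fun r => ?_)
    rfl
  have hfr : Module.finrank (ResidueField (Y.presheaf.stalk (f x))) (ResidueField (X.presheaf.stalk x)) =
      f.residueDegree x :=
    Algebra.finrank_eq_of_equiv_equiv (RingEquiv.refl _) (RingEquiv.refl _)
      (by ext r; exact (RingHom.congr_fun halg _).symm)
  haveI : Module.Finite (ResidueField (Y.presheaf.stalk (f x))) (ResidueField (X.presheaf.stalk x)) :=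
    Module.finite_of_finrank_pos (Nat.pos_of_ne_zero (hfr ▸ hdeg))
  let eG : ((Scheme.Modules.pullback f).obj G).presheaf.stalk x ≃ₗ[X.presheaf.stalk x]
      X.presheaf.stalk x ⊗[Y.presheaf.stalk (f x)] G.presheaf.stalk (f x) :=
    ((Groth.L00.PullStalk.stalkIso f x).app G).toLinearEquiv
  rw [chi_restrict (O := X.presheaf.stalk x) M (G.presheaf.stalk (f x)), hfr,
    chi_congr (LinearEquiv.refl _ M) eG]

end Groth.L22.IntMult
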