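import Groth.Agent.L22.IntMult.TorSplit
import Mathlib.RingTheory.Ideal.GoingUp
import Mathlib.RingTheory.Localization.BaseChange
import Mathlib.RingTheory.Localization.LocalizationLocalization

/-!
Tor with the localization of a finite algebra at a prime of the base.
-/

set_option autoImplicit false
set_option linter.style.haveILetI false
set_option backward.isDefEq.respectTransparency false

universe u

open IsLocalRing
open scoped TensorProduct

noncomputable section

namespace Groth.L22.IntMult

theorem chi_semilocal {B A R : Type u} [CommRing B] [CommRing A] [CommRing R] [Algebra B A] [Algebra B R]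
    [Module.Finite B R] (q : Ideal B) [q.IsPrime] [IsLocalization.AtPrime A q]
    {ι : Type*} [Fintype ι] (p : ι → PrimeSpectrum R) (L : ι → Type u) [∀ i, CommRing (L i)] [∀ i, IsLocalRing (L i)]
    [∀ i, Algebra R (L i)] [∀ i, IsLocalization.AtPrime (L i) (p i).asIdeal]
    [∀ i, Algebra A (L i)] [∀ i, Algebra B (L i)] [∀ i, IsScalarTower B R (L i)] [∀ i, IsScalarTower B A (L i)]
    (hp : Function.Injective p) (hover : ∀ i, (p i).asIdeal.comap (algebraMap B R) = q)
    (hall : ∀ P : PrimeSpectrum R, P.asIdeal.comap (algebraMap B R) = q → ∃ i, p i = P)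
    (N : Type u) [AddCommGroup N] [Module A N] (d : ℕ)
    (hd : ∀ k, d < k → Subsingleton (DRing.Tor A k (A ⊗[B] R) N))
    (hfin : ∀ k, Module.length A (DRing.Tor A k (A ⊗[B] R) N) ≠ ⊤) :
    _root_.IntMult.chi A (A ⊗[B] R) N = ∑ i, _root_.IntMult.chi A (L i) N := by
  classical
  haveI : IsLocalRing A := IsLocalization.AtPrime.isLocalRing A q
  letI : Algebra R (A ⊗[B] R) := Algebra.TensorProduct.rightAlgebra
  haveI hloc : IsLocalization (Algebra.algebraMapSubmonoid R q.primeCompl) (A ⊗[B] R) := by
    haveI : IsScalarTower B R (A ⊗[B] R) := IsScalarTower.of_algebraMap_eq fun b => by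
      show algebraMap B (A ⊗[B] R) b = (1 : A) ⊗ₜ[B] algebraMap B R b
      rw [Algebra.algebraMap_eq_smul_one (A := R), TensorProduct.tmul_smul, ← Algebra.TensorProduct.one_def,
        ← Algebra.algebraMap_eq_smul_one]
    refine isLocalizedModule_iff_isLocalization.1 ((isLocalizedModule_iff_isBaseChange q.primeCompl A _).2 ?_)
    exact TensorProduct.isBaseChange B R A
  letI : ∀ i, Algebra (A ⊗[B] R) (L i) := fun i =>
    (Algebra.TensorProduct.lift (IsScalarTower.toAlgHom B A (L i)) (IsScalarTower.toAlgHom B R (L i))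
      fun _ _ => Commute.all _ _).toRingHom.toAlgebra
  haveI hAS : ∀ i, IsScalarTower A (A ⊗[B] R) (L i) := fun i => IsScalarTower.of_algebraMap_eq fun a => by
    show algebraMap A (L i) a = Algebra.TensorProduct.lift (IsScalarTower.toAlgHom B A (L i))
      (IsScalarTower.toAlgHom B R (L i)) (fun _ _ => Commute.all _ _) (a ⊗ₜ 1)
    simp
  haveI hRS : ∀ i, IsScalarTower R (A ⊗[B] R) (L i) := fun i => IsScalarTower.of_algebraMap_eq fun r => by
    show algebraMap R (L i) r = Algebra.TensorProduct.lift (IsScalarTower.toAlgHom B A (L i))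
      (IsScalarTower.toAlgHom B R (L i)) (fun _ _ => Commute.all _ _) ((1 : A) ⊗ₜ r)
    simp
  let n : ι → Ideal (A ⊗[B] R) := fun i => (maximalIdeal (L i)).comap (algebraMap (A ⊗[B] R) (L i))
  haveI hnp : ∀ i, (n i).IsPrime := fun i => Ideal.IsPrime.comap _
  have hpn : ∀ i, (n i).comap (algebraMap R (A ⊗[B] R)) = (p i).asIdeal := fun i => by
    show ((maximalIdeal (L i)).comap _).comap _ = _
    rw [Ideal.comap_comap, ← IsScalarTower.algebraMap_eq]
    exact IsLocalization.AtPrime.under_maximalIdeal (L i) (p i).asIdeal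
  haveI : Module.Finite A (A ⊗[B] R) := inferInstance
  have hA : ∀ m : Ideal (A ⊗[B] R), m.IsPrime → (m.comap (algebraMap R (A ⊗[B] R))).comap (algebraMap B R) = q →
      (m.comap (algebraMap A (A ⊗[B] R))) = maximalIdeal A := fun m hm h => by
    haveI := hm
    have hc : (algebraMap R (A ⊗[B] R)).comp (algebraMap B R) = (algebraMap A (A ⊗[B] R)).comp (algebraMap B A) :=
      RingHom.ext fun b => by
        show (1 : A) ⊗ₜ[B] algebraMap B R b = algebraMap B A b ⊗ₜ[B] (1 : R)
        rw [Algebra.algebraMap_eq_smul_one, Algebra.algebraMap_eq_smul_one, TensorProduct.tmul_smul,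
          TensorProduct.smul_tmul']
    rw [Ideal.comap_comap, hc, ← Ideal.comap_comap] at h
    refine le_antisymm (le_maximalIdeal (Ideal.IsPrime.comap (algebraMap A (A ⊗[B] R))).ne_top) ?_
    rw [← IsLocalization.AtPrime.map_eq_maximalIdeal q A, Ideal.map_le_iff_le_comap, h]
  haveI hnmax : ∀ i, (n i).IsMaximal := fun i => Ideal.isMaximal_of_isIntegral_of_isMaximal_comap (R := A) _ (by
    rw [hA (n i) (hnp i) (by rw [hpn i]; exact hover i)]
    exact maximalIdeal.isMaximal A)
  haveI : ∀ i, IsLocalization.AtPrime (L i) (n i) := fun i => by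
    have hle : Algebra.algebraMapSubmonoid R q.primeCompl ≤ (p i).asIdeal.primeCompl := by
      rintro _ ⟨b, hb, rfl⟩ h
      exact hb ((hover i).le h)
    haveI := IsLocalization.isLocalization_of_submonoid_le (A ⊗[B] R) (L i)
      (Algebra.algebraMapSubmonoid R q.primeCompl) (p i).asIdeal.primeCompl hle
    refine IsLocalization.of_le ((p i).asIdeal.primeCompl.map (algebraMap R (A ⊗[B] R))) _ ?_ fun s hs => ?_
    · rintro _ ⟨r, hr, rfl⟩ h
      exact hr ((hpn i).le h)
    · exact of_not_not fun h => hs ((mem_maximalIdeal _).2 h)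
  refine chi_split L n (fun i j h => hp (PrimeSpectrum.ext ((hpn i).symm.trans ((congrArg _ h).trans (hpn j)))))
    (fun m hm => ?_) N d hd hfin
  haveI := hm
  haveI : (m.comap (algebraMap A (A ⊗[B] R))).IsMaximal := Ideal.isMaximal_comap_of_isIntegral_of_isMaximal m
  have h1 : (m.comap (algebraMap R (A ⊗[B] R))).comap (algebraMap B R) = q := by
    have hc : (algebraMap R (A ⊗[B] R)).comp (algebraMap B R) = (algebraMap A (A ⊗[B] R)).comp (algebraMap B A) :=
      RingHom.ext fun b => by
        show (1 : A) ⊗ₜ[B] algebraMap B R b = algebraMap B A b ⊗ₜ[B] (1 : R)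
        rw [Algebra.algebraMap_eq_smul_one, Algebra.algebraMap_eq_smul_one, TensorProduct.tmul_smul,
          TensorProduct.smul_tmul']
    rw [Ideal.comap_comap, hc, ← Ideal.comap_comap, IsLocalRing.eq_maximalIdeal (I := m.comap _) inferInstance]
    exact IsLocalization.AtPrime.under_maximalIdeal A q
  obtain ⟨i, hi⟩ := hall ⟨m.comap (algebraMap R (A ⊗[B] R)), Ideal.IsPrime.comap _⟩ h1
  refine ⟨i, ?_⟩
  have h2 : (n i).comap (algebraMap R (A ⊗[B] R)) = m.comap (algebraMap R (A ⊗[B] R)) :=
    (hpn i).trans (congrArg PrimeSpectrum.asIdeal hi)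
  rw [← IsLocalization.map_under (Algebra.algebraMapSubmonoid R q.primeCompl) (A ⊗[B] R) (n i),
    ← IsLocalization.map_under (Algebra.algebraMapSubmonoid R q.primeCompl) (A ⊗[B] R) m]
  exact congrArg _ h2

end Groth.L22.IntMult
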