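import Groth.Agent.L22.IntMult.SheafFormula
import Groth.Agent.S1897
import Groth.Agent.S2428
import Groth.Agent.L22.Cyc.Mult
import Groth.Agent.L16.AffineBC.Pullback

/-!
Flat pullback of the intersection of the cycles of two coherent sheaves.
-/

set_option autoImplicit false
set_option linter.style.haveILetI false
set_option backward.isDefEq.respectTransparency false

universe u

open CategoryTheory CategoryTheory.Limits AlgebraicGeometry IsLocalRing

noncomputable section

namespace Groth.L22.IntMult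

theorem chi_eq_zero_of_subsingleton {A : Type u} [CommRing A] (M N : Type u) [AddCommGroup M] [Module A M]
    [AddCommGroup N] [Module A N] (h : Subsingleton M ∨ Subsingleton N) : _root_.IntMult.chi A M N = 0 := by
  refine finsum_eq_zero_of_forall_eq_zero fun i => ?_
  haveI : Subsingleton (DRing.Tor A i M N) := subsingleton_of_forall_eq 0 fun z => by
    rw [← one_smul A z]
    rcases h with h | h
    · exact smul_tor_eq_zero i _ _ (fun m => Subsingleton.elim _ _) z
    · exact smul_tor_eq_zero' i _ _ (fun m => Subsingleton.elim _ _) z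
  rw [Module.length_eq_zero]
  simp

theorem chi_pullback {X Y : Scheme.{u}} (f : X ⟶ Y) [Flat f] (F G : Y.Modules) (x : X) :
    _root_.IntMult.chi (X.presheaf.stalk x) (((Scheme.Modules.pullback f).obj F).presheaf.stalk x)
        (((Scheme.Modules.pullback f).obj G).presheaf.stalk x) =
      _root_.IntMult.chi (Y.presheaf.stalk (f x)) (F.presheaf.stalk (f x)) (G.presheaf.stalk (f x)) *
        ((Groth.L22.Cyc.mult f x).toNat : ℤ) := by
  letI : Algebra (Y.presheaf.stalk (f x)) (X.presheaf.stalk x) := (f.stalkMap x).hom.toAlgebra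
  haveI : Module.Flat (Y.presheaf.stalk (f x)) (X.presheaf.stalk x) := Flat.stalkMap f x
  haveI : IsLocalHom (algebraMap (Y.presheaf.stalk (f x)) (X.presheaf.stalk x)) := f.toLRSHom.prop x
  let eF : ((Scheme.Modules.pullback f).obj F).presheaf.stalk x ≃ₗ[X.presheaf.stalk x]
      TensorProduct (Y.presheaf.stalk (f x)) (X.presheaf.stalk x) (F.presheaf.stalk (f x)) :=
    ((Groth.L00.PullStalk.stalkIso f x).app F).toLinearEquiv
  let eG : ((Scheme.Modules.pullback f).obj G).presheaf.stalk x ≃ₗ[X.presheaf.stalk x]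
      TensorProduct (Y.presheaf.stalk (f x)) (X.presheaf.stalk x) (G.presheaf.stalk (f x)) :=
    ((Groth.L00.PullStalk.stalkIso f x).app G).toLinearEquiv
  simp only [_root_.IntMult.chi]
  rw [finsum_mul]
  refine finsum_congr fun i => ?_
  obtain ⟨e⟩ := Groth.Agent.S2428.result (Y.presheaf.stalk (f x)) (X.presheaf.stalk x)
    (F.presheaf.stalk (f x)) (G.presheaf.stalk (f x)) i
  rw [length_tor_congr i eF eG, ← e.length_eq, Groth.L22.Cyc.length_tensor,
    ← (Algebra.TensorProduct.quotIdealMapEquivTensorQuot (X.presheaf.stalk x)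
      (maximalIdeal (Y.presheaf.stalk (f x)))).toLinearEquiv.length_eq, ENat.toNat_mul, Nat.cast_mul, ← mul_assoc]
  rfl

variable {K : Type u} [Field K] {X Y : Scheme.{u}} (f : X ⟶ Y) [Flat f] [LocallyOfFiniteType f]
  (gX : X ⟶ Spec (CommRingCat.of K)) (gY : Y ⟶ Spec (CommRingCat.of K))
  [Smooth gX] [IsSeparated gX] [QuasiCompact gX] [IsIntegral X]
  [Smooth gY] [IsSeparated gY] [QuasiCompact gY] [IsIntegral Y] (δX : X → ℤ) (δY : Y → ℤ)

theorem pull_formula (hX : Cyc.IsSetup X δX) (hY : Cyc.IsSetup Y δY)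
    (hδX : Cyc.DeltaCompat gX δX (fun _ => 0)) (hδY : Cyc.DeltaCompat gY δY (fun _ => 0))
    (hδ : Cyc.DeltaCompat f δX δY) (n m : ℤ) (hn : δX (genericPoint X) = n) (hm : δY (genericPoint Y) = m)
    (e : ℕ) (he : (e : ℤ) = n - m) (hrel : Cyc.HasRelDim f e) (F G : Y.Modules) (hF : Coh.IsCoh F)
    (hG : Coh.IsCoh G) (r s : ℤ) (hr : ∀ y : Y, Nontrivial (F.presheaf.stalk y) → δY y ≤ r)
    (hs : ∀ y : Y, Nontrivial (G.presheaf.stalk y) → δY y ≤ s)
    (hrs : ∀ y : Y, Nontrivial (F.presheaf.stalk y) → Nontrivial (G.presheaf.stalk y) → δY y ≤ r + s - m) :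
    _root_.IntMult.IntersectProperly δX n (Cyc.sheafFun δX (r + e) ((Scheme.Modules.pullback f).obj F))
        (Cyc.sheafFun δX (s + e) ((Scheme.Modules.pullback f).obj G)) ∧
      Cyc.pullFun f δX δY e (_root_.IntMult.interProd δY m (Cyc.sheafFun δY r F) (Cyc.sheafFun δY s G)) =
        _root_.IntMult.interProd δX n (Cyc.sheafFun δX (r + e) ((Scheme.Modules.pullback f).obj F))
          (Cyc.sheafFun δX (s + e) ((Scheme.Modules.pullback f).obj G)) := by
  haveI := hX.1
  haveI := hY.1
  have hc : ∀ x, Groth.L22.Cyc.FibGen f x → δX x = δY (f x) + (e : ℤ) :=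
    fun x h => Groth.L22.Cyc.shift_of_deltaCompat f hrel hδ x h
  have hle : ∀ x, δX x ≤ δY (f x) + (e : ℤ) := fun x => Groth.L22.Cyc.le_shift (p := f) hX.2.2 hc x
  have hnt : ∀ (H : Y.Modules) (x : X), Nontrivial (((Scheme.Modules.pullback f).obj H).presheaf.stalk x) →
      Nontrivial (H.presheaf.stalk (f x)) := fun H x h => by
    letI : Algebra (Y.presheaf.stalk (f x)) (X.presheaf.stalk x) := (f.stalkMap x).hom.toAlgebra
    by_contra h0
    haveI := not_nontrivial_iff_subsingleton.1 h0
    haveI : Subsingleton (TensorProduct (Y.presheaf.stalk (f x)) (X.presheaf.stalk x) (H.presheaf.stalk (f x))) :=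
      subsingleton_of_forall_eq 0 fun z => by
        induction z using TensorProduct.induction_on with
        | zero => rfl
        | tmul a b => rw [Subsingleton.elim b 0, TensorProduct.tmul_zero]
        | add a b ha hb => rw [ha, hb, add_zero]
    refine not_subsingleton_iff_nontrivial.2 h ?_
    let eH : ((Scheme.Modules.pullback f).obj H).presheaf.stalk x ≃ₗ[X.presheaf.stalk x]
        TensorProduct (Y.presheaf.stalk (f x)) (X.presheaf.stalk x) (H.presheaf.stalk (f x)) :=
      ((Groth.L00.PullStalk.stalkIso f x).app H).toLinearEquiv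
    exact eH.injective.subsingleton
  haveI : Coh.IsQCoh F := hF.1
  have hF' : Coh.IsCoh ((Scheme.Modules.pullback f).obj F) := Groth.L16.AffineBC.isCoh_pullback f hF
  have hG' : Coh.IsCoh ((Scheme.Modules.pullback f).obj G) := Groth.L16.AffineBC.isCoh_pullback f hG
  obtain ⟨hp, hX'⟩ := sheaf_formula gX δX hδX hX n hn _ _ hF' hG' (r + e) (s + e)
    (fun x h => by have := hr _ (hnt F x h); have := hle x; omega)
    (fun x h => by have := hs _ (hnt G x h); have := hle x; omega)
    (fun x h h' => by have := hrs _ (hnt F x h) (hnt G x h'); have := hle x; omega)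
  obtain ⟨-, hY'⟩ := sheaf_formula gY δY hδY hY m hm F G hF hG r s hr hs hrs
  refine ⟨hp, ?_⟩
  rw [Groth.L22.Cyc.pullFun_eq f hX.2.2 hc]
  funext x
  rw [hX' x]
  show _root_.IntMult.interProd δY m (Cyc.sheafFun δY r F) (Cyc.sheafFun δY s G) (f x) *
    ((Groth.L22.Cyc.mult f x).toNat : ℤ) = _
  rw [hY' (f x)]
  by_cases hy : δY (f x) = r + s - m
  · rw [if_pos hy]
    by_cases hg : Groth.L22.Cyc.FibGen f x
    · rw [if_pos (by have := hc x hg; omega), chi_pullback]
    · rw [Groth.L22.Cyc.mult_eq_top hg]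
      split_ifs
      · rw [chi_pullback, Groth.L22.Cyc.mult_eq_top hg]
      · simp
  · rw [if_neg hy, zero_mul]
    split_ifs with h
    · rw [chi_pullback, chi_eq_zero_of_subsingleton, zero_mul]
      by_contra h0
      rw [not_or, not_subsingleton_iff_nontrivial, not_subsingleton_iff_nontrivial] at h0
      have := hrs _ h0.1 h0.2
      have := hle x
      omega
    · rfl

end Groth.L22.IntMult
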