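import Groth.Agent.L22.IntMult.SheafPull
import Groth.Agent.L22.IntMult.DiagTor
import Groth.Agent.L28.TorBC
import Mathlib.RingTheory.Flat.CategoryTheory
import Mathlib.RingTheory.LocalRing.Length

/-!
Tor with a semi-local algebra splits, in lengths, over its maximal ideals.
-/

set_option autoImplicit false
set_option linter.style.haveILetI false
set_option backward.isDefEq.respectTransparency false

universe u

open CategoryTheory CategoryTheory.Limits MonoidalCategory IsLocalRing
open scoped TensorProduct

noncomputable section

namespace Groth.L22.IntMult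

variable {A S : Type u} [CommRing A] [CommRing S] [Algebra A S]

/-- Tor with an algebra, as a module over it. -/
def torMod (N : ModuleCat.{u} A) (i : ℕ) : ModuleCat.{u} S :=
  (Groth.L28.TorBC.bcCx (A' := S) (projectiveResolution N).complex).homology i

theorem tor_flat_module (L : Type u) [AddCommGroup L] [Module S L] [Module A L] [IsScalarTower A S L]
    [Module.Flat S L] (N : Type u) [AddCommGroup N] [Module A N] (i : ℕ) :
    ∃ φ : DRing.Tor A i L N →ₛₗ[algebraMap A S] L ⊗[S] torMod (S := S) (ModuleCat.of A N) i,
      Function.Bijective φ := by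
  let R := projectiveResolution (ModuleCat.of A N)
  let C := Groth.L28.TorBC.bcCx (A' := S) R.complex
  let F : ModuleCat.{u} S ⥤ ModuleCat.{u} S := tensorLeft (ModuleCat.of S L)
  haveI : Module.Flat S (ModuleCat.of S L) := ‹Module.Flat S L›
  haveI : PreservesFiniteLimits F := inferInstance
  haveI : F.Additive := inferInstance
  haveI : F.PreservesHomology := inferInstance
  let e' : ((F.mapHomologicalComplex (ComplexShape.down ℕ)).obj C).homology i ≅ F.obj (C.homology i) :=
    (C.sc i).mapHomologyIso F
  refine Groth.L28.TorBC.semilinear_conj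
    (R.isoLeftDerivedObj ((tensoringLeft _).obj (ModuleCat.of A L)) i) e'
    (Groth.L28.TorBC.semilinear_homology (fun j => ?_) (fun j => ?_) (fun j x => ?_) i)
  · exact (show (L ⊗[A] R.complex.X j) →ₛₗ[algebraMap A S] (L ⊗[S] (S ⊗[A] R.complex.X j)) from
    { toFun := fun x =>
        (TensorProduct.AlgebraTensorModule.cancelBaseChange A S S L (R.complex.X j)).symm x
      map_add' := fun x y => map_add _ x y
      map_smul' := fun a x => by
        show (TensorProduct.AlgebraTensorModule.cancelBaseChange A S S L (R.complex.X j)).symm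
          (a • (x : L ⊗[A] R.complex.X j)) = _
        rw [← algebraMap_smul S a (x : L ⊗[A] R.complex.X j), map_smul] })
  · exact (TensorProduct.AlgebraTensorModule.cancelBaseChange A S S L (R.complex.X j)).symm.bijective
  · show (TensorProduct.AlgebraTensorModule.cancelBaseChange A S S L (R.complex.X j)).symm
        ((R.complex.d (j + 1) j).hom.lTensor L x) =
      (C.d (j + 1) j).hom.lTensor L
        ((TensorProduct.AlgebraTensorModule.cancelBaseChange A S S L (R.complex.X (j + 1))).symm x)
    rw [Groth.L28.TorBC.bcCx_d]
    induction (x : L ⊗[A] R.complex.X (j + 1)) using TensorProduct.induction_on with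
    | zero => simp only [map_zero]
    | tmul m y =>
      rw [LinearMap.lTensor_tmul, TensorProduct.AlgebraTensorModule.cancelBaseChange_symm_tmul,
        TensorProduct.AlgebraTensorModule.cancelBaseChange_symm_tmul]
      exact (congrArg (m ⊗ₜ[S] ·) (LinearMap.baseChange_tmul _ _ _)).symm
    | add x y hx hy => rw [map_add, map_add]; simp only [hx, hy, map_add]

theorem length_of_semilinear_alg {M N : Type u} [AddCommGroup M] [Module A M] [AddCommGroup N] [Module S N]
    [Module A N] [IsScalarTower A S N] (φ : M →ₛₗ[algebraMap A S] N) (hφ : Function.Bijective φ) :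
    Module.length A M = Module.length A N :=
  (LinearEquiv.ofBijective (show M →ₗ[A] N from
    { toFun := φ
      map_add' := map_add φ
      map_smul' := fun a x => (φ.map_smulₛₗ a x).trans (algebraMap_smul S a (φ x)) }) hφ).length_eq

section Split

variable {ι : Type*} [Fintype ι] (L : ι → Type u) [∀ i, CommRing (L i)] [∀ i, IsLocalRing (L i)] [∀ i, Algebra S (L i)]
  [∀ i, Algebra A (L i)] [∀ i, IsScalarTower A S (L i)] (n : ι → Ideal S) [∀ i, (n i).IsMaximal]
  [∀ i, IsLocalization.AtPrime (L i) (n i)] (hinj : Function.Injective n)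
  (hall : ∀ m : Ideal S, m.IsMaximal → ∃ i, n i = m)

include hinj hall in
theorem sum_length_quot (m : Ideal S) [m.IsMaximal] :
    Module.length A (S ⧸ m) = ∑ i, Module.length A (L i ⊗[S] (S ⧸ m)) := by
  obtain ⟨i, hi⟩ := hall m inferInstance
  have e : ∀ j, Module.length A (L j ⊗[S] (S ⧸ m)) = Module.length A (L j ⧸ m.map (algebraMap S (L j))) := fun j =>
    (((Algebra.TensorProduct.quotIdealMapEquivTensorQuot (L j) m).toLinearEquiv.restrictScalars A).length_eq).symm
  rw [Finset.sum_eq_single i (fun j _ hj => ?_) (fun h => absurd (Finset.mem_univ i) h), e]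
  · subst hi
    rw [IsLocalization.AtPrime.map_eq_maximalIdeal (n i) (L i)]
    refine LinearEquiv.length_eq ?_
    exact
    { (IsLocalization.AtPrime.equivQuotMaximalIdeal (n i) (L i)).toAddEquiv with
      map_smul' := fun a x => by
        show IsLocalization.AtPrime.equivQuotMaximalIdeal (n i) (L i) (a • x) =
          a • IsLocalization.AtPrime.equivQuotMaximalIdeal (n i) (L i) x
        rw [Algebra.smul_def, Algebra.smul_def, map_mul]
        refine congrArg (· * _) ?_
        rw [IsScalarTower.algebraMap_apply A S (S ⧸ n i), Ideal.Quotient.algebraMap_eq,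
          IsLocalization.AtPrime.equivQuotMaximalIdeal_apply_mk, IsScalarTower.algebraMap_apply A (L i) (L i ⧸ _),
          IsScalarTower.algebraMap_apply A S (L i)]
        rfl }
  · rw [e]
    have htop : m.map (algebraMap S (L j)) = ⊤ := by
      obtain ⟨s, hs, hs'⟩ : ∃ s ∈ m, s ∉ n j := SetLike.not_le_iff_exists.1 fun h =>
        hj (hinj ((hi.trans ((inferInstance : m.IsMaximal).eq_of_le (inferInstance : (n j).IsMaximal).ne_top h)).symm))
      exact Ideal.eq_top_of_isUnit_mem _ (Ideal.mem_map_of_mem _ hs)
        (IsLocalization.map_units (L j) (⟨s, hs'⟩ : (n j).primeCompl))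
    haveI : Subsingleton (L j ⧸ m.map (algebraMap S (L j))) := Ideal.Quotient.subsingleton_iff.2 htop
    exact Module.length_eq_zero

include hinj hall in
theorem sum_length_split (T : Type u) [AddCommGroup T] [Module S T] (h : IsFiniteLength S T) :
    ∀ [Module A T] [IsScalarTower A S T], Module.length A T = ∑ i, Module.length A (L i ⊗[S] T) := by
  haveI : ∀ i, Module.Flat S (L i) := fun i => IsLocalization.flat (L i) (n i).primeCompl
  induction h with
  | of_subsingleton =>
    intro _ _
    rw [Module.length_eq_zero, Finset.sum_eq_zero fun i _ => Module.length_eq_zero]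
  | @of_simple_quotient M _ _ N _ hN ih =>
    intro _ _
    let f : N →ₗ[A] M := N.subtype.restrictScalars A
    let g : M →ₗ[A] M ⧸ N := N.mkQ.restrictScalars A
    rw [Module.length_eq_add_of_exact f g Subtype.val_injective (Submodule.mkQ_surjective N)
      (LinearMap.exact_subtype_mkQ N)]
    have e : ∀ i, Module.length A (L i ⊗[S] M) =
        Module.length A (L i ⊗[S] N) + Module.length A (L i ⊗[S] (M ⧸ N)) := fun i =>
      Module.length_eq_add_of_exact ((N.subtype.lTensor (L i)).restrictScalars A) ((N.mkQ.lTensor (L i)).restrictScalars A)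
        (Module.Flat.lTensor_preserves_injective_linearMap _ Subtype.val_injective)
        (LinearMap.lTensor_surjective _ (Submodule.mkQ_surjective N))
        (Module.Flat.lTensor_exact _ (LinearMap.exact_subtype_mkQ N))
    simp only [e, Finset.sum_add_distrib, ← ih]
    congr 1
    obtain ⟨m, hm, ⟨q⟩⟩ := isSimpleModule_iff_quot_maximal.1 (inferInstance : IsSimpleModule S (M ⧸ N))
    haveI := hm
    rw [(q.restrictScalars A).length_eq, sum_length_quot L n hinj hall m]
    exact Finset.sum_congr rfl fun i _ =>
      (((TensorProduct.AlgebraTensorModule.congr (LinearEquiv.refl S (L i)) q).restrictScalars A).length_eq).symm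

include hinj hall in
theorem chi_split (N : Type u) [AddCommGroup N] [Module A N] (d : ℕ)
    (hd : ∀ k, d < k → Subsingleton (DRing.Tor A k S N)) (hfin : ∀ k, Module.length A (DRing.Tor A k S N) ≠ ⊤) :
    _root_.IntMult.chi A S N = ∑ i, _root_.IntMult.chi A (L i) N := by
  haveI : ∀ i, Module.Flat S (L i) := fun i => IsLocalization.flat (L i) (n i).primeCompl
  have key : ∀ k, Module.length A (DRing.Tor A k S N) = ∑ i, Module.length A (DRing.Tor A k (L i) N) := by
    intro k
    let T := torMod (S := S) (ModuleCat.of A N) k
    letI : Module A T := Module.compHom _ (algebraMap A S)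
    haveI : IsScalarTower A S T := IsScalarTower.of_algebraMap_smul fun _ _ => rfl
    obtain ⟨φ, hφ⟩ := tor_flat_module (A := A) (S := S) (L := S) N k
    have hT : Module.length A (DRing.Tor A k S N) = Module.length A T :=
      (length_of_semilinear_alg φ hφ).trans ((TensorProduct.lid S T).restrictScalars A).length_eq
    have hfl : IsFiniteLength S T := by
      obtain ⟨h1, h2⟩ := isFiniteLength_iff_isNoetherian_isArtinian.1
        (Module.length_ne_top_iff.1 (hT ▸ hfin k : Module.length A T ≠ ⊤))
      exact isFiniteLength_iff_isNoetherian_isArtinian.2 ⟨isNoetherian_of_tower A h1, isArtinian_of_tower A h2⟩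
    rw [hT, sum_length_split L n hinj hall T hfl]
    refine Finset.sum_congr rfl fun i _ => ?_
    obtain ⟨ψ, hψ⟩ := tor_flat_module (A := A) (S := S) (L := L i) N k
    exact (length_of_semilinear_alg ψ hψ).symm
  have hne : ∀ k i, Module.length A (DRing.Tor A k (L i) N) ≠ ⊤ := fun k i h => hfin k (by
    rw [key k, ← top_le_iff, ← h]
    exact Finset.single_le_sum (f := fun i => Module.length A (DRing.Tor A k (L i) N)) (fun _ _ => bot_le) (Finset.mem_univ i))
  have hz : ∀ k, d < k → ∀ i, Module.length A (DRing.Tor A k (L i) N) = 0 := fun k hk i => by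
    have h := key k
    haveI := hd k hk
    rw [Module.length_eq_zero] at h
    exact Finset.sum_eq_zero_iff.1 h.symm i (Finset.mem_univ i)
  have expand : ∀ (M : Type u) [AddCommGroup M] [Module A M], (∀ k, d < k → Module.length A (DRing.Tor A k M N) = 0) →
      _root_.IntMult.chi A M N =
        ∑ k ∈ Finset.range (d + 1), (-1 : ℤ) ^ k * ((Module.length A (DRing.Tor A k M N)).toNat : ℤ) := by
    intro M _ _ hM
    refine finsum_eq_sum_of_support_subset _ fun k hk => ?_
    rw [Finset.coe_range, Set.mem_Iio]
    by_contra hlt
    exact hk (by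
      show (-1 : ℤ) ^ k * _ = 0
      rw [hM k (by omega)]; simp)
  rw [expand S fun k hk => by haveI := hd k hk; exact Module.length_eq_zero,
    Finset.sum_congr rfl fun (i : ι) _ => expand (L i) fun k hk => hz k hk i, Finset.sum_comm]
  refine Finset.sum_congr rfl fun k _ => ?_
  rw [key k, ENat.toNat_sum fun i _ => hne k i, Nat.cast_sum, Finset.mul_sum]

end Split

/-- Restriction of scalars along a local homomorphism multiplies by the residue degree. -/
theorem chi_restrict {O : Type u} [CommRing O] [Algebra A O] [IsLocalRing A] [IsLocalRing O]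
    [IsLocalHom (algebraMap A O)] [Module.Flat A O] [Module.Finite (ResidueField A) (ResidueField O)]
    (M : Type u) [AddCommGroup M] [Module O M] [Module A M] [IsScalarTower A O M] (N : Type u) [AddCommGroup N]
    [Module A N] :
    _root_.IntMult.chi A M N =
      (Module.finrank (ResidueField A) (ResidueField O) : ℤ) * _root_.IntMult.chi O M (O ⊗[A] N) := by
  simp only [_root_.IntMult.chi]
  rw [mul_finsum]
  refine finsum_congr fun i => ?_
  obtain ⟨φ, hφ⟩ := Groth.Agent.S4494.result A O M N i
  letI : Module A (DRing.Tor O i M (O ⊗[A] N)) := Module.compHom _ (algebraMap A O)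
  haveI : IsScalarTower A O (DRing.Tor O i M (O ⊗[A] N)) := IsScalarTower.of_algebraMap_smul fun _ _ => rfl
  rw [length_of_semilinear_alg φ hφ, IsLocalRing.length_restrictScalars A O _, Module.length_eq_finrank,
    ENat.toNat_mul, ENat.toNat_natCast, Nat.cast_mul]
  ring

end Groth.L22.IntMult
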